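import Cfsg.Agent.Lib.Fusion.Transport
import Cfsg.Agent.Lib.Fusion.Alperin

/-!
A fusion system over `S ≤ Ω` as a fusion system over the group `↥S`, and its essential subgroups.
-/

set_option autoImplicit false
set_option linter.unusedSectionVars false
set_option linter.style.haveILetI false

namespace Cfsg.Agent.LocalFlavell.MaxClass.Push

open Cfsg Cfsg.FusionSystem Cfsg.Agent.Fusion.Basic Cfsg.Agent.Fusion.Saturation
  Cfsg.Agent.Fusion.Transport Cfsg.Agent.Fusion.Alperin
open Subgroup (subgroupOf)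

variable {Ω : Type*} [Group Ω]

/-- `S` as the top subgroup of itself. -/
noncomputable def iso (S : Subgroup Ω) : Iso S (⊤ : Subgroup ↥S) where
  fwd x := open Classical in if h : x ∈ S then ⟨x, h⟩ else 1
  bwd y := (y : Ω)
  to_mem _ _ := Subgroup.mem_top _
  inv_mem y _ := y.2
  to_mul x hx y hy := by
    rw [dif_pos hx, dif_pos hy, dif_pos (S.mul_mem hx hy)]
    rfl
  inv_to x hx := by rw [dif_pos hx]
  to_inv y _ := by rw [dif_pos y.2]

theorem iso_fwd {S : Subgroup Ω} {x : Ω} (hx : x ∈ S) : (iso S).fwd x = ⟨x, hx⟩ := dif_pos hx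

theorem im_fwd {S P : Subgroup Ω} (hP : P ≤ S) : im (iso S).fwd P = P.subgroupOf S := by
  ext y
  rw [Subgroup.mem_subgroupOf]
  exact ((iso S).inv_mem_iff hP (Subgroup.mem_top y)).symm

theorem im_bwd {S : Subgroup Ω} (P' : Subgroup ↥S) : im (iso S).bwd P' = P'.map S.subtype := by
  refine le_antisymm (im_le fun y hy => ⟨y, hy, rfl⟩) ?_
  rintro _ ⟨y, hy, rfl⟩
  exact mem_im_self (fun y : ↥S => (y : Ω)) hy

variable {S : Subgroup Ω} [Finite S]

theorem normalizerIn_subgroupOf {P : Subgroup Ω} (hP : P ≤ S) :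
    normalizerIn (⊤ : Subgroup ↥S) (P.subgroupOf S) = (normalizerIn S P).subgroupOf S := by
  haveI : Finite P := finite_of_le hP
  ext g
  rw [Subgroup.mem_subgroupOf]
  refine ⟨fun hg => ⟨g.2, mem_normalizer_of_forall fun x hx => ?_⟩, fun hg => ⟨Subgroup.mem_top g, ?_⟩⟩
  · exact Subgroup.mem_subgroupOf.1
      ((Subgroup.mem_normalizer_iff.1 hg.2 ⟨x, hP hx⟩).1 (Subgroup.mem_subgroupOf.2 hx))
  · refine mem_normalizer_of_forall fun x hx => ?_
    rw [Subgroup.mem_subgroupOf] at hx ⊢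
    exact (Subgroup.mem_normalizer_iff.1 hg.2 _).1 hx

theorem card_normalizerIn {P : Subgroup Ω} (hP : P ≤ S) :
    Nat.card (normalizerIn (⊤ : Subgroup ↥S) (P.subgroupOf S)) = Nat.card (normalizerIn S P) := by
  rw [normalizerIn_subgroupOf hP]
  exact Nat.card_congr (Subgroup.subgroupOfEquivOfLe normalizerIn_le).toEquiv

variable {F : FusionSystem S} {p : ℕ} [Fact p.Prime] {E : Subgroup Ω}

theorem fullyNormalized (hE : F.IsFullyNormalized E) :
    (push (iso S) F).IsFullyNormalized (E.subgroupOf S) := by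
  refine ⟨le_top, fun Q' hQ => ?_⟩
  obtain ⟨f', hf', rfl⟩ := isConj_iff_map.1 hQ
  obtain ⟨-, -, hm⟩ := (isMap_push_iff _).1 hf'
  rw [im_bwd, Subgroup.map_subgroupOf_eq_of_le hE.1] at hm
  set f := fun x => (iso S).bwd (f' ((iso S).fwd x)) with hf
  have himg : img f' (E.subgroupOf S) = (img f E).subgroupOf S := by
    ext y
    rw [Subgroup.mem_subgroupOf, hf'.mem_img, hm.mem_img]
    refine ⟨?_, ?_⟩
    · rintro ⟨x, hx, rfl⟩
      exact ⟨x, Subgroup.mem_subgroupOf.1 hx, by rw [hf]; show (f' ((iso S).fwd x) : Ω) = _; rw [iso_fwd x.2]⟩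
    · rintro ⟨x, hx, he⟩
      refine ⟨⟨x, hE.1 hx⟩, Subgroup.mem_subgroupOf.2 hx, Subtype.ext ?_⟩
      rw [← he, hf]
      show _ = (f' ((iso S).fwd x) : Ω)
      rw [iso_fwd (hE.1 hx)]
  rw [himg, card_normalizerIn hm.img_le_S, card_normalizerIn hE.1]
  exact hE.2 _ hm.isConj

theorem essential (hS : IsPGroup p S) (hF : F.IsSaturated p) (hE : F.IsEssential p E) :
    IsPGroup p (⊤ : Subgroup ↥S) ∧ (push (iso S) F).IsSaturated p ∧
      (push (iso S) F).IsEssential p (E.subgroupOf S) := by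
  have hlt := essential_lt hS hF hE
  have hES := hlt.le
  have hS' : IsPGroup p (⊤ : Subgroup ↥S) := hS.to_subgroup ⊤
  have hsat := push_saturated (iso S) hS hF
  refine ⟨hS', hsat, ?_⟩
  have hlt' : E.subgroupOf S < (⊤ : Subgroup ↥S) := by
    rw [lt_top_iff_ne_top, Ne, Subgroup.subgroupOf_eq_top]
    exact hlt.not_ge
  rw [essential_iff hS' hsat hlt' (fullyNormalized hE.2.1)]
  intro heq
  refine (essential_iff hS hF hlt hE.2.1).1 hE (le_antisymm (extGroup_le hES) fun α hα => ?_)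
  have key : ∀ {α' : MulAut (E.subgroupOf S)}, α' ∈ extGroup (push (iso S) F) (E.subgroupOf S) →
      ∀ {α : MulAut E}, (∀ x : E, ∀ hx : (⟨(x : Ω), hES x.2⟩ : S) ∈ E.subgroupOf S,
        ((α x : E) : Ω) = (((α' ⟨_, hx⟩ : E.subgroupOf S) : S) : Ω)) → α ∈ extGroup F E := by
    let e : E.subgroupOf S ≃* E := Subgroup.subgroupOfEquivOfLe hES
    have hle : (extGroup (push (iso S) F) (E.subgroupOf S)).map (MulAut.congr e).toMonoidHom ≤ extGroup F E := by
      rw [extGroup, MonoidHom.map_closure, Subgroup.closure_le]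
      rintro _ ⟨β, ⟨Q', f', hQ', hf', he⟩, rfl⟩
      obtain ⟨-, -, hm⟩ := (isMap_push_iff _).1 hf'
      rw [im_bwd] at hm
      refine Subgroup.subset_closure ⟨Q'.map S.subtype, _, ?_, hm, fun x hx => ?_⟩
      · rw [← Subgroup.map_subgroupOf_eq_of_le hES]
        exact (Subgroup.map_lt_map_iff_of_injective S.subtype_injective).2 hQ'
      · show ((f' ((iso S).fwd x) : S) : Ω) = _
        rw [iso_fwd (hES hx), he ⟨x, hES hx⟩ (Subgroup.mem_subgroupOf.2 hx), autFun_of_mem _ hx,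
          autFun_of_mem _ (Subgroup.mem_subgroupOf.2 hx)]
        rfl
    intro α' hα' α hαe
    have h := hle ⟨α', hα', rfl⟩
    have : MulAut.congr e α' = α := by
      refine MulEquiv.ext fun x => Subtype.ext ?_
      rw [hαe x (Subgroup.mem_subgroupOf.2 x.2)]
      rfl
    exact this ▸ h
  have himE := im_fwd (S := S) hES
  obtain ⟨β, hβ, hβe⟩ : ∃ β ∈ (push (iso S) F).autGroup (E.subgroupOf S),
      ∀ x ∈ E, autFun β ((iso S).fwd x) = (iso S).fwd (autFun α x) := by
    rw [← himE]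
    exact exists_aut_push (iso S) hES hα
  refine key (heq ▸ hβ) fun x hx => ?_
  have h := hβe x x.2
  rw [iso_fwd (hES x.2), autFun_of_mem β hx, autFun_apply, iso_fwd (hES (α x).2)] at h
  exact (congrArg Subtype.val h).symm

end Cfsg.Agent.LocalFlavell.MaxClass.Push
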