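import Cfsg.Agent.GStructB.MaxClass
import Cfsg.Agent.Lib.Components.RegularPGroup
import Cfsg.Agent.Lib.Fusion.RankTwoResistant.Abelian
import Cfsg.Agent.Lib.PGroups.MaximalClass
import Cfsg.Agent.Lib.CharP.Basic

/-!
Essential subgroups of order at most `p ^ 3`: pearls or elementary abelian of order `p ^ 3`.
-/

set_option autoImplicit false
set_option linter.unusedSectionVars false
set_option linter.style.haveILetI false

open Cfsg

namespace Cfsg.Agent.LocalFlavell.MaxClass.Shapes

open Subgroup
open Cfsg.Agent.PGroups.MaximalClass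
open scoped commutatorElement

variable {Ω : Type*} [Group Ω] {S : Subgroup Ω} [Finite S] {F : Cfsg.FusionSystem S} {p : ℕ}
  [hp : Fact p.Prime] {E : Subgroup Ω}

/-- A nonabelian essential subgroup of order `p ^ 3` has exponent `p`. -/
theorem pow_eq_one (hS : IsPGroup p S) (hp2 : p ≠ 2) (hE : F.IsEssential p E) (h3 : Nat.card E = p ^ 3)
    (hnaE : ¬ ∀ a b : E, a * b = b * a) : ∀ a : E, a ^ p = 1 := by
  have hpp := hp.out
  haveI : Finite E := Fusion.Saturation.finite_of_le hE.1.1
  have hEp : IsPGroup p E := hS.to_le hE.1.1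
  have hZ : Nat.card (center E) = p := GStructB.MaxClass.card_center h3 hnaE
  have hQ : Nat.card (E ⧸ center E) = p ^ 2 := by
    have h1 := (center E).card_eq_card_quotient_mul_card_subgroup
    rw [h3, hZ, pow_succ] at h1
    exact (Nat.eq_of_mul_eq_mul_right hpp.pos h1).symm
  have hpow : ∀ a : E, a ^ p ∈ center E := by
    intro a
    have := pow_eq_one_of_not_cyclic (p := p) hQ (fun hcyc => hnaE fun a b =>
      (MonoidHom.isMulCommutative_of_isCyclic_of_ker_le_center (QuotientGroup.mk' (center E))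
        (by simp)).is_comm.comm a b) (QuotientGroup.mk' (center E) a)
    rw [← map_pow] at this
    exact (QuotientGroup.eq_one_iff _).mp this
  have hW : Components.RegularPGroup.Weak p E := by
    refine Components.RegularPGroup.weak_of_class hEp (le_bot_iff.mp ?_)
    haveI := hEp.isNilpotent
    have h1 : (⊤ : Subgroup E).lowerCentralSeries 2 = ⊥ := lcs_eq_bot (p := p) (m := 3) (by omega) h3
    refine (Subgroup.lowerCentralSeries_antitone _ ?_).trans h1.le
    have := hpp.two_le; omega
  set T := Components.RegularPGroup.omegaSub hW 1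
  have hT : ∀ {a : E}, a ∈ T ↔ a ^ p = 1 := by
    intro a; show a ^ p ^ 1 = 1 ↔ _; rw [pow_one]
  by_contra hne
  push Not at hne
  obtain ⟨a₀, ha₀⟩ := hne
  have hTne : T ≠ ⊤ := fun e => ha₀ (hT.mp (e ▸ mem_top a₀))
  have hTc : Nat.card T ≤ p ^ 2 := by
    obtain ⟨i, hi⟩ := IsPGroup.iff_card.mp (hEp.to_subgroup T)
    have h1 : Nat.card T < Nat.card E := lt_of_not_ge fun hge =>
      hTne (eq_top_of_card_eq _ (le_antisymm (card_le_card_group _) hge))
    rw [h3, hi, Nat.pow_lt_pow_iff_right hpp.one_lt] at h1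
    rw [hi]
    exact Nat.pow_le_pow_right hpp.pos (by omega)
  have hZT : center E ≤ T := fun z hz => hT.mpr (by
    have := pow_card_eq_one' (G := center E) (x := ⟨z, hz⟩)
    rw [hZ] at this
    exact congrArg Subtype.val this)
  have hTidx : T.index ≤ p := by
    rw [index_eq_card, ← hZ]
    refine Nat.card_le_card_of_injective (fun w => (⟨w.out ^ p, hpow _⟩ : center E)) fun a b e => ?_
    rw [← QuotientGroup.out_eq' a, ← QuotientGroup.out_eq' b, QuotientGroup.eq, hT]
    have h1 : (a.out⁻¹) ^ p = (b.out⁻¹) ^ p := by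
      rw [inv_pow, inv_pow]; exact congrArg (·⁻¹) (congrArg Subtype.val e)
    have h2 := (Components.RegularPGroup.pow_eq_iff 1 E hW a.out⁻¹ b.out⁻¹).mp (by rwa [pow_one])
    rwa [pow_one, inv_inv] at h2
  let C : ℕ → Subgroup E := fun i => if i = 0 then ⊥ else if i = 1 then center E else if i = 2 then T else ⊤
  refine Fusion.EssentialShape.no_series hE hS C 3 (by simp [C]) (by simp [C]) ?_ ?_ ?_
  · intro i hi
    interval_cases i <;> simp [C, hZT]
  · intro i hi a y hy
    interval_cases i
    · simp only [C, if_pos rfl, mem_bot] at hy ⊢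
      rw [hy, map_one]
    · simp only [C, one_ne_zero, if_false, if_true] at hy ⊢
      rw [mem_center_iff] at hy ⊢
      intro b
      have := congrArg a (hy (a.symm b))
      simpa using this
    · simp only [C, show (2 : ℕ) ≠ 0 by omega, show (2 : ℕ) ≠ 1 by omega, if_false, if_true] at hy ⊢
      rw [hT] at hy ⊢
      rw [← map_pow, hy, map_one]
    · simp [C]
  · intro i hi
    interval_cases i
    · simp [C, relIndex_bot_left, hZ]
    · simp only [C, one_ne_zero, if_false, if_true, show (1 + 1 : ℕ) ≠ 0 by omega,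
        show (1 + 1 : ℕ) ≠ 1 by omega]
      refine Nat.le_of_mul_le_mul_left ?_ hpp.pos
      calc p * (center E).relIndex T = Nat.card (center E) * (center E).relIndex T := by rw [hZ]
        _ = Nat.card T := by
          rw [← Nat.card_congr (subgroupOfEquivOfLe hZT).toEquiv]; exact card_mul_index _
        _ ≤ p * p := by rw [← pow_two]; exact hTc
    · simpa [C] using hTidx

theorem extraspecial (hS : IsPGroup p S) (hp2 : p ≠ 2) (hE : F.IsEssential p E) (h3 : Nat.card E = p ^ 3)
    (hnaE : ¬ ∀ a b : E, a * b = b * a) : IsExtraspecial p E ∧ Monoid.exponent E = p := by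
  have hpp := hp.out
  haveI : Finite E := Fusion.Saturation.finite_of_le hE.1.1
  have hEp : IsPGroup p E := hS.to_le hE.1.1
  have hexp := pow_eq_one hS hp2 hE h3 hnaE
  have hZ : Nat.card (center E) = p := GStructB.MaxClass.card_center h3 hnaE
  have hQ : Nat.card (E ⧸ center E) = p ^ 2 := by
    have h1 := (center E).card_eq_card_quotient_mul_card_subgroup
    rw [h3, hZ, pow_succ] at h1
    exact (Nat.eq_of_mul_eq_mul_right hpp.pos h1).symm
  have hab : ∀ a b : E ⧸ center E, Commute a b :=
    GStructB.MaxClass.comm_of_card (p := p) le_rfl hQ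
  have hcom : commutator E = center E := by
    have hle : commutator E ≤ center E := by
      rw [_root_.commutator_def, commutator_le]
      intro a _ b _
      rw [← QuotientGroup.eq_one_iff]
      show QuotientGroup.mk' (center E) ⁅a, b⁆ = 1
      rw [map_commutatorElement, commutatorElement_eq_one_iff_commute]
      exact hab _ _
    have hne : commutator E ≠ ⊥ := fun h => hnaE fun a b => by
      have h1 : ⁅a, b⁆ ∈ commutator E := commutator_mem_commutator (mem_top a) (mem_top b)
      rw [h, mem_bot] at h1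
      exact commutatorElement_eq_one_iff_mul_comm.mp h1
    refine eq_of_le_of_card_ge hle ?_
    rw [hZ]
    rcases (Nat.dvd_prime hpp).mp (hZ ▸ card_dvd_of_le hle) with h | h
    · exact absurd ((commutator E).card_eq_one.mp h) hne
    · exact h.ge
  haveI := hEp.isNilpotent
  have hfr : frattini E = center E := by
    refine le_antisymm ?_ (hcom ▸ Coprime.commutator_le_frattini E)
    have := Agent.CharP.frattini_le_ker (p := p) (QuotientGroup.mk' (center E))
      (fun a b => hab _ _) fun a => by rw [← map_pow, hexp, map_one]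
    rwa [QuotientGroup.ker_mk'] at this
  refine ⟨⟨⟨hEp, hfr, hcom⟩, hZ⟩, ?_⟩
  refine ((Nat.dvd_prime hpp).mp (Monoid.exponent_dvd_of_forall_pow_eq_one hexp)).resolve_left fun h => ?_
  haveI := Monoid.exp_eq_one_iff.1 h
  exact hnaE fun a b => Subsingleton.elim _ _

/-- The possibilities. -/
theorem shape (hS : IsPGroup p S) (hp2 : p ≠ 2) (hE : F.IsEssential p E) (h4 : Nat.card E < p ^ 4)
    (hnp : ¬ ((Nat.card ↥E = p ^ 2 ∧ Cfsg.IsElementaryAbelian p E) ∨
      (Nat.card ↥E = p ^ 3 ∧ Cfsg.IsExtraspecial p ↥E ∧ Monoid.exponent ↥E = p))) :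
    Nat.card E = p ^ 3 ∧ (∀ a ∈ E, ∀ b ∈ E, a * b = b * a) ∧ ∀ a ∈ E, a ^ p = 1 := by
  have hpp := hp.out
  haveI : Finite E := Fusion.Saturation.finite_of_le hE.1.1
  obtain ⟨i, hi⟩ := IsPGroup.iff_card.mp (hS.to_le hE.1.1)
  have hi4 : i < 4 := (Nat.pow_lt_pow_iff_right hpp.one_lt).mp (hi ▸ h4)
  have habI : i ≤ 2 → ∀ a ∈ E, ∀ b ∈ E, a * b = b * a := fun h a ha b hb =>
    congrArg Subtype.val (GStructB.MaxClass.comm_of_card (p := p) h hi ⟨a, ha⟩ ⟨b, hb⟩)
  by_cases hab : ∀ a ∈ E, ∀ b ∈ E, a * b = b * a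
  · have hexp : ∀ a ∈ E, a ^ p = 1 := by
      intro a ha
      by_contra hne
      obtain ⟨k, hk⟩ := (hS.to_le hE.1.1) ⟨a, ha⟩
      obtain ⟨j, -, hj⟩ := (Nat.dvd_prime_pow hpp).mp (orderOf_dvd_of_pow_eq_one hk)
      rw [← orderOf_coe] at hj
      change orderOf a = p ^ j at hj
      have hj2 : 2 ≤ j := by
        by_contra h
        refine hne (orderOf_dvd_iff_pow_eq_one.mp ?_)
        rw [hj]
        exact (Nat.pow_dvd_pow p (show j ≤ 1 by omega)).trans (pow_one p).dvd
      refine Fusion.RankTwoResistant.abelian_not_essential hS hab ha (hj ▸ Nat.pow_dvd_pow p hj2) ?_ hE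
      rw [hi, hj, ← pow_succ]
      exact Nat.pow_le_pow_right hpp.pos (by omega)
    rcases (show i ≤ 1 ∨ i = 2 ∨ i = 3 by omega) with h | rfl | rfl
    · refine (Fusion.EssentialShape.no_series hE hS (fun m => if m = 0 then ⊥ else ⊤) 1 rfl rfl
        (fun m hm => by simp [show m = 0 by omega]) (fun m _ a x hx => ?_) fun m hm => ?_).elim
      · rcases m with _ | m
        · simp only [if_true, mem_bot] at hx ⊢
          rw [hx, map_one]
        · simp
      · simp only [show m = 0 by omega, if_true, zero_add, one_ne_zero, if_false, relIndex_bot_left,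
          card_top, hi]
        exact (Nat.pow_le_pow_right hpp.pos h).trans (pow_one p).le
    · exact absurd (Or.inl ⟨hi, ⟨⟨fun a b => Subtype.ext (hab a a.2 b b.2)⟩⟩, hexp⟩) hnp
    · exact ⟨hi, hab, hexp⟩
  · have hi3 : i = 3 := by
      by_contra h
      exact hab (habI (by omega))
    subst hi3
    exact absurd (Or.inr ⟨hi, extraspecial hS hp2 hE hi
      fun h => hab fun a ha b hb => congrArg Subtype.val (h ⟨a, ha⟩ ⟨b, hb⟩)⟩) hnp

end Cfsg.Agent.LocalFlavell.MaxClass.Shapes
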