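import Cfsg.Agent.Lib.PGroups.MaximalClass
import Cfsg.Agent.GenA.MaxClassRank

/-!
`p`-groups of maximal class: the series `gam`, refined at position `1` by the first two-step
centralizer, and the two-step centralizers.
-/

set_option autoImplicit false
set_option linter.unusedSectionVars false

namespace Cfsg.Agent.LocalFlavell.MaxClass

open Subgroup
open Cfsg.Agent.PGroups.MaximalClass
open scoped commutatorElement

variable {S : Type*} [Group S] [Finite S]

/-- The centralizer of the `i`-th two-step quotient of the lower central series. -/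
def cen (S : Type*) [Group S] (i : ℕ) : Subgroup S :=
  (centralizer (((lcs S (i - 1)).map (QuotientGroup.mk' (lcs S (i + 1))) : Subgroup _) :
    Set (S ⧸ lcs S (i + 1)))).comap (QuotientGroup.mk' (lcs S (i + 1)))

/-- `gam 0` is the whole group, `gam 1` the first two-step centralizer, then the lower central series. -/
def gam (S : Type*) [Group S] : ℕ → Subgroup S
  | 0 => ⊤
  | 1 => cen S 2
  | i + 2 => lcs S (i + 1)

theorem gam_eq {i : ℕ} (hi : 2 ≤ i) : gam S i = lcs S (i - 1) := by
  obtain ⟨i, rfl⟩ : ∃ j, i = j + 2 := ⟨i - 2, by omega⟩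
  rfl

theorem gam_one : gam S 1 = cen S 2 := rfl

theorem mem_cen {i : ℕ} {x : S} :
    x ∈ cen S i ↔ ∀ a ∈ lcs S (i - 1), ⁅a, x⁆ ∈ lcs S (i + 1) := by
  simp only [cen, mem_comap, mem_centralizer_iff, SetLike.mem_coe, mem_map, forall_exists_index, and_imp,
    forall_apply_eq_imp_iff₂]
  refine forall₂_congr fun a _ => ?_
  rw [← commutatorElement_eq_one_iff_mul_comm, ← map_commutatorElement]
  exact QuotientGroup.eq_one_iff _

instance cen_normal (i : ℕ) : (cen S i).Normal := by
  haveI : ((lcs S (i - 1)).map (QuotientGroup.mk' (lcs S (i + 1)))).Normal :=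
    Normal.map inferInstance _ (QuotientGroup.mk'_surjective _)
  unfold cen
  infer_instance

instance gam_normal : ∀ i : ℕ, (gam S i).Normal
  | 0 => inferInstanceAs (⊤ : Subgroup S).Normal
  | 1 => cen_normal 2
  | i + 2 => lcs_normal (i + 1)

/-- An element lies in layer `i` and not below. -/
def Exact (i : ℕ) (a : S) : Prop := a ∈ gam S i ∧ a ∉ gam S (i + 1)

/-- An element avoiding all two-step centralizers of the group of order `p ^ n`. -/
def Good (n : ℕ) (s : S) : Prop := ∀ i, 2 ≤ i → i + 2 ≤ n → s ∉ cen S i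

/-- The groups considered. -/
structure IsMC (S : Type*) [Group S] (p n : ℕ) : Prop where
  hn : 4 ≤ n
  card : Nat.card S = p ^ n
  cls : Group.nilpotencyClass S = n - 1

theorem lcs_le_cen {p n : ℕ} (_hS : IsMC S p n) {i : ℕ} (hi : 2 ≤ i) :
    lcs S 1 ≤ cen S i := fun x hx => mem_cen.mpr fun a ha => by
  have h := GenA.MaxClassRank.commutator_lcs_le (i - 1) 1 (commutator_mem_commutator ha hx)
  rwa [show i - 1 + 1 + 1 = i + 1 by omega] at h

variable {p n : ℕ} [hp : Fact p.Prime]

theorem isPGroup (hS : IsMC S p n) : IsPGroup p S := IsPGroup.of_card hS.card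

theorem gam_bot (hS : IsMC S p n) {i : ℕ} (hi : n ≤ i) : gam S i = ⊥ := by
  have := hS.hn
  rw [gam_eq (by omega)]
  exact le_bot_iff.mp ((lcs_eq_bot (p := p) (by omega) hS.card) ▸ lcs_antitone (by omega : n - 1 ≤ i - 1))

theorem gam_succ_le : ∀ i : ℕ, gam S (i + 1) ≤ gam S i
  | 0 => le_top
  | 1 => fun x hx => by
    rw [gam_eq le_rfl] at hx
    exact mem_cen.mpr fun a ha =>
      GenA.MaxClassRank.commutator_lcs_le 1 1 (commutator_mem_commutator ha hx)
  | i + 2 => lcs_le (i + 1)

theorem gam_anti : Antitone (gam S) := antitone_nat_of_succ_le gam_succ_le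

theorem comm_top_le : ∀ {i : ℕ}, 1 ≤ i → ⁅gam S i, (⊤ : Subgroup S)⁆ ≤ gam S (i + 1)
  | 1, _ => by
    rw [gam_eq (by omega : 2 ≤ 1 + 1), show 1 + 1 - 1 = 1 from rfl, lcs_succ 0, lcs_zero]
    exact commutator_mono le_top le_rfl
  | i + 2, _ => by
    show ⁅lcs S (i + 1), (⊤ : Subgroup S)⁆ ≤ lcs S (i + 2)
    rw [lcs_succ (i + 1)]

theorem comm_mem {i : ℕ} (hi : 1 ≤ i) {a : S} (ha : a ∈ gam S i) (x : S) : ⁅a, x⁆ ∈ gam S (i + 1) :=
  comm_top_le hi (commutator_mem_commutator ha (mem_top x))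

theorem comm_mem' {i : ℕ} (hi : 1 ≤ i) {a : S} (ha : a ∈ gam S i) (x : S) : ⁅x, a⁆ ∈ gam S (i + 1) := by
  rw [← commutatorElement_inv]; exact inv_mem (comm_mem hi ha x)

/-- The index of the two-step centralizers. -/
theorem index_cen (hS : IsMC S p n) {i : ℕ} (hi : 2 ≤ i) (hin : i + 2 ≤ n) : (cen S i).index = p := by
  have := hS.hn
  obtain ⟨a, ha, ha'⟩ := GenA.MaxClassRank.lcs_ne (by omega) hS.card hS.cls (j := i - 1) (by omega) (by omega)
  rw [show i - 1 + 1 = i by omega] at ha'
  have hsup := GenA.MaxClassRank.eq_sup_zpowers (by omega) hS.card hS.cls (j := i - 1) (by omega) (by omega) ha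
    (by rwa [show i - 1 + 1 = i by omega])
  rw [show i - 1 + 1 = i by omega] at hsup
  have hmem : ∀ x, x ∈ cen S i ↔ ⁅a, x⁆ ∈ lcs S (i + 1) := by
    refine fun x => ⟨fun h => mem_cen.mp h a ha, fun h => mem_cen.mpr fun b hb => ?_⟩
    rw [← QuotientGroup.eq_one_iff] at h ⊢
    show QuotientGroup.mk' (lcs S (i + 1)) ⁅b, x⁆ = 1
    change QuotientGroup.mk' (lcs S (i + 1)) ⁅a, x⁆ = 1 at h
    rw [map_commutatorElement, commutatorElement_eq_one_iff_commute] at h ⊢
    obtain ⟨z, hz, w, ⟨k, rfl⟩, rfl⟩ := mem_sup_of_normal_left.mp (hsup.le hb)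
    rw [map_mul, map_zpow]
    refine Commute.mul_left ?_ (h.zpow_left k)
    rw [← commutatorElement_eq_one_iff_commute, ← map_commutatorElement]
    refine (QuotientGroup.eq_one_iff _).mpr ?_
    rw [lcs_succ i]
    exact commutator_mem_commutator hz (mem_top x)
  -- the map to the next quotient
  have hsub : ∀ x, ⁅a, x⁆ ∈ lcs S i := fun x => by
    rw [show i = i - 1 + 1 by omega, lcs_succ (i - 1)]
    exact commutator_mem_commutator ha (mem_top x)
  have hle : (cen S i).index ≤ p := by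
    rw [Subgroup.index_eq_card, ← GenA.MaxClassRank.step_relIndex (by omega) hS.card hS.cls (j := i) (by omega) (by omega),
      Subgroup.relIndex, Subgroup.index_eq_card]
    refine Nat.card_le_card_of_injective
      (fun q => (QuotientGroup.mk ⟨⁅a, q.out⁆, hsub _⟩ : lcs S i ⧸ (lcs S (i + 1)).subgroupOf (lcs S i)))
      fun u v huv => ?_
    rw [← QuotientGroup.out_eq' u, ← QuotientGroup.out_eq' v, QuotientGroup.eq, hmem]
    have h := QuotientGroup.eq.mp huv
    rw [mem_subgroupOf] at h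
    change ⁅a, u.out⁆⁻¹ * ⁅a, v.out⁆ ∈ lcs S (i + 1) at h
    have e : ⁅a, u.out⁆⁻¹ * ⁅a, v.out⁆ = u.out * ⁅a, u.out⁻¹ * v.out⁆ * u.out⁻¹ := by
      simp only [commutatorElement_def]; group
    rw [e] at h
    have := (inferInstance : (lcs S (i + 1)).Normal).conj_mem _ h u.out⁻¹
    simpa [mul_assoc] using this
  have hne : (cen S i).index ≠ 1 := fun h => by
    rw [Subgroup.index_eq_one] at h
    have h1 : lcs S i ≤ lcs S (i + 1) := by
      calc lcs S i = ⁅lcs S (i - 1), (⊤ : Subgroup S)⁆ := by rw [← lcs_succ]; congr 1; omega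
        _ ≤ lcs S (i + 1) := commutator_le.mpr fun b hb x _ => mem_cen.mp (h ▸ mem_top x) b hb
    haveI := (isPGroup hS).isNilpotent
    have h2 := eq_bot_of_stable h1
    exact (class_eq_iff (by omega) hS.card).mp hS.cls
      (le_bot_iff.mp (h2 ▸ lcs_antitone (by omega : i ≤ n - 2)))
  obtain ⟨k, hk⟩ := (isPGroup hS).index (cen S i)
  rw [hk] at hle hne ⊢
  rcases (show k = 0 ∨ k = 1 ∨ 2 ≤ k by omega) with rfl | rfl | h2
  · simp at hne
  · rw [pow_one]
  · have h3 := (Nat.pow_le_pow_right hp.out.pos h2).trans hle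
    nlinarith [hp.out.two_le]

theorem index_gam (hS : IsMC S p n) : ∀ {i : ℕ}, i ≤ n → (gam S i).index = p ^ i
  | 0, _ => by rw [pow_zero]; exact Subgroup.index_top
  | 1, _ => by rw [pow_one, gam_one]; exact index_cen hS le_rfl (by have := hS.hn; omega)
  | i + 2, h => index_lcs (by have := hS.hn; omega) hS.card hS.cls (by omega) (by omega)

theorem relIndex_gam (hS : IsMC S p n) {i : ℕ} (hi : i + 1 ≤ n) :
    (gam S (i + 1)).relIndex (gam S i) = p := by
  have h := relIndex_mul_index (gam_succ_le (S := S) i)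
  rw [index_gam hS hi, index_gam hS (i := i) (by omega), pow_succ'] at h
  exact Nat.eq_of_mul_eq_mul_right (pow_pos hp.out.pos _) h

theorem exists_exact (hS : IsMC S p n) {i : ℕ} (hi : i + 1 ≤ n) : ∃ a : S, Exact i a := by
  by_contra h
  simp only [Exact, not_exists, not_and, not_not] at h
  have h1 := relIndex_gam hS hi
  rw [relIndex_eq_one.mpr h] at h1
  exact hp.out.ne_one h1.symm

theorem exact_lt (hS : IsMC S p n) {i : ℕ} {a : S} (h : Exact i a) : i < n := by
  by_contra hc
  push Not at hc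
  have h1 := h.1
  rw [gam_bot hS hc, mem_bot] at h1
  exact h.2 (h1 ▸ one_mem _)

theorem gam_eq_sup (hS : IsMC S p n) {i : ℕ} {a : S} (h : Exact i a) :
    gam S i = gam S (i + 1) ⊔ zpowers a := by
  set X := gam S (i + 1) ⊔ zpowers a
  have hle : X ≤ gam S i := sup_le (gam_succ_le i) (zpowers_le.mpr h.1)
  have h1 : (gam S (i + 1)).relIndex X * X.relIndex (gam S i) = p := by
    rw [relIndex_mul_relIndex _ _ _ le_sup_left hle, relIndex_gam hS (exact_lt hS h)]
  rcases (Nat.dvd_prime hp.out).mp (Dvd.intro _ h1) with h2 | h2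
  · exact absurd (relIndex_eq_one.mp h2 (mem_sup_right (mem_zpowers a))) h.2
  · rw [h2] at h1
    exact le_antisymm (relIndex_eq_one.mp ((mul_eq_left₀ hp.out.ne_zero).mp h1)) hle

theorem exists_exact_of_ne {i : ℕ} (hS : IsMC S p n) {a : S} (ha : a ∈ gam S i) (h1 : a ≠ 1) :
    ∃ j, i ≤ j ∧ Exact j a := by
  classical
  have hex : ∃ j, i ≤ j ∧ a ∉ gam S (j + 1) := ⟨max i n, le_max_left _ _, fun h => h1 (by
    rw [gam_bot hS (by omega)] at h; exact mem_bot.mp h)⟩
  refine ⟨Nat.find hex, (Nat.find_spec hex).1, ?_, (Nat.find_spec hex).2⟩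
  rcases (Nat.find_spec hex).1.eq_or_lt with h | h
  · rwa [← h]
  · by_contra hc
    have := Nat.find_min hex (show Nat.find hex - 1 < Nat.find hex by omega)
    refine this ⟨by omega, ?_⟩
    rwa [Nat.sub_add_cancel (by omega)]

theorem Exact.inv {i : ℕ} {a : S} (h : Exact i a) : Exact i a⁻¹ :=
  ⟨inv_mem h.1, fun h' => h.2 (inv_mem_iff.mp h')⟩

/-- The commutator with an element outside the `i`-th centralizer goes one step down exactly. -/
theorem exact_comm (hS : IsMC S p n) {i : ℕ} (hi : 1 ≤ i) (hin : i + 2 ≤ n) {a x : S} (ha : Exact i a)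
    (hx : x ∉ cen S (max i 2)) : Exact (i + 1) ⁅a, x⁆ := by
  refine ⟨comm_mem hi ha.1 x, fun hd => ?_⟩
  set π := QuotientGroup.mk' (gam S (i + 2))
  have hax : Commute (π a) (π x) := by
    rw [← commutatorElement_eq_one_iff_commute, ← map_commutatorElement]
    exact (QuotientGroup.eq_one_iff _).mpr hd
  have hdeep : ∀ b ∈ gam S (i + 1), ∀ y : S, Commute (π b) (π y) := fun b hb y => by
    rw [← commutatorElement_eq_one_iff_commute, ← map_commutatorElement]
    exact (QuotientGroup.eq_one_iff _).mpr (comm_mem (by omega) hb y)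
  have hall : ∀ b ∈ gam S i, ⁅b, x⁆ ∈ gam S (i + 2) := by
    intro b hb
    obtain ⟨z, hz, w, ⟨k, rfl⟩, rfl⟩ := mem_sup_of_normal_left.mp ((gam_eq_sup hS ha).le hb)
    refine (QuotientGroup.eq_one_iff _).mp ?_
    show π ⁅z * a ^ k, x⁆ = 1
    rw [map_commutatorElement, commutatorElement_eq_one_iff_commute, map_mul, map_zpow]
    exact (hdeep z hz x).mul_left (hax.zpow_left k)
  rcases (show i = 1 ∨ 2 ≤ i by omega) with rfl | h2
  · -- `gam 1` would be central modulo `gam 3`
    have htop : ∀ y : S, Commute (π a) (π y) := by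
      intro y
      have hx1 : x ∉ gam S 1 := hx
      have hX : gam S 1 ⊔ zpowers x = ⊤ := (gam_eq_sup hS (i := 0) ⟨mem_top x, hx1⟩).symm
      obtain ⟨z, hz, w, ⟨k, rfl⟩, rfl⟩ := mem_sup_of_normal_left.mp (hX.ge (mem_top y))
      rw [map_mul, map_zpow]
      obtain ⟨z', hz', w, ⟨l, rfl⟩, rfl⟩ := mem_sup_of_normal_left.mp ((gam_eq_sup hS ha).le hz)
      rw [map_mul, map_zpow]
      exact (((hdeep z' hz' a).symm).mul_right ((Commute.refl _).zpow_right l)).mul_right (hax.zpow_right k)
    have h3 : gam S 2 ≤ gam S 3 := by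
      have hle : lcs S 1 ≤ lcs S 2 := by
        rw [lcs_succ 0, lcs_zero, commutator_le]
        intro u _ v _
        refine (QuotientGroup.eq_one_iff _).mp ?_
        show π ⁅u, v⁆ = 1
        rw [map_commutatorElement, commutatorElement_eq_one_iff_commute]
        have key : ∀ y ∈ gam S 1, ∀ w : S, Commute (π y) (π w) := fun y hy w => by
          obtain ⟨z, hz, q, ⟨k, rfl⟩, rfl⟩ := mem_sup_of_normal_left.mp ((gam_eq_sup hS ha).le hy)
          rw [map_mul, map_zpow]
          exact (hdeep z hz w).mul_left ((htop w).zpow_left k)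
        have hX : gam S 1 ⊔ zpowers x = ⊤ := (gam_eq_sup hS (i := 0) ⟨mem_top x, hx⟩).symm
        obtain ⟨z, hz, q, ⟨k, rfl⟩, rfl⟩ := mem_sup_of_normal_left.mp (hX.ge (mem_top u))
        obtain ⟨z', hz', q, ⟨l, rfl⟩, rfl⟩ := mem_sup_of_normal_left.mp (hX.ge (mem_top v))
        rw [map_mul, map_zpow, map_mul, map_zpow]
        exact ((key z hz _).mul_right ((key z hz x).zpow_right l)).mul_left
          (((key z' hz' x).symm.zpow_left k).mul_right ((Commute.refl _).zpow_zpow k l))
      exact hle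
    have h4 := relIndex_gam hS (i := 2) (by omega)
    rw [relIndex_eq_one.mpr h3] at h4
    exact hp.out.ne_one h4.symm
  · refine hx ?_
    rw [max_eq_left h2, mem_cen]
    intro b hb
    rw [← gam_eq h2] at hb
    have := hall b hb
    rwa [gam_eq (by omega), show i + 2 - 1 = i + 1 by omega] at this

theorem gam_succ_eq (hS : IsMC S p n) {i : ℕ} (hi : 1 ≤ i) : gam S (i + 1) = ⁅gam S i, (⊤ : Subgroup S)⁆ := by
  refine le_antisymm ?_ (comm_top_le hi)
  rcases (show i = 1 ∨ 2 ≤ i by omega) with rfl | h2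
  · obtain ⟨a, ha⟩ := exists_exact hS (i := 1) (by have := hS.hn; omega)
    obtain ⟨x, hx⟩ := exists_exact hS (i := 0) (by have := hS.hn; omega)
    haveI : (⁅gam S 1, (⊤ : Subgroup S)⁆).Normal := inferInstance
    have h2 := exact_comm hS le_rfl (by have := hS.hn; omega) ha hx.2
    haveI := (isPGroup hS).isNilpotent
    refine PGroups.Basic.le_of_le_commutator_sup _ _ ?_
    refine (gam_eq_sup hS h2).le.trans ?_
    refine sup_le (le_sup_of_le_left ?_) (le_sup_of_le_right (zpowers_le.mpr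
      (commutator_mem_commutator ha.1 (mem_top x))))
    show lcs S 2 ≤ ⁅lcs S 1, (⊤ : Subgroup S)⁆
    exact (lcs_succ 1).le
  · rw [gam_eq h2, gam_eq (by omega), show i + 1 - 1 = i - 1 + 1 by omega, lcs_succ (i - 1)]

theorem comm_gam_le {a b : ℕ} (ha : 2 ≤ a) (hb : 2 ≤ b) : ⁅gam S a, gam S b⁆ ≤ gam S (a + b) := by
  rw [gam_eq ha, gam_eq hb, gam_eq (by omega)]
  exact (GenA.MaxClassRank.commutator_lcs_le _ _).trans (lcs_antitone (by omega))

/-- Elements of the last layer are central. -/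
theorem central (hS : IsMC S p n) {z : S} (hz : z ∈ gam S (n - 1)) (x : S) : Commute z x := by
  have := hS.hn
  have h := comm_mem (show 1 ≤ n - 1 by omega) hz x
  rw [gam_bot hS (by omega), mem_bot] at h
  exact commutatorElement_eq_one_iff_commute.mp h

end Cfsg.Agent.LocalFlavell.MaxClass
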