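import Cfsg.Agent.LocalFlavell.MaxClass.Power

/-!
The two-step centralizers of a group of maximal class: all but possibly the last coincide, and if the
last one differs then `n` is even and at most `p + 1`.
-/

set_option autoImplicit false
set_option linter.unusedSectionVars false

namespace Cfsg.Agent.LocalFlavell.MaxClass

open Subgroup
open Cfsg.Agent.PGroups.MaximalClass
open scoped commutatorElement

universe u

variable {p : ℕ} [hp : Fact p.Prime]

section

variable {S : Type u} [Group S] [Finite S] {n : ℕ}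

theorem exists_notMem_two {A B : Subgroup S} (hA : A ≠ ⊤) (hB : B ≠ ⊤) : ∃ x, x ∉ A ∧ x ∉ B := by
  obtain ⟨a, ha⟩ : ∃ a, a ∉ A := by
    by_contra h; push Not at h; exact hA (eq_top_iff.mpr fun x _ => h x)
  obtain ⟨b, hb⟩ : ∃ b, b ∉ B := by
    by_contra h; push Not at h; exact hB (eq_top_iff.mpr fun x _ => h x)
  by_cases ha' : a ∈ B
  · by_cases hb' : b ∈ A
    · exact ⟨a * b, fun h => ha ((mul_mem_cancel_right hb').mp h),
        fun h => hb ((mul_mem_cancel_left ha').mp h)⟩
    · exact ⟨b, hb', hb⟩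
  · exact ⟨a, ha, ha'⟩

theorem cen_ne_top (hS : IsMC S p n) {i : ℕ} (hi : 2 ≤ i) (hin : i + 2 ≤ n) : cen S i ≠ ⊤ := fun h => by
  have h1 := index_cen hS hi hin
  rw [h, Subgroup.index_top] at h1
  exact hp.out.ne_one h1.symm

theorem cen_eq_of_le (hS : IsMC S p n) {i : ℕ} (hi : 2 ≤ i) (hin : i + 2 ≤ n)
    (h : gam S 1 ≤ cen S i) : cen S i = gam S 1 := by
  have := hS.hn
  refine (eq_of_le_of_card_ge h ?_).symm
  refine Nat.le_of_mul_le_mul_right ?_ hp.out.pos
  have h1 := (gam S 1).card_mul_index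
  have h2 := (cen S i).card_mul_index
  rw [index_gam hS (i := 1) (by omega), pow_one] at h1
  rw [index_cen hS hi hin] at h2
  rw [h1, h2]

theorem gam_two_le_cen (hS : IsMC S p n) {i : ℕ} (hi : 2 ≤ i) : gam S 2 ≤ cen S i := by
  rw [gam_eq le_rfl]; exact lcs_le_cen hS hi

theorem le_cen_of_exact (hS : IsMC S p n) {i : ℕ} (hi : 2 ≤ i) {c : S} (hc : Exact 1 c)
    (h : c ∈ cen S i) : gam S 1 ≤ cen S i := by
  rw [gam_eq_sup hS hc]
  exact sup_le (gam_two_le_cen hS hi) (zpowers_le.mpr h)

/-- All two-step centralizers up to position `n - k` coincide. -/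
def UpTo (S : Type u) [Group S] (n k : ℕ) : Prop := ∀ i, 2 ≤ i → i + k ≤ n → cen S i = gam S 1

theorem comm_deg (hS : IsMC S p n) {k : ℕ} (hU : UpTo S n k) : ∀ a b, 1 ≤ a → 1 ≤ b → a + b + k ≤ n + 1 →
    ⁅gam S a, gam S b⁆ ≤ gam S (a + b + 1) := by
  have base : ∀ b, 2 ≤ b → b + k ≤ n → ⁅gam S 1, gam S b⁆ ≤ gam S (b + 2) := fun b hb hbn => by
    rw [Subgroup.commutator_comm, commutator_le]
    intro y hy x hx
    rw [← hU b hb hbn, mem_cen] at hx
    rw [gam_eq hb] at hy
    rw [gam_eq (by omega)]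
    exact hx y hy
  intro a
  induction a with
  | zero => intro b h; omega
  | succ a ih =>
    intro b _ hb hab
    rcases Nat.eq_zero_or_pos a with rfl | ha
    · rcases (show b = 1 ∨ 2 ≤ b by omega) with rfl | hb2
      · obtain ⟨c, hc⟩ := exists_exact hS (i := 1) (by have := hS.hn; omega)
        have h12 : ∀ x ∈ gam S 1, ∀ y ∈ gam S 2, ⁅y, x⁆ ∈ gam S 4 := fun x hx y hy => by
          rw [gam_eq le_rfl] at hy
          exact mem_cen.mp hx y hy
        set π := QuotientGroup.mk' (gam S (1 + 1 + 1))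
        have hcomm : ∀ x ∈ gam S 1, ∀ y ∈ gam S 2, Commute (π y) (π x) := fun x hx y hy => by
          rw [← commutatorElement_eq_one_iff_commute, ← map_commutatorElement]
          exact (QuotientGroup.eq_one_iff _).mpr (gam_anti (by omega) (h12 x hx y hy))
        rw [commutator_le]
        intro x hx y hy
        refine (QuotientGroup.eq_one_iff _).mp ?_
        show π ⁅x, y⁆ = 1
        rw [map_commutatorElement, commutatorElement_eq_one_iff_commute]
        obtain ⟨u, hu, w, ⟨k, rfl⟩, rfl⟩ := mem_sup_of_normal_left.mp ((gam_eq_sup hS hc).le hx)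
        rw [map_mul, map_zpow]
        refine (hcomm y hy u hu).mul_left (Commute.zpow_left ?_ k)
        obtain ⟨v, hv, w, ⟨l, rfl⟩, rfl⟩ := mem_sup_of_normal_left.mp ((gam_eq_sup hS hc).le hy)
        rw [map_mul, map_zpow]
        exact (hcomm c hc.1 v hv).symm.mul_right ((Commute.refl _).zpow_right l)
      · exact (base b hb2 (by omega)).trans (gam_anti (by omega))
    · rw [gam_succ_eq hS ha]
      refine PGroups.Basic.three_subgroups_le ?_ ?_
      · calc ⁅⁅(⊤ : Subgroup S), gam S b⁆, gam S a⁆ ≤ ⁅gam S (b + 1), gam S a⁆ :=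
              commutator_mono (by rw [Subgroup.commutator_comm]; exact comm_top_le hb) le_rfl
          _ ≤ _ := by
              rw [Subgroup.commutator_comm]
              exact (ih (b + 1) ha (by omega) (by omega)).trans (gam_anti (by omega))
      · calc ⁅⁅gam S b, gam S a⁆, (⊤ : Subgroup S)⁆ ≤ ⁅gam S (a + b + 1), (⊤ : Subgroup S)⁆ :=
              commutator_mono (by rw [Subgroup.commutator_comm]; exact ih b ha hb (by omega)) le_rfl
          _ ≤ _ := (comm_top_le (by omega)).trans (gam_anti (by omega))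

/-- Conjugating a commutator of layer elements by `s`. -/
theorem conj_pair (hS : IsMC S p n) {i j : ℕ} (hi : 1 ≤ i) (hj : 1 ≤ j) (s : S) {a b : S}
    (ha : a ∈ gam S i) (hb : b ∈ gam S j) {N : Subgroup S} [N.Normal] (hN : gam S (i + j + 2) ≤ N) :
    QuotientGroup.mk' N (s * ⁅a, b⁆ * s⁻¹) =
      QuotientGroup.mk' N (⁅step s a, b⁆ * ⁅a, b⁆ * ⁅a, step s b⁆) := by
  set π := QuotientGroup.mk' N
  have hkill : ∀ w ∈ gam S (i + j + 2), π w = 1 := fun w hw => (QuotientGroup.eq_one_iff w).mpr (hN hw)
  have hcen : ∀ w ∈ gam S (i + j + 1), ∀ y : S, Commute (π w) (π y) := fun w hw y => by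
    rw [← commutatorElement_eq_one_iff_commute, ← map_commutatorElement]
    exact hkill _ (comm_mem (by omega) hw y)
  set a' := step s a with ha'
  set b' := step s b with hb'
  have h1 : π ⁅a', b'⁆ = 1 := hkill _ (gam_anti (by omega) (comm_sum (a := i + 1) (b := j + 1) (by omega)
    (by omega) (step_mem hi s ha) (step_mem hj s hb)))
  have h2 := hcen ⁅a', b⁆ (gam_anti (by omega) (comm_sum (a := i + 1) (b := j) (by omega) hj (step_mem hi s ha) hb))
  have h3 := hcen ⁅a, b'⁆ (gam_anti (by omega) (comm_sum (a := i) (b := j + 1) hi (by omega) ha (step_mem hj s hb)))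
  have e1 : s * ⁅a, b⁆ * s⁻¹ =
      a * (⁅a', b⁆ * (b * ⁅a', b'⁆ * b⁻¹)) * a⁻¹ * (⁅a, b⁆ * (b * ⁅a, b'⁆ * b⁻¹)) := by
    rw [ha', hb']; simp only [commutatorElement_def, step]; group
  rw [e1]
  simp only [map_mul, map_inv, h1, mul_one, mul_inv_cancel]
  rw [← (h2 a).eq, mul_inv_cancel_right, ← (h3 b).eq, mul_inv_cancel_right, mul_assoc]

theorem exact_gen (hS : IsMC S p n) {i : ℕ} {a : S} (h : Exact i a) {x : S} (hx : x ∈ gam S i) :
    ∃ z ∈ gam S (i + 1), ∃ k : ℤ, x = z * a ^ k := by
  obtain ⟨z, hz, w, ⟨k, rfl⟩, rfl⟩ := mem_sup_of_normal_left.mp ((gam_eq_sup hS h).le hx)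
  exact ⟨z, hz, k, rfl⟩

/-- The chain below `c`. -/
def chain (s c : S) (i : ℕ) : S := (step s)^[i - 1] c

theorem step_chain (s c : S) {i : ℕ} (hi : 1 ≤ i) : step s (chain s c i) = chain s c (i + 1) := by
  show step s ((step s)^[i - 1] c) = (step s)^[i + 1 - 1] c
  rw [show i + 1 - 1 = i - 1 + 1 by omega, Function.iterate_succ_apply']

theorem chain_mem {s c : S} (hc : c ∈ gam S 1) {i : ℕ} (hi : 1 ≤ i) : chain s c i ∈ gam S i := by
  have := iterate_step_mem le_rfl s hc (i - 1)
  rwa [Nat.add_sub_cancel' hi] at this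

theorem chain_exact (hS : IsMC S p n) {s c : S} (hs : Good n s) (hc : Exact 1 c) {i : ℕ} (hi : 1 ≤ i)
    (hin : i + 1 ≤ n) : Exact i (chain s c i) := by
  have := iterate_step_exact hS le_rfl hc (i - 1) (by omega) fun j _ _ => hs.notMem hS (by omega)
  rwa [Nat.add_sub_cancel' hi] at this

theorem exists_good (hS : IsMC S p n) (hU : UpTo S n 3) : ∃ s : S, Good n s := by
  have := hS.hn
  obtain ⟨s, h1, h2⟩ := exists_notMem_two (cen_ne_top hS (i := 2) le_rfl (by omega))
    (cen_ne_top hS (i := n - 2) (by omega) (by omega))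
  refine ⟨s, fun i hi hin => ?_⟩
  rcases (show i + 3 ≤ n ∨ i = n - 2 by omega) with h | rfl
  · rw [hU i hi h]; exact h1
  · exact h2

/-- The pairing alternates along the chain. -/
theorem pair_rel (hS : IsMC S p n) (hU : UpTo S n 3) (s : S) {c : S} (hc : Exact 1 c) {i : ℕ} (hi : 1 ≤ i)
    (hin : i + 3 ≤ n) : ⁅chain s c (i + 1), chain s c (n - 1 - (i + 1))⁆ * ⁅chain s c i, chain s c (n - 1 - i)⁆ = 1 := by
  have := hS.hn
  have hz : ⁅chain s c i, chain s c (n - 2 - i)⁆ ∈ gam S (n - 1) := by
    have := comm_deg hS hU i (n - 2 - i) hi (by omega) (by omega)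
      (commutator_mem_commutator (chain_mem (s := s) hc.1 hi) (chain_mem (s := s) hc.1 (by omega : 1 ≤ n - 2 - i)))
    rwa [show i + (n - 2 - i) + 1 = n - 1 by omega] at this
  have h1 := conj_pair hS hi (by omega : 1 ≤ n - 2 - i) s (chain_mem (s := s) hc.1 hi) (chain_mem (s := s) hc.1 (by omega))
    (N := ⊥) (by rw [gam_bot hS (by omega)])
  rw [← (central hS hz s).eq, mul_inv_cancel_right, step_chain s c hi, step_chain s c (by omega),
    QuotientGroup.mk'_eq_mk'] at h1
  obtain ⟨z, hzb, h1⟩ := h1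
  rw [mem_bot.mp hzb, mul_one] at h1
  have hzc := (central hS hz ⁅chain s c i, chain s c (n - 2 - i + 1)⁆).eq
  rw [mul_assoc, hzc, ← mul_assoc, right_eq_mul] at h1
  rwa [show n - 1 - (i + 1) = n - 2 - i by omega, show n - 1 - i = n - 2 - i + 1 by omega]

/-- In the exceptional case all the pairings are nontrivial. -/
theorem pair_ne (hS : IsMC S p n) (hU : UpTo S n 3) (hex : cen S (n - 2) ≠ gam S 1) {s : S} (hs : Good n s) {c : S}
    (hc : Exact 1 c) : ∀ {i : ℕ}, 1 ≤ i → i + 2 ≤ n → ⁅chain s c i, chain s c (n - 1 - i)⁆ ≠ 1 := by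
  have := hS.hn
  intro i hi
  induction i, hi using Nat.le_induction with
  | base =>
    intro _ h
    rw [show n - 1 - 1 = n - 2 by omega] at h
    refine (exact_comm hS (show 1 ≤ n - 2 by omega) (by omega)
      (chain_exact hS hs hc (i := n - 2) (by omega) (by omega)) (x := chain s c 1) ?_).2 ?_
    · intro hmem
      rw [max_eq_left (by omega)] at hmem
      exact hex (cen_eq_of_le hS (by omega) (by omega) (le_cen_of_exact hS (by omega) hc hmem))
    · rw [← commutatorElement_inv, h, inv_one]; exact one_mem _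
  | succ i hi ih =>
    intro hin h
    have h1 := pair_rel hS hU s hc hi (by omega)
    rw [h, one_mul] at h1
    exact ih (by omega) h1

/-- The parity: `n` is even if the last two-step centralizer differs. -/
theorem even_of_exceptional (hS : IsMC S p n) (hU : UpTo S n 3) (hex : cen S (n - 2) ≠ gam S 1) :
    Even n := by
  have := hS.hn
  by_contra hodd
  rw [Nat.not_even_iff_odd] at hodd
  obtain ⟨h, hh⟩ := hodd
  obtain ⟨s, hs⟩ := exists_good hS hU
  obtain ⟨c, hc⟩ := exists_exact hS (i := 1) (by omega)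
  let g : ℕ → S := fun i => ⁅chain s c i, chain s c (n - 1 - i)⁆
  have hrel : ∀ i, 1 ≤ i → i + 3 ≤ n → g (i + 1) * g i = 1 := fun i hi hin => pair_rel hS hU s hc hi hin
  have hmid : ∀ d, 1 + d ≤ h → g (h - d) = 1 := by
    intro d
    induction d with
    | zero =>
      intro _
      show ⁅chain s c (h - 0), chain s c (n - 1 - (h - 0))⁆ = 1
      rw [show n - 1 - (h - 0) = h - 0 by omega]; exact commutatorElement_self _
    | succ d ih =>
      intro hd
      have := hrel (h - (d + 1)) (by omega) (by omega)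
      rwa [show h - (d + 1) + 1 = h - d by omega, ih (by omega), one_mul] at this
  have h1 := hmid (h - 1) (by omega)
  rw [show h - (h - 1) = 1 by omega] at h1
  refine hex (cen_eq_of_le hS (by omega) (by omega) (le_cen_of_exact hS (by omega) hc ?_))
  refine mem_cen.mpr fun a ha => ?_
  have hd : Exact (n - 2) (chain s c (n - 2)) := chain_exact hS hs hc (by omega) (by omega)
  rw [← gam_eq (by omega)] at ha
  obtain ⟨z, hz, k, rfl⟩ := exact_gen hS hd ha
  rw [show n - 2 + 1 = n - 1 by omega] at hz ⊢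
  suffices he : ⁅z * chain s c (n - 2) ^ k, c⁆ = 1 by rw [he]; exact one_mem _
  rw [commutatorElement_eq_one_iff_commute]
  refine (central hS hz c).mul_left (Commute.zpow_left ?_ k)
  change ⁅chain s c 1, chain s c (n - 1 - 1)⁆ = 1 at h1
  rw [show n - 1 - 1 = n - 2 by omega] at h1
  exact (commutatorElement_eq_one_iff_commute.mp h1).symm

/-- Exceptional groups are small. -/
theorem exceptional_le (hS : IsMC S p n) (hU : UpTo S n 3) (hex : cen S (n - 2) ≠ gam S 1) :
    n ≤ p + 1 := by
  have := hS.hn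
  by_contra hbig
  have heven := even_of_exceptional hS hU hex
  have hn4 : n ≠ 4 := fun h => hex (by subst h; rfl)
  have hj : p + 3 ≤ n := by
    rcases hp.out.eq_two_or_odd' with rfl | hodd
    · obtain ⟨m, rfl⟩ := heven; omega
    · obtain ⟨m, rfl⟩ := heven
      obtain ⟨q, rfl⟩ := hodd
      omega
  have hp2 := hp.out.two_le
  obtain ⟨s, hs⟩ := exists_good hS hU
  obtain ⟨x, hx, hxC⟩ : ∃ x ∈ gam S 1, x ∉ cen S (n - 2) := by
    by_contra h
    push Not at h
    exact hex (cen_eq_of_le hS (by omega) (by omega) h)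
  obtain ⟨a, ha⟩ := exists_exact hS (i := n - p - 1) (by omega)
  have hap := pow_exact hS hs (by omega) (by omega) ha
  rw [show n - p - 1 + p - 1 = n - 2 by omega] at hap
  -- `x` moves `a` two layers down
  have hb : ⁅x, a⁆ ∈ gam S (n - p + 1) := by
    have := comm_deg hS hU 1 (n - p - 1) le_rfl (by omega) (by omega) (commutator_mem_commutator hx ha.1)
    rwa [show 1 + (n - p - 1) + 1 = n - p + 1 by omega] at this
  have hexp : ∀ y ∈ gam S (n - p + 1), y ^ p = 1 := fun y hy => by
    have := (pow_step hS hs n (n - p + 1) (by omega) (by omega) y hy).1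
    rwa [gam_bot hS (by omega), mem_bot] at this
  have h1 := power_core (p := p) (j := n - p + 1) (by omega) a
    (fun y hy => by rw [hexp y (gam_anti (by omega) hy)]; exact one_mem _) hb
  have h2 : (step a)^[p - 1] ⁅x, a⁆ = 1 := by
    have := iterate_step_mem (i := n - p + 1) (by omega) a hb (p - 1)
    rwa [gam_bot hS (by omega), mem_bot] at this
  rw [gam_bot hS (by omega), mem_bot, h2, hexp _ hb, mul_one, inv_one, one_mul, mul_inv_eq_one,
    commutatorElement_def, inv_mul_cancel_right, conj_pow] at h1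
  -- so `x` commutes with `a ^ p`
  refine (exact_comm hS (show 1 ≤ n - 2 by omega) (by omega) hap
    (show x ∉ cen S (max (n - 2) 2) by rwa [max_eq_left (by omega)])).2 ?_
  rw [commutatorElement_eq_one_iff_mul_comm.mpr (mul_inv_eq_iff_eq_mul.mp h1).symm]
  exact one_mem _

theorem lcs_quotient (N : Subgroup S) [N.Normal] : ∀ k,
    lcs (S ⧸ N) k = (lcs S k).map (QuotientGroup.mk' N) := by
  intro k
  induction k with
  | zero => rw [lcs_zero, lcs_zero, map_top_of_surjective _ (QuotientGroup.mk'_surjective N)]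
  | succ k ih =>
    rw [lcs_succ, lcs_succ, ih, map_commutator, map_top_of_surjective _ (QuotientGroup.mk'_surjective N)]

theorem cen_quotient (N : Subgroup S) [N.Normal] {i : ℕ} (hN : N ≤ lcs S (i + 1)) :
    (cen (S ⧸ N) i).comap (QuotientGroup.mk' N) = cen S i := by
  ext x
  rw [mem_comap, mem_cen, mem_cen, lcs_quotient, lcs_quotient]
  constructor
  · intro h a ha
    have h1 := h _ ⟨a, ha, rfl⟩
    rw [← map_commutatorElement, ← mem_comap, comap_map_eq, QuotientGroup.ker_mk', sup_eq_left.mpr hN] at h1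
    exact h1
  · rintro h _ ⟨a, ha, rfl⟩
    rw [← map_commutatorElement]
    exact ⟨_, h a ha, rfl⟩

theorem isMC_quotient (hS : IsMC S p n) (hn : 5 ≤ n) : IsMC (S ⧸ center S) p (n - 1) := by
  haveI := (isPGroup hS).isNilpotent
  obtain ⟨-, hZ⟩ := center_eq (p := p) (by omega) hS.card hS.cls
  refine ⟨by omega, ?_, by rw [Group.nilpotencyClass_quotient_center, hS.cls]⟩
  have h1 := Subgroup.card_eq_card_quotient_mul_card_subgroup (center S)
  rw [hS.card, hZ, show n = n - 1 + 1 by omega, pow_succ] at h1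
  exact (Nat.eq_of_mul_eq_mul_right hp.out.pos h1).symm

theorem exists_notMem_three (hS : IsMC S p n) (hp5 : 5 ≤ p) {A B C : Subgroup S} (hA : A.index = p)
    (hB : B.index = p) (hC : C.index = p) : ∃ x, x ∉ A ∧ x ∉ B ∧ x ∉ C := by
  by_contra h
  push Not at h
  have hsub : (Set.univ : Set S) ⊆ (A : Set S) ∪ B ∪ C := fun x _ => by
    by_cases hxA : x ∈ A
    · exact Or.inl (Or.inl hxA)
    by_cases hxB : x ∈ B
    · exact Or.inl (Or.inr hxB)
    · exact Or.inr (h x hxA hxB)
  have h1 := Set.ncard_le_ncard hsub (Set.toFinite _)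
  rw [Set.ncard_univ] at h1
  have h2 := Set.ncard_union_le ((A : Set S) ∪ B) C
  have h3 := Set.ncard_union_le (A : Set S) (B : Set S)
  simp only [← Nat.card_coe_set_eq] at h1 h2 h3
  have e : ∀ D : Subgroup S, D.index = p → Nat.card (D : Set S) * p = Nat.card S := fun D hD => by
    have := D.card_mul_index
    rwa [hD] at this
  have eA := e A hA
  have eB := e B hB
  have eC := e C hC
  have := Nat.card_pos (α := S)
  nlinarith [Nat.mul_le_mul_left (Nat.card S) hp5]

/-- The step from the quotient by the centre. -/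
theorem last_but_one (hS : IsMC S p n) (hn : 7 ≤ n) (hodd : Odd n) (hnp : n ≤ p + 2) (hp5 : 5 ≤ p)
    (hU : UpTo S n 4) (hne : cen S (n - 3) ≠ gam S 1) : False := by
  obtain ⟨h, hh⟩ := hodd
  have h5 : 4 ≤ n := hS.hn
  obtain ⟨s, hs1, hs2, hs3⟩ := exists_notMem_three hS hp5 (index_cen hS (i := 2) le_rfl (by omega))
    (index_cen hS (i := n - 3) (by omega) (by omega)) (index_cen hS (i := n - 2) (by omega) (by omega))
  have hs : Good n s := fun i hi hin => by
    rcases (show i + 4 ≤ n ∨ i = n - 3 ∨ i = n - 2 by omega) with h' | rfl | rfl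
    · rw [hU i hi h']; exact hs1
    · exact hs2
    · exact hs3
  obtain ⟨c, hc⟩ := exists_exact hS (i := 1) (by omega)
  have hmem : ∀ i, 1 ≤ i → chain s c i ∈ gam S i := fun i => chain_mem hc.1
  set π := QuotientGroup.mk' (gam S (n - 1))
  let g : ℕ → S := fun i => ⁅chain s c i, chain s c (n - 2 - i)⁆
  let f : ℕ → S := fun i => ⁅chain s c i, chain s c (n - 1 - i)⁆
  have hgmem : ∀ i, 1 ≤ i → i + 3 ≤ n → g i ∈ gam S (n - 2) := fun i hi hin =>
    gam_anti (by omega) (comm_sum hi (by omega) (hmem i hi) (hmem (n - 2 - i) (by omega)))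
  have hfmem : ∀ i, 1 ≤ i → i + 2 ≤ n → f i ∈ gam S (n - 1) := fun i hi hin =>
    gam_anti (by omega) (comm_sum hi (by omega) (hmem i hi) (hmem (n - 1 - i) (by omega)))
  have hπc : ∀ w ∈ gam S (n - 2), ∀ y : S, Commute (π w) (π y) := fun w hw y => by
    rw [← commutatorElement_eq_one_iff_commute, ← map_commutatorElement]
    exact (QuotientGroup.eq_one_iff _).mpr (gam_anti (by omega) (comm_mem (by omega) hw y))
  -- modulo the last layer the `g i` alternate
  have hg : ∀ i, 1 ≤ i → i + 4 ≤ n → π (g (i + 1)) * π (g i) = 1 := by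
    intro i hi hin
    have hz : ⁅chain s c i, chain s c (n - 3 - i)⁆ ∈ gam S (n - 2) := by
      have := comm_deg hS hU i (n - 3 - i) hi (by omega) (by omega)
        (commutator_mem_commutator (hmem i hi) (hmem (n - 3 - i) (by omega)))
      rwa [show i + (n - 3 - i) + 1 = n - 2 by omega] at this
    have h1 := conj_pair hS hi (by omega : 1 ≤ n - 3 - i) s (hmem i hi) (hmem (n - 3 - i) (by omega))
      (N := gam S (n - 1)) (gam_anti (by omega))
    rw [step_chain s c hi, step_chain s c (by omega)] at h1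
    simp only [map_mul, map_inv] at h1
    rw [← (hπc _ hz s).eq, mul_inv_cancel_right, mul_assoc, (hπc _ hz _).eq, ← mul_assoc,
      right_eq_mul] at h1
    show π ⁅chain s c (i + 1), chain s c (n - 2 - (i + 1))⁆ * π ⁅chain s c i, chain s c (n - 2 - i)⁆ = 1
    rwa [show n - 2 - (i + 1) = n - 3 - i by omega, show n - 2 - i = n - 3 - i + 1 by omega]
  -- one step further
  have hD : ∀ i, 1 ≤ i → i + 3 ≤ n → step s (g i) = f (i + 1) * f i := by
    intro i hi hin
    have hz := hgmem i hi hin
    have hf1 := hfmem (i + 1) (by omega) (by omega)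
    have h1 := conj_pair hS hi (by omega : 1 ≤ n - 2 - i) s (hmem i hi) (hmem (n - 2 - i) (by omega))
      (N := ⊥) (by rw [gam_bot hS (by omega)])
    rw [step_chain s c hi, step_chain s c (by omega), QuotientGroup.mk'_eq_mk'] at h1
    obtain ⟨z, hzb, h1⟩ := h1
    rw [mem_bot.mp hzb, mul_one] at h1
    show (g i)⁻¹ * (s * g i * s⁻¹) = _
    rw [h1]
    show (g i)⁻¹ * (⁅chain s c (i + 1), chain s c (n - 2 - i)⁆ * g i * ⁅chain s c i, chain s c (n - 2 - i + 1)⁆) = _
    rw [show n - 2 - i = n - 1 - (i + 1) by omega, show n - 1 - (i + 1) + 1 = n - 1 - i by omega]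
    show (g i)⁻¹ * (f (i + 1) * g i * f i) = _
    rw [(central hS hf1 (g i)).eq, mul_assoc (g i), inv_mul_cancel_left]
  have hDmul : ∀ u ∈ gam S (n - 2), ∀ v ∈ gam S (n - 2), step s (u * v) = step s u * step s v := by
    intro u hu v hv
    have hDu : step s u ∈ gam S (n - 1) := gam_anti (by omega) (step_mem (by omega) s hu)
    rw [(show step s (u * v) = v⁻¹ * step s u * v * step s v by simp only [step]; group),
      mul_assoc v⁻¹, (central hS hDu v).eq, inv_mul_cancel_left]
  have hDone : ∀ u ∈ gam S (n - 1), step s u = 1 := fun u hu => by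
    rw [step, ← (central hS hu s).eq, mul_inv_cancel_right, inv_mul_cancel]
  set ζ := step s (g 1)
  have hDg : ∀ i, 1 ≤ i → i + 3 ≤ n → step s (g i) = ζ ^ ((-1 : ℤ) ^ (i + 1)) := by
    intro i hi
    induction i, hi using Nat.le_induction with
    | base => intro _; norm_num; rfl
    | succ i hi ih =>
      intro hin
      have h1 := hg i hi (by omega)
      rw [← map_mul] at h1
      have hw := (QuotientGroup.eq_one_iff _).mp h1
      have h2 := hDmul _ (hgmem (i + 1) (by omega) (by omega)) _ (hgmem i hi (by omega))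
      rw [hDone _ hw, ih (by omega)] at h2
      rw [eq_inv_of_mul_eq_one_left h2.symm, ← zpow_neg]
      congr 1
      ring
  -- the first value of `f`
  have hcg : Exact (n - 2) (g 1) := by
    have hcn : c ∉ cen S (max (n - 3) 2) := fun h' => hne (cen_eq_of_le hS (by omega) (by omega)
      (le_cen_of_exact hS (by omega) hc (by rwa [max_eq_left (by omega)] at h')))
    have h1 := exact_comm hS (show 1 ≤ n - 3 by omega) (by omega)
      (chain_exact hS hs hc (i := n - 3) (by omega) (by omega)) hcn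
    rw [show n - 3 + 1 = n - 2 by omega] at h1
    show Exact (n - 2) ⁅chain s c 1, chain s c (n - 2 - 1)⁆
    rw [show n - 2 - 1 = n - 3 by omega, ← commutatorElement_inv]
    exact h1.inv
  have hf1 : f 1 = 1 := by
    have hz := hgmem 2 (by omega) (by omega)
    have hz2 : Exact (n - 2) (g 2) := by
      refine ⟨hz, fun hd => hcg.2 ?_⟩
      rw [show n - 2 + 1 = n - 1 by omega] at hd ⊢
      have h1 := hg 1 le_rfl (by omega)
      rw [(show π (g (1 + 1)) = 1 from (QuotientGroup.eq_one_iff _).mpr hd), one_mul] at h1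
      exact (QuotientGroup.eq_one_iff _).mp h1
    have hcz : Commute c (g 2) := by
      set u := chain s c 2 with hu
      set v := chain s c (n - 2 - 2) with hv
      have hum : u ∈ gam S 2 := hmem 2 (by omega)
      have hvm : v ∈ gam S (n - 4) := by rw [hv, show n - 2 - 2 = n - 4 by omega]; exact hmem _ (by omega)
      set e := step c u with he
      set e' := step c v with he'
      have hem : e ∈ gam S 4 := by
        rw [he, step_eq]
        exact mem_cen.mp (show c ∈ cen S 2 from hc.1) u⁻¹ (by rw [← gam_eq (le_refl 2)]; exact inv_mem hum)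
      have he'm : e' ∈ gam S (n - 2) := by
        rw [he', step_eq, ← commutatorElement_inv]
        refine inv_mem ?_
        have := comm_deg hS hU 1 (n - 4) le_rfl (by omega) (by omega)
          (commutator_mem_commutator hc.1 (inv_mem hvm))
        rwa [show 1 + (n - 4) + 1 = n - 2 by omega] at this
      have h1 : ⁅e, v * e'⁆ = 1 := by
        rw [← mem_bot, ← gam_bot hS (i := 4 + (n - 4)) (by omega)]
        exact comm_sum (by omega) (by omega) hem (mul_mem hvm (gam_anti (by omega) he'm))
      have h2 : ⁅u, e'⁆ = 1 := by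
        rw [← mem_bot, ← gam_bot hS (i := 2 + (n - 2)) (by omega)]
        exact comm_sum (by omega) (by omega) hum he'm
      show c * ⁅u, v⁆ = ⁅u, v⁆ * c
      rw [← mul_inv_eq_iff_eq_mul,
        show c * ⁅u, v⁆ * c⁻¹ = u * ⁅e, v * e'⁆ * u⁻¹ * (⁅u, v⁆ * (v * ⁅u, e'⁆ * v⁻¹)) by
          rw [he, he']; simp only [commutatorElement_def, step]; group, h1, h2]
      group
    obtain ⟨z, hz', k, hk⟩ := exact_gen hS hz2 (hmem (n - 2) (by omega))
    rw [show n - 2 + 1 = n - 1 by omega] at hz'
    show ⁅chain s c 1, chain s c (n - 1 - 1)⁆ = 1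
    rw [commutatorElement_eq_one_iff_commute, show n - 1 - 1 = n - 2 by omega, hk]
    exact (central hS hz' _).symm.mul_right (hcz.zpow_right k)
  have hf : ∀ i, 1 ≤ i → i + 2 ≤ n → f i = ζ ^ ((-1 : ℤ) ^ i * ((i : ℤ) - 1)) := by
    intro i hi
    induction i, hi using Nat.le_induction with
    | base => intro _; rw [hf1]; norm_num
    | succ i hi ih =>
      intro hin
      have h1 := hD i hi (by omega)
      rw [hDg i hi (by omega), ih (by omega), ← mul_inv_eq_iff_eq_mul, ← zpow_neg, ← zpow_add] at h1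
      rw [← h1]
      congr 1
      push_cast
      ring
  have hζ : ζ ≠ 1 := by
    have := step_exact hS (show 1 ≤ n - 2 by omega) (by omega) (hs.notMem hS (by omega)) hcg
    exact fun e => this.2 (by show step s (g 1) ∈ _; rw [show step s (g 1) = ζ from rfl, e]; exact one_mem _)
  have hζmem : ζ ∈ gam S (n - 1) := gam_anti (by omega) (step_mem (by omega) s hcg.1)
  have hord : orderOf ζ = p := by
    have := orderOf_dvd_natCard (⟨ζ, hζmem⟩ : gam S (n - 1))
    rw [card_last hS, Subgroup.orderOf_mk] at this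
    exact ((Nat.dvd_prime hp.out).mp this).resolve_left (fun e => hζ (orderOf_eq_one_iff.mp e))
  have hh2 := hf h (by omega) (by omega)
  have hff : f h = 1 := by
    show ⁅chain s c h, chain s c (n - 1 - h)⁆ = 1
    rw [show n - 1 - h = h by omega]
    exact commutatorElement_self _
  rw [hff, eq_comm, ← orderOf_dvd_iff_zpow_eq_one, hord] at hh2
  have hd : (p : ℤ) ∣ ((h : ℤ) - 1) := by
    rcases neg_one_pow_eq_or ℤ h with e | e <;> rw [e] at hh2
    · rwa [one_mul] at hh2
    · rwa [neg_one_mul, dvd_neg] at hh2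
  have := Int.le_of_dvd (by omega) hd
  omega

end

/-- All two-step centralizers but possibly the last coincide. -/
theorem upTo_three : ∀ (n : ℕ) (S : Type u) [Group S] [Finite S], IsMC S p n → UpTo S n 3 := by
  intro n
  induction n with
  | zero => intro S _ _ hS; exact absurd hS.hn (by omega)
  | succ m ih =>
    intro S _ _ hS i hi hin
    rcases (show i = 2 ∨ 3 ≤ i by omega) with rfl | hi3
    · rfl
    have hQ := isMC_quotient hS (by omega)
    rw [Nat.add_sub_cancel] at hQ
    have hUQ := ih (S ⧸ center S) hQ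
    obtain ⟨hZ, -⟩ := center_eq (p := p) (by omega) hS.card hS.cls
    have hc2 : ∀ j, 2 ≤ j → j + 3 ≤ m + 1 → (cen (S ⧸ center S) j).comap (QuotientGroup.mk' (center S)) = cen S j :=
      fun j hj hjn => cen_quotient _ (hZ.le.trans (lcs_antitone (by omega)))
    have hU4 : UpTo S (m + 1) 4 := fun j hj hjn => by
      rw [gam_one, ← hc2 j hj (by omega), ← hc2 2 le_rfl (by omega), hUQ j hj (by omega), gam_one]
    rcases (show i + 4 ≤ m + 1 ∨ i = m + 1 - 3 by omega) with h | h
    · exact hU4 i hi h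
    by_contra hne
    have hexQ : cen (S ⧸ center S) (m - 2) ≠ gam (S ⧸ center S) 1 := by
      intro e
      refine hne ?_
      rw [show i = m - 2 by omega, gam_one, ← hc2 (m - 2) (by omega) (by omega), e, gam_one, hc2 2 le_rfl (by omega)]
    have heven := even_of_exceptional hQ hUQ hexQ
    have hle := exceptional_le hQ hUQ hexQ
    obtain ⟨r, hr⟩ := heven
    have hp5 : 5 ≤ p := by
      rcases hp.out.eq_two_or_odd' with h2 | ⟨q, hq⟩ <;> omega
    exact last_but_one hS (by omega) ⟨r, by omega⟩ (by omega) hp5 hU4 (h ▸ hne)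

end Cfsg.Agent.LocalFlavell.MaxClass
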