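import Cfsg.Agent.LocalFlavell.MaxClass.Step

/-!
No element of `X` outside the normalizer of `E` moves the flag of `E` into a second flag of a normal subgroup `L`.
-/

set_option autoImplicit false
set_option linter.unusedSectionVars false
set_option linter.style.haveILetI false

namespace Cfsg.Agent.LocalFlavell.MaxClass

open Cfsg Cfsg.FusionSystem
open Cfsg.Agent.Fusion Cfsg.Agent.Fusion.Basic Cfsg.Agent.Fusion.Saturation
open Subgroup (zpowers normalizer mem_zpowers mem_zpowers_iff)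
open scoped commutatorElement

variable {X : Type*} [Group X] [Finite X] {p : ℕ} [hp : Fact p.Prime]

/-- Bilinearity of a central commutator. -/
theorem comm_zpow {G : Type*} [Group G] {a b c : G} (hc : ⁅a, b⁆ = c) (ha : Commute c a) (hb : Commute c b)
    (l i : ℤ) : ⁅a ^ l, b ^ i⁆ = c ^ (l * i) := by
  have h1 : a * b * a⁻¹ = c * b := by rw [← hc, commutatorElement_def]; group
  have h2 : b ^ i * a * (b ^ i)⁻¹ = c ^ (-i) * a := by
    have h3 : a * b ^ i * a⁻¹ = c ^ i * b ^ i := by rw [← conj_zpow, h1, hb.mul_zpow]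
    calc b ^ i * a * (b ^ i)⁻¹ = (c ^ i)⁻¹ * (c ^ i * b ^ i) * a * (b ^ i)⁻¹ := by group
      _ = (c ^ i)⁻¹ * (a * b ^ i * a⁻¹) * a * (b ^ i)⁻¹ := by rw [h3]
      _ = c ^ (-i) * a := by group
  have h4 : b ^ i * a ^ l * (b ^ i)⁻¹ = c ^ (-i * l) * a ^ l := by
    rw [← conj_zpow, h2, (ha.zpow_left (-i)).mul_zpow, ← zpow_mul]
  rw [commutatorElement_def, show a ^ l * b ^ i * (a ^ l)⁻¹ * (b ^ i)⁻¹ = a ^ l * (b ^ i * a ^ l * (b ^ i)⁻¹)⁻¹ by group,
    h4]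
  group

variable {F : FusionSystem (⊤ : Subgroup X)} {E W L : Subgroup X} {u : X}

theorem zpow_root {q : X} (hq : q ^ p = 1) {j : ℤ} (hj : ¬ (p : ℤ) ∣ j) : ∃ j' : ℤ, (q ^ j) ^ j' = q := by
  obtain ⟨j', hj'⟩ := Fusion.RankTwoResistant.exists_inverse hj
  exact ⟨j', by rw [← zpow_mul, Fusion.RankTwoResistant.zpow_eq_of_dvd hq (j := 1) hj', zpow_one]⟩

/-- A subgroup of index `p` and an element outside generate. -/
theorem mem_mul_zpow (hX : IsPGroup p X) {A B : Subgroup X} (hAB : A ≤ B) {i : ℕ} (hA : Nat.card A = p ^ i)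
    (hB : Nat.card B = p ^ (i + 1)) {y : X} (hy : y ∈ B) (hyA : y ∉ A) (hn : B ≤ normalizer (A : Set X))
    {g : X} (hg : g ∈ B) : ∃ a ∈ A, ∃ k : ℤ, g = a * y ^ k := by
  set A' : Subgroup B := A.subgroupOf B
  haveI : A'.Normal := Subgroup.normal_subgroupOf_iff_le_normalizer hAB |>.2 hn
  have htop : A' ⊔ zpowers (⟨y, hy⟩ : B) = ⊤ := by
    refine Subgroup.eq_top_of_le_card _ ?_
    obtain ⟨j, hj⟩ := IsPGroup.iff_card.mp ((hX.to_subgroup B).to_subgroup (A' ⊔ zpowers (⟨y, hy⟩ : B)))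
    have h1 : Nat.card A' < Nat.card (A' ⊔ zpowers (⟨y, hy⟩ : B) : Subgroup B) := lt_of_not_ge fun hge =>
      hyA (Subgroup.mem_subgroupOf.1 ((Subgroup.eq_of_le_of_card_ge le_sup_left hge).symm ▸
        Subgroup.mem_sup_right (mem_zpowers (⟨y, hy⟩ : B))))
    rw [Nat.card_congr (Subgroup.subgroupOfEquivOfLe hAB).toEquiv, hA, hj,
      Nat.pow_lt_pow_iff_right hp.out.one_lt] at h1
    rw [hB, hj]
    exact Nat.pow_le_pow_right hp.out.pos h1
  obtain ⟨a, ha, z, hz, haz⟩ := Subgroup.mem_sup_of_normal_left.1 (htop.ge (Subgroup.mem_top ⟨g, hg⟩))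
  obtain ⟨k, rfl⟩ := mem_zpowers_iff.1 hz
  exact ⟨a, Subgroup.mem_subgroupOf.1 ha, k, by simpa using (congrArg Subtype.val haz).symm⟩

set_option maxHeartbeats 1000000 in
/-- The flag lemma. -/
theorem Setting.flag (h : Setting F p E) (hc : Core F p E W u) (hW : Nat.card W = p ^ 2) (hp5 : 5 ≤ p)
    (hWL : W ≤ L) (hLN : L ≤ normalizer (E : Set X)) (hL : Nat.card L = p ^ 3) (hLE : L ≠ E)
    (hLbig : p ^ 4 < Nat.card (normalizer (L : Set X))) {e x : X} (he : e ∈ E) (heW : e ∉ W)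
    (hxy : ⁅x, e⁆ ∈ L) (hyW : ⁅x, e⁆ ∉ W) (hxy2 : ⁅x, ⁅x, e⁆⁆ ∈ W)
    (hxW : ∀ w ∈ W, ⁅x, w⁆ ∈ zpowers u) (hxu : Commute x u) : ∀ w ∈ W, Commute x w := by
  have hpp := hp.out
  set N := normalizer (E : Set X) with hNdef
  have hEN : E ≤ N := Subgroup.le_normalizer
  have hWN : W ≤ N := hc.le.trans hEN
  set y := ⁅x, e⁆ with hy
  have hyN : y ∈ N := hLN hxy
  have huW : zpowers u ≤ W := Subgroup.zpowers_le.2 hc.u_mem
  have hWc : ∀ w ∈ W, ∀ g ∈ N, Commute w g := fun w hw g hg => (hc.cent g hg w hw).symm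
  have hup : ∀ q ∈ W, q ^ p = 1 := fun q hq => h.exp q (hc.le hq)
  have hyE : y ∉ E := fun hyE => hLE (by
    refine (Subgroup.eq_of_le_of_card_ge ?_ (by rw [h.card, hL])).symm
    intro g hg
    obtain ⟨a, ha, k, rfl⟩ := mem_mul_zpow h.hX hc.le hW h.card hyE hyW
      (fun b hb => mem_normalizer_of_forall fun w hw => by
        rw [hc.cent b (hEN hb) w hw, mul_inv_cancel_right]; exact hw) hg
    exact L.mul_mem (hWL ha) (L.zpow_mem hxy k))
  have hWnE : ∀ {B : Subgroup X}, B ≤ N → B ≤ normalizer (W : Set X) := fun hB b hb =>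
    mem_normalizer_of_forall fun w hw => by rw [hc.cent b (hB hb) w hw, mul_inv_cancel_right]; exact hw
  have hEdec : ∀ g ∈ E, ∃ w ∈ W, ∃ k : ℤ, g = w * e ^ k := fun g hg =>
    mem_mul_zpow h.hX hc.le hW h.card he heW (hWnE hEN) hg
  have hLdec : ∀ g ∈ L, ∃ w ∈ W, ∃ k : ℤ, g = w * y ^ k := fun g hg =>
    mem_mul_zpow h.hX hWL hW hL hxy hyW (hWnE hLN) hg
  have hNdec : ∀ g ∈ N, ∃ a ∈ E, ∃ k : ℤ, g = a * y ^ k := fun g hg =>
    mem_mul_zpow h.hX hEN h.card hc.card_N hyN hyE le_rfl hg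
  have hyp : y ^ p ∈ W := by
    haveI : (W.subgroupOf L).Normal := Subgroup.normal_subgroupOf_iff_le_normalizer hWL |>.2 (hWnE hLN)
    have h1 := Subgroup.pow_index_mem (W.subgroupOf L) ⟨y, hxy⟩
    have h2 : (W.subgroupOf L).index = p := by
      have := (W.subgroupOf L).card_mul_index
      rw [Nat.card_congr (Subgroup.subgroupOfEquivOfLe hWL).toEquiv, hW, hL, pow_succ p 2] at this
      exact Nat.eq_of_mul_eq_mul_left (pow_pos hpp.pos 2) this
    rw [h2] at h1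
    exact Subgroup.mem_subgroupOf.1 h1
  -- `x` on the flag
  have hxWW : ∀ w ∈ W, x * w * x⁻¹ ∈ W := fun w hw => by
    rw [show x * w * x⁻¹ = ⁅x, w⁆ * w by rw [commutatorElement_def]; group]
    exact W.mul_mem (huW (hxW w hw)) hw
  have horb : ∀ K : ℕ, ∃ w ∈ W, x ^ K * e * (x ^ K)⁻¹ = y ^ K * e * w := by
    intro K
    induction K with
    | zero => exact ⟨1, W.one_mem, by simp⟩
    | succ K ih =>
      obtain ⟨w, hw, hK⟩ := ih
      refine ⟨⁅x, y⁆ ^ K * (x * w * x⁻¹), W.mul_mem (W.pow_mem hxy2 K) (hxWW w hw), ?_⟩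
      have h1 : x * y ^ K * x⁻¹ = y ^ K * ⁅x, y⁆ ^ K := by
        rw [← conj_pow, show x * y * x⁻¹ = ⁅x, y⁆ * y by rw [commutatorElement_def x y]; group,
          (hWc _ hxy2 y hyN).mul_pow, ((hWc _ hxy2 y hyN).pow_pow K K).eq]
      have h2 : x * e * x⁻¹ = y * e := by rw [hy, commutatorElement_def]; group
      have hc2 : Commute (⁅x, y⁆ ^ K) (y * e) := hWc _ (W.pow_mem hxy2 K) _ (N.mul_mem hyN (hEN he))
      calc x ^ (K + 1) * e * (x ^ (K + 1))⁻¹ = x * (x ^ K * e * (x ^ K)⁻¹) * x⁻¹ := by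
            rw [pow_succ']; group
        _ = (x * y ^ K * x⁻¹) * (x * e * x⁻¹) * (x * w * x⁻¹) := by rw [hK]; group
        _ = y ^ (K + 1) * e * (⁅x, y⁆ ^ K * (x * w * x⁻¹)) := by
            rw [h1, h2, mul_assoc (y ^ K) (⁅x, y⁆ ^ K), hc2.eq, pow_succ]
            simp only [mul_assoc]
  have hconj : ∀ (K : ℕ) (T : Subgroup X), W ≤ T → (∃ w ∈ W, y ^ K * e * w ∈ T) → Nat.card T ≤ p ^ 3 →
      img (cj (x ^ K)) E = T := by
    intro K T hWT ⟨w, hw, hwT⟩ hTc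
    haveI : Finite T := inferInstance
    obtain ⟨w', hw', hK⟩ := horb K
    have hxK : ∀ v ∈ W, x ^ K * v * (x ^ K)⁻¹ ∈ W := by
      clear hK
      induction K with
      | zero => intro v hv; simpa using hv
      | succ K _ =>
        have key : ∀ K : ℕ, ∀ v ∈ W, x ^ K * v * (x ^ K)⁻¹ ∈ W := by
          intro K
          induction K with
          | zero => intro v hv; simpa using hv
          | succ K ih =>
            intro v hv
            rw [show x ^ (K + 1) * v * (x ^ (K + 1))⁻¹ = x * (x ^ K * v * (x ^ K)⁻¹) * x⁻¹ by rw [pow_succ']; group]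
            exact hxWW _ (ih v hv)
        exact key _
    refine eq_of_le_card (img_le fun g hg => ?_) ?_
    · obtain ⟨v, hv, j, rfl⟩ := hEdec g hg
      rw [cj_apply, ← MulAut.conj_apply, map_mul, map_zpow, MulAut.conj_apply, MulAut.conj_apply, hK]
      refine T.mul_mem (hWT (hxK v hv)) (T.zpow_mem ?_ j)
      rw [show y ^ K * e * w' = y ^ K * e * w * (w⁻¹ * w') by group]
      exact T.mul_mem hwT (hWT (W.mul_mem (W.inv_mem hw) hw'))
    · rw [(isMap_cj (F := F) le_top (Subgroup.mem_top (x ^ K))).card_img, h.card]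
      exact hTc
  obtain ⟨h₂, hh₂⟩ : ∃ h₂ : ℤ, (p : ℤ) ∣ 2 * h₂ - 1 := by
    obtain ⟨q, hq⟩ := hpp.odd_of_ne_two (by omega)
    exact ⟨q + 1, ⟨1, by subst hq; push_cast; ring⟩⟩
  obtain ⟨f, hf, hfN, hfE, hfu, hfW, hfQ⟩ := hc.torus 2 h₂ hh₂
  have hfWW : ∀ w ∈ W, f w ∈ W := fun w hw => by
    have := W.mul_mem (huW (hfW w hw)) hw
    rwa [inv_mul_cancel_right] at this
  have hfhom : ∀ {q : X} (j : ℤ), q ∈ N → f (q ^ j) = f q ^ j := fun {q} j hq =>
    map_zpow hf.hom ⟨q, hq⟩ j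
  -- `f` preserves `L`
  obtain ⟨g, hg, hgimg, hgf, hfg⟩ := hf.exists_inv
  have himgN : img f N = N := eq_of_le_card (img_le hfN) hf.card_img.ge
  rw [himgN] at hg hgimg hfg
  have hfL : ∀ v ∈ L, f v ∈ L := by
    intro v hv
    by_contra hvL
    obtain ⟨a, ha, k, hak⟩ := hNdec _ (hfN v (hLN hv))
    obtain ⟨w, hw, j, rfl⟩ := hEdec a ha
    have hj : ¬ (p : ℤ) ∣ j := fun hd => hvL (by
      rw [hak, Fusion.RankTwoResistant.zpow_eq_of_dvd (h.exp e he) (j := 0) (by simpa using hd), zpow_zero, mul_one]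
      exact L.mul_mem (hWL hw) (L.zpow_mem hxy k))
    set T := img f L
    have hWT : W ≤ T := by
      intro q hq
      have hWimg : img f W = W := eq_of_le_card (img_le hfWW) (hf.restrict hWN).card_img.ge
      exact img_mono f hWL (hWimg.ge hq)
    obtain ⟨j', hj'⟩ := zpow_root (h.exp e he) hj
    -- a power lands in `y ^ K * e * W`
    have hcomm : ∀ {g₁ g₂ : X}, g₁ ∈ N → g₂ ∈ N → ⁅g₁, g₂⁆ ∈ W := by
      intro g₁ g₂ h₁ h₂'
      obtain ⟨a₁, ha₁, k₁, rfl⟩ := hNdec g₁ h₁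
      obtain ⟨a₂, ha₂, k₂, rfl⟩ := hNdec g₂ h₂'
      have hr : ∀ a ∈ E, ∀ k : ℤ, ⁅a, y ^ k⁆ ∈ W := fun a ha k => by
        rw [← commutatorElement_inv]
        exact W.inv_mem (huW (hc.disp _ (N.zpow_mem hyN k) a ha))
      have e1 : ⁅a₁ * y ^ k₁, a₂ * y ^ k₂⁆ =
          a₁ * (⁅y ^ k₁, a₂⁆ * (a₂ * ⁅y ^ k₁, y ^ k₂⁆ * a₂⁻¹)) * a₁⁻¹ *
            (⁅a₁, a₂⁆ * (a₂ * ⁅a₁, y ^ k₂⁆ * a₂⁻¹)) := by
        simp only [commutatorElement_def]; group
      rw [e1, commutatorElement_eq_one_iff_mul_comm.2 (h.comm a₁ ha₁ a₂ ha₂),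
        commutatorElement_eq_one_iff_commute.2 (((Commute.refl y).zpow_left k₁).zpow_right k₂)]
      simp only [mul_one, one_mul, mul_inv_cancel]
      have hm1 : ⁅y ^ k₁, a₂⁆ ∈ W := huW (hc.disp _ (N.zpow_mem hyN k₁) a₂ ha₂)
      have hm2 := hr a₁ ha₁ k₂
      rw [← (hWc _ hm1 a₁ (hEN ha₁)).eq, mul_inv_cancel_right, ← (hWc _ hm2 a₂ (hEN ha₂)).eq,
        mul_inv_cancel_right]
      exact W.mul_mem hm1 hm2
    set W' := W.subgroupOf N
    haveI : W'.Normal := Subgroup.normal_subgroupOf_iff_le_normalizer hWN |>.2 (hWnE le_rfl)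
    let eN : N := ⟨e, hEN he⟩
    let yN : N := ⟨y, hyN⟩
    let vN : N := ⟨f v, hfN v (hLN hv)⟩
    have hab : ∀ q r : N, Commute (QuotientGroup.mk' W' q) (QuotientGroup.mk' W' r) := fun q r => by
      rw [← commutatorElement_eq_one_iff_commute, ← map_commutatorElement]
      exact (QuotientGroup.eq_one_iff _).2 (Subgroup.mem_subgroupOf.2 (hcomm q.2 r.2))
    set π := QuotientGroup.mk' W'
    have hv1 : π vN = π eN ^ j * π yN ^ k := by
      rw [← map_zpow, ← map_zpow, ← map_mul, ← one_mul (π (eN ^ j * yN ^ k)),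
        ← (show π ⟨w, hWN hw⟩ = 1 from (QuotientGroup.eq_one_iff _).2 (Subgroup.mem_subgroupOf.2 hw)),
        ← map_mul]
      exact congrArg π (Subtype.ext (by
        show f v = w * (e ^ j * y ^ k)
        rw [hak, mul_assoc]))
    set K : ℕ := ((k * j') % (p : ℤ)).toNat with hKdef
    have hK : (p : ℤ) ∣ k * j' - K := by
      rw [hKdef, Int.toNat_of_nonneg (Int.emod_nonneg _ (by exact_mod_cast hpp.ne_zero))]
      exact Int.dvd_self_sub_emod
    have hπy : π yN ^ p = 1 := by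
      rw [← map_pow]; exact (QuotientGroup.eq_one_iff _).2 (Subgroup.mem_subgroupOf.2 hyp)
    have hpow : π (vN ^ j') = π (yN ^ K * eN) := by
      rw [map_zpow, hv1, ((hab _ _).zpow_zpow j k).mul_zpow, map_mul, map_pow, ← zpow_natCast (π yN) K,
        (hab yN eN).zpow_left K |>.eq, ← zpow_mul (π yN),
        Fusion.RankTwoResistant.zpow_eq_of_dvd hπy hK, ← map_zpow π eN j, ← map_zpow,
        show (eN ^ j) ^ j' = eN from Subtype.ext (by simpa using hj')]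
    obtain ⟨w₁, hw₁, hw₁e⟩ : ∃ w₁ ∈ W, y ^ K * e * w₁ = f v ^ j' := by
      have h1 := QuotientGroup.eq.1 hpow.symm
      refine ⟨_, Subgroup.mem_subgroupOf.1 h1, ?_⟩
      show y ^ K * e * ((y ^ K * e)⁻¹ * f v ^ j') = _
      group
    have hfvT : f v ^ j' ∈ T := T.zpow_mem (mem_img_self f hv) j'
    have hT : img (cj (x ^ K)) E = T := hconj K T hWT ⟨w₁, hw₁, hw₁e ▸ hfvT⟩
      (by rw [(hf.restrict hLN).card_img, hL])
    -- so `L` is conjugate to `E`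
    have hm : IsMap F E (fun q => g (cj (x ^ K) q)) :=
      hg.comp (isMap_cj le_top (Subgroup.mem_top _)) fun q hq => by
        have h1 : cj (x ^ K) q ∈ T := hT ▸ mem_img_self _ hq
        exact (img_le fun r hr => hfN r (hLN hr)) h1
    have himgL : img (fun q => g (cj (x ^ K) q)) E = L := by
      refine eq_of_le_card (img_le fun q hq => ?_) (by rw [hm.card_img, h.card, hL])
      have h1 : cj (x ^ K) q ∈ T := hT ▸ mem_img_self _ hq
      obtain ⟨r, hr, hre⟩ := (hf.restrict hLN).mem_img.1 h1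
      show g (cj (x ^ K) q) ∈ L
      rw [← hre, hgf r (hLN hr)]
      exact hr
    have := h.fullyNormalized hm
    rw [himgL, hc.card_N] at this
    omega
  -- the weight of `y`
  obtain ⟨w₀, hw₀, k, hfy⟩ := hLdec _ (hfL y hxy)
  obtain ⟨c, hcy⟩ := mem_zpowers_iff.1 (hc.disp y hyN e he)
  have hc0 : ¬ (p : ℤ) ∣ c := fun hd => hyE (h.centralizer_le fun q hq => by
    obtain ⟨w, hw, j, rfl⟩ := hEdec q hq
    have h1 : Commute y e := by
      rw [← commutatorElement_eq_one_iff_commute, ← hcy,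
        Fusion.RankTwoResistant.zpow_eq_of_dvd (hup u hc.u_mem) (j := 0) (by simpa using hd), zpow_zero]
    exact (((hWc w hw y hyN).symm).mul_right (h1.zpow_right j)).eq)
  have hk : (p : ℤ) ∣ k - 4 := by
    obtain ⟨w₁, hw₁, hfe⟩ : ∃ w₁ ∈ W, f e = w₁ * e ^ h₂ :=
      ⟨_, hfQ e he, (inv_mul_cancel_right _ _).symm⟩
    have h1 : f ⁅y, e⁆ = ⁅f y, f e⁆ := map_commutatorElement hf.hom ⟨y, hyN⟩ ⟨e, hEN he⟩
    have hcc : ⁅y ^ k, e ^ h₂⁆ = u ^ (c * (k * h₂)) := by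
      rw [zpow_mul, hcy]
      exact comm_zpow rfl (hWc _ (huW (hc.disp y hyN e he)) y hyN)
        (hWc _ (huW (hc.disp y hyN e he)) e (hEN he)) k h₂
    have hcw0 : ∀ q ∈ N, Commute w₀ q := fun q hq => hWc w₀ hw₀ q hq
    have hcw1 : ∀ q ∈ N, Commute w₁ q := fun q hq => hWc w₁ hw₁ q hq
    have e1 : ⁅w₀ * y ^ k, w₁ * e ^ h₂⁆ = ⁅y ^ k, e ^ h₂⁆ := by
      have hA := hcw0 (w₁ * e ^ h₂) (N.mul_mem (hWN hw₁) (hEN (E.zpow_mem he _)))
      have hB := hcw1 (y ^ k) (N.zpow_mem hyN k)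
      calc ⁅w₀ * y ^ k, w₁ * e ^ h₂⁆
          = w₀ * (y ^ k * (w₁ * e ^ h₂) * (y ^ k)⁻¹) * w₀⁻¹ * (w₁ * e ^ h₂)⁻¹ := by
            rw [commutatorElement_def]; group
        _ = y ^ k * (w₁ * e ^ h₂) * (y ^ k)⁻¹ * (w₁ * e ^ h₂)⁻¹ := by
            rw [(hcw0 _ (N.mul_mem (N.mul_mem (N.zpow_mem hyN k)
              (N.mul_mem (hWN hw₁) (hEN (E.zpow_mem he _)))) (N.inv_mem (N.zpow_mem hyN k)))).eq,
              mul_inv_cancel_right]
        _ = y ^ k * w₁ * e ^ h₂ * (y ^ k)⁻¹ * (e ^ h₂)⁻¹ * w₁⁻¹ := by group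
        _ = w₁ * ⁅y ^ k, e ^ h₂⁆ * w₁⁻¹ := by
            rw [← hB.eq, commutatorElement_def]; group
        _ = _ := by
            rw [(hcw1 _ (hWN (by rw [hcc]; exact W.zpow_mem hc.u_mem _))).eq, mul_inv_cancel_right]
    rw [hfy, hfe, e1, hcc, ← hcy, hfhom c (hWN hc.u_mem), hfu, ← zpow_mul] at h1
    have h2 := Fusion.RankTwoResistant.dvd_of_zpow_eq (hup u hc.u_mem) hc.u_ne h1
    rw [show 2 * c - c * (k * h₂) = c * (2 - k * h₂) by ring] at h2
    have h3 := ((Nat.prime_iff_prime_int.1 hpp).dvd_or_dvd h2).resolve_left hc0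
    obtain ⟨r, hr⟩ := h3
    obtain ⟨s, hs⟩ := hh₂
    exact ⟨-(2 * r + k * s), by linear_combination (-2 : ℤ) * hr - k * hs⟩
  have hfy' : ∃ w ∈ W, f y = y ^ 4 * w := by
    obtain ⟨r, hr⟩ := hk
    refine ⟨w₀ * (y ^ p) ^ r, W.mul_mem hw₀ (W.zpow_mem hyp r), ?_⟩
    rw [hfy, show k = (4 : ℕ) + (p : ℤ) * r by push_cast; linear_combination hr, zpow_add, zpow_mul,
      zpow_natCast, zpow_natCast, ← mul_assoc, (hWc w₀ hw₀ _ (N.pow_mem hyN 4)).eq, mul_assoc]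
  obtain ⟨wy, hwy, hfy'⟩ := hfy'
  -- the image of the conjugate
  have hxe : x * e * x⁻¹ = y * e := by rw [hy, commutatorElement_def]; group
  have hxEN : ∀ q ∈ E, x * q * x⁻¹ ∈ N := fun q hq => by
    obtain ⟨v, hv, j, rfl⟩ := hEdec q hq
    rw [← MulAut.conj_apply, map_mul, map_zpow, MulAut.conj_apply, MulAut.conj_apply, hxe]
    exact N.mul_mem (hWN (hxWW v hv)) (N.zpow_mem (N.mul_mem hyN (hEN he)) j)
  have hm : IsMap F E (fun q => f (cj x q)) := hf.comp (isMap_cj le_top (Subgroup.mem_top x)) hxEN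
  set T := img (fun q => f (cj x q)) E
  have hTW : W ≤ T := by
    have hWimg : img (fun q => f (cj x q)) W = W := eq_of_le_card
      (img_le fun q hq => hfWW _ (hxWW q hq)) ((hm.restrict hc.le).card_img.ge)
    exact fun q hq => img_mono _ hc.le (hWimg.ge hq)
  have he2 : f (cj x (e * e)) = f y * f e * (f y * f e) := by
    rw [cj_apply, show x * (e * e) * x⁻¹ = x * e * x⁻¹ * (x * e * x⁻¹) by group, hxe,
      hf.map_mul (N.mul_mem hyN (hEN he)) (N.mul_mem hyN (hEN he)), hf.map_mul hyN (hEN he)]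
  obtain ⟨we, hwe, hsq⟩ : ∃ we ∈ W, f e * f e = e * we := by
    set w₁ := f e * (e ^ h₂)⁻¹ with hw₁
    have hw1m : w₁ ∈ W := hfQ e he
    have hfe' : f e = w₁ * e ^ h₂ := (inv_mul_cancel_right _ _).symm
    refine ⟨w₁ * w₁, W.mul_mem hw1m hw1m, ?_⟩
    obtain ⟨s, hs⟩ := hh₂
    have h3 : e ^ h₂ * e ^ h₂ = e := by
      rw [← zpow_add, Fusion.RankTwoResistant.zpow_eq_of_dvd (h.exp e he) (j := 1) ⟨s, by linear_combination hs⟩,
        zpow_one]
    have hc1 : Commute w₁ (e ^ h₂) := hWc w₁ hw1m _ (hEN (E.zpow_mem he _))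
    rw [hfe', show w₁ * e ^ h₂ * (w₁ * e ^ h₂) = w₁ * (e ^ h₂ * w₁) * e ^ h₂ by simp only [mul_assoc], ← hc1.eq,
      show w₁ * (w₁ * e ^ h₂) * e ^ h₂ = w₁ * w₁ * (e ^ h₂ * e ^ h₂) by simp only [mul_assoc], h3,
      (hWc _ (W.mul_mem hw1m hw1m) e (hEN he)).eq]
  have h8 : ∃ w ∈ W, f (cj x (e * e)) = y ^ 8 * e * w := by
    have hsw : ∃ v ∈ W, f e * f y = f y * f e * v := by
      refine ⟨⁅(f e)⁻¹, (f y)⁻¹⁆, ?_, by rw [commutatorElement_def]; group⟩
      rw [← commutatorElement_inv]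
      exact W.inv_mem (huW (hc.disp _ (N.inv_mem (hfN y hyN)) _ (E.inv_mem (hfE e he))))
    obtain ⟨v, hv, hswv⟩ := hsw
    refine ⟨we * (wy * wy * v), W.mul_mem hwe (W.mul_mem (W.mul_mem hwy hwy) hv), ?_⟩
    have hcv : ∀ {q r : X}, q ∈ W → r ∈ N → q * r = r * q := fun hq hr => (hWc _ hq _ hr).eq
    rw [he2, show f y * f e * (f y * f e) = f y * (f e * f y) * f e by simp only [mul_assoc], hswv,
      show f y * (f y * f e * v) * f e = f y * f y * f e * (v * f e) by simp only [mul_assoc],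
      hcv hv (hfN e (hEN he)), show f y * f y * f e * (f e * v) = f y * f y * (f e * f e) * v by simp only [mul_assoc],
      hsq, hfy', show y ^ 4 * wy * (y ^ 4 * wy) = y ^ 4 * (wy * y ^ 4) * wy by simp only [mul_assoc],
      hcv hwy (N.pow_mem hyN 4), show y ^ 4 * (y ^ 4 * wy) * wy * (e * we) * v = y ^ 4 * y ^ 4 * ((wy * wy) * e) * we * v by
        simp only [mul_assoc], hcv (W.mul_mem hwy hwy) (hEN he), ← pow_add]
    have hwv : wy * wy * we = we * (wy * wy) := hcv (W.mul_mem hwy hwy) (hWN hwe)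
    calc y ^ (4 + 4) * (e * (wy * wy)) * we * v = y ^ 8 * e * ((wy * wy) * we * v) := by simp only [mul_assoc]
      _ = _ := by rw [hwv]; simp only [mul_assoc]
  obtain ⟨w8, hw8, h8⟩ := h8
  have hT : img (cj (x ^ 8)) E = T := hconj 8 T hTW
    ⟨w8, hw8, h8 ▸ mem_img_self (fun q => f (cj x q)) (E.mul_mem he he)⟩ (by rw [hm.card_img, h.card])
  -- the automorphism of `E`
  have hgE : ∀ q ∈ E, g q ∈ E := by
    have hEimg : img f E = E := eq_of_le_card (img_le hfE) (hf.restrict hEN).card_img.ge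
    intro q hq
    obtain ⟨r, hr, rfl⟩ := (hf.restrict hEN).mem_img.1 (hEimg.ge hq)
    rwa [hgf r (hEN hr)]
  have hgW : ∀ w ∈ W, g w ∈ W ∧ g w * w⁻¹ ∈ zpowers u := by
    intro w hw
    have hWimg : img f W = W := eq_of_le_card (img_le hfWW) (hf.restrict hWN).card_img.ge
    obtain ⟨r, hr, rfl⟩ := (hf.restrict hWN).mem_img.1 (hWimg.ge hw)
    rw [hgf r (hWN hr)]
    refine ⟨hr, ?_⟩
    have := inv_mem (hfW r hr)
    rwa [mul_inv_rev, inv_inv] at this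
  set β : X → X := fun q => cj (x ^ 8)⁻¹ (f (cj x (g q)))
  have hβ : IsMap F E β := (isMap_cj (F := F) (P := T) le_top (Subgroup.mem_top _)).comp
    (hm.comp (hg.restrict hEN) hgE) fun q hq => mem_img_self (fun q => f (cj x q)) (hgE q hq)
  have hβE : ∀ q ∈ E, β q ∈ E := fun q hq => by
    have h1 : f (cj x (g q)) ∈ T := mem_img_self (fun q => f (cj x q)) (hgE q hq)
    obtain ⟨r, hr, hre⟩ := (isMap_cj (F := F) le_top (Subgroup.mem_top (x ^ 8))).mem_img.1 (hT.ge h1)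
    show cj (x ^ 8)⁻¹ (f (cj x (g q))) ∈ E
    rw [← hre, cj_inv_cj]; exact hr
  have hx8 : ∀ w ∈ W, (x ^ 8)⁻¹ * w * x ^ 8 = ⁅x, w⁆ ^ (-8 : ℤ) * w := by
    intro w hw
    have hzc : Commute ⁅x, w⁆ x := by
      obtain ⟨i, hi⟩ := mem_zpowers_iff.1 (hxW w hw)
      rw [← hi]; exact (hxu.zpow_right i).symm
    have hzw : Commute ⁅x, w⁆ w := hWc _ (huW (hxW w hw)) w (hWN hw)
    have h1 := comm_zpow rfl hzc hzw (-8) 1
    rw [zpow_one, mul_one, commutatorElement_def] at h1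
    rw [← h1, ← zpow_natCast]
    group
  have hβu : ∀ w ∈ W, β w = ⁅x, w⁆ ^ (-6 : ℤ) * w := by
    intro w hw
    obtain ⟨hw', hd⟩ := hgW w hw
    have hzz : ⁅x, g w⁆ = ⁅x, w⁆ := by
      obtain ⟨i, hi⟩ := mem_zpowers_iff.1 hd
      have hcu : Commute x (u ^ i) := hxu.zpow_right i
      rw [show g w = u ^ i * w by rw [hi, inv_mul_cancel_right], commutatorElement_def, commutatorElement_def,
        ← mul_assoc x (u ^ i) w, hcu.eq, mul_inv_rev]
      rw [show u ^ i * x * w * x⁻¹ * (w⁻¹ * (u ^ i)⁻¹) = u ^ i * (x * w * x⁻¹ * w⁻¹) * (u ^ i)⁻¹ by group]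
      obtain ⟨r, hr⟩ := mem_zpowers_iff.1 (hxW w hw)
      rw [commutatorElement_def] at hr
      rw [← hr, ((Commute.refl u).zpow_zpow i r).eq, mul_inv_cancel_right]
    obtain ⟨r, hr⟩ := mem_zpowers_iff.1 (hxW w hw)
    have hfz : f ⁅x, w⁆ = ⁅x, w⁆ ^ (2 : ℤ) := by
      rw [← hr, hfhom r (hWN hc.u_mem), hfu, ← zpow_mul, ← zpow_mul, mul_comm]
    show (x ^ 8)⁻¹ * f (x * g w * x⁻¹) * (x ^ 8)⁻¹⁻¹ = _
    rw [inv_inv, show x * g w * x⁻¹ = ⁅x, g w⁆ * g w by rw [commutatorElement_def]; group, hzz,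
      hf.map_mul (hWN (huW (hxW w hw))) (hWN hw'), hfz, hfg w (hWN hw)]
    have hx8u : ∀ i : ℤ, (x ^ 8)⁻¹ * u ^ i * x ^ 8 = u ^ i := fun i => by
      rw [((hxu.pow_left 8).inv_left.zpow_right i).eq, inv_mul_cancel_right]
    rw [show (x ^ 8)⁻¹ * (⁅x, w⁆ ^ (2 : ℤ) * w) * x ^ 8 =
      ((x ^ 8)⁻¹ * ⁅x, w⁆ ^ (2 : ℤ) * x ^ 8) * ((x ^ 8)⁻¹ * w * x ^ 8) by group, hx8 w hw, ← hr, ← zpow_mul,
      hx8u, ← mul_assoc, ← zpow_mul, ← zpow_mul, ← zpow_add]
    congr 2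
    ring
  obtain ⟨g', hg', hge⟩ := hc.key β hβ
    (by rw [hβu u hc.u_mem, commutatorElement_eq_one_iff_commute.2 hxu, one_zpow, one_mul])
    (fun w hw => by rw [hβu w hw, mul_inv_cancel_right]; exact Subgroup.zpow_mem _ (hxW w hw) _)
    (fun q hq => by
      -- a generator modulo `W`
      have hz : f (e * e) ∈ E := hfE _ (E.mul_mem he he)
      have hzc : β (f (e * e)) * (f (e * e))⁻¹ ∈ W := by
        obtain ⟨w', hw', hK⟩ := horb 8
        show (x ^ 8)⁻¹ * f (x * g (f (e * e)) * x⁻¹) * (x ^ 8)⁻¹⁻¹ * _ ∈ W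
        rw [hgf _ (hEN (E.mul_mem he he)), inv_inv,
          show f (x * (e * e) * x⁻¹) = y ^ 8 * e * w8 from h8,
          show y ^ 8 * e * w8 = x ^ 8 * e * (x ^ 8)⁻¹ * (w'⁻¹ * w8) by rw [hK]; group,
          hf.map_mul (hEN he) (hEN he), hsq]
        have hv : (x ^ 8)⁻¹ * (w'⁻¹ * w8) * x ^ 8 ∈ W := by
          rw [hx8 _ (W.mul_mem (W.inv_mem hw') hw8)]
          exact W.mul_mem (huW (Subgroup.zpow_mem _ (hxW _ (W.mul_mem (W.inv_mem hw') hw8)) _))
            (W.mul_mem (W.inv_mem hw') hw8)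
        set v := (x ^ 8)⁻¹ * (w'⁻¹ * w8) * x ^ 8 with hvdef
        rw [show (x ^ 8)⁻¹ * (x ^ 8 * e * (x ^ 8)⁻¹ * (w'⁻¹ * w8)) * x ^ 8 = e * v by rw [hvdef]; group,
          show e * v * (e * we)⁻¹ = e * (v * we⁻¹) * e⁻¹ by group,
          ← (hWc _ (W.mul_mem hv (W.inv_mem hwe)) e (hEN he)).eq, mul_inv_cancel_right]
        exact W.mul_mem hv (W.inv_mem hwe)
      have hzW : f (e * e) ∉ W := fun hmem => heW (by
        rw [hf.map_mul (hEN he) (hEN he), hsq] at hmem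
        have := W.mul_mem hmem (W.inv_mem hwe)
        rwa [mul_inv_cancel_right] at this)
      obtain ⟨v, hv, j, rfl⟩ := mem_mul_zpow h.hX hc.le hW h.card hz hzW (hWnE hEN) hq
      set z := f (e * e)
      have hβz : β (z ^ j) = β z ^ j := map_zpow hβ.hom ⟨z, hz⟩ j
      have hβv : β v ∈ W := by
        rw [hβu v hv]; exact W.mul_mem (huW (Subgroup.zpow_mem _ (hxW v hv) _)) hv
      rw [hβ.map_mul (hc.le hv) (E.zpow_mem hz j), hβz,
        show β z = β z * z⁻¹ * z by group, (hWc _ hzc z (hEN hz)).mul_zpow,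
        show β v * ((β z * z⁻¹) ^ j * z ^ j) * (v * z ^ j)⁻¹ = β v * (β z * z⁻¹) ^ j * v⁻¹ by group]
      exact W.mul_mem (W.mul_mem hβv (W.zpow_mem hzc j)) (W.inv_mem hv))
  intro w hw
  have h6 : ⁅x, w⁆ ^ (-6 : ℤ) = 1 := by
    have h1 := hge w (hc.le hw)
    rw [hβu w hw, hc.cent g' hg' w hw, mul_inv_cancel_right] at h1
    exact mul_eq_right.1 h1
  rw [← commutatorElement_eq_one_iff_commute]
  by_contra hne
  have h7 := Fusion.RankTwoResistant.dvd_of_zpow_eq (hup _ (huW (hxW w hw))) hne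
    (h6.trans (zpow_zero _).symm)
  rw [sub_zero, dvd_neg] at h7
  have h8 : p ∣ 6 := by exact_mod_cast h7
  have := Nat.le_of_dvd (by norm_num) h8
  interval_cases p <;> omega

end Cfsg.Agent.LocalFlavell.MaxClass
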