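import Cfsg.Agent.Lib.Fusion.EssentialShape
import Cfsg.Agent.Lib.Fusion.Embedded
import Cfsg.Agent.Lib.Fusion.RankTwoResistant.Torus

/-!
Automorphism groups of an elementary abelian group of order `p ^ 3` with a strongly `p`-embedded subgroup,
containing an element fixing a hyperplane: the Sylow subgroups have order `p` and there is a torus.
-/

set_option autoImplicit false
set_option linter.unusedSectionVars false

namespace Cfsg.Agent.LocalFlavell.MaxClass.Linear

open Subgroup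
open Cfsg.Agent.Fusion

variable {Q : Type*} [CommGroup Q] [Finite Q] {p : ℕ} [hp : Fact p.Prime]

theorem zpow_fix {σ : MulAut Q} {x : Q} (h : σ x = x) (i : ℤ) : (σ ^ i) x = x :=
  (MulAction.stabilizer (MulAut Q) x).zpow_mem (show σ ∈ _ from h) i

theorem isPGroup_of_pow (he : ∀ q : Q, q ^ p = 1) : IsPGroup p Q := fun q => ⟨1, by rw [pow_one]; exact he q⟩

/-- A subgroup preserving a series with steps of index at most `p` and generated by `p`-elements. -/
theorem isPGroup_closure (hQ : IsPGroup p Q) (s : Set (MulAut Q)) (C : ℕ → Subgroup Q) (n : ℕ)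
    (h0 : C 0 = ⊥) (hn : C n = ⊤) (hmono : ∀ i < n, C i ≤ C (i + 1))
    (hstep : ∀ i < n, (C i).relIndex (C (i + 1)) ≤ p)
    (hpel : ∀ c ∈ s, ∃ k : ℕ, c ^ p ^ k = 1) (hpres : ∀ c ∈ s, ∀ i ≤ n, ∀ x ∈ C i, c x ∈ C i) :
    IsPGroup p (closure s) := by
  have hinv : ∀ i ≤ n, ∀ a ∈ closure s, ∀ x ∈ C i, a x ∈ C i := by
    intro i hi a ha
    induction ha using closure_induction with
    | mem c hc => exact hpres c hc i hi
    | one => intro x hx; simpa using hx
    | mul a b _ _ iha ihb => intro x hx; exact iha _ (ihb x hx)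
    | inv a _ iha =>
      intro x hx
      obtain ⟨y, hy⟩ := Finite.surjective_of_injective
        (f := fun y : C i => (⟨a y, iha y y.2⟩ : C i))
        (fun u v h => Subtype.ext (a.injective (congrArg Subtype.val h))) ⟨x, hx⟩
      rw [show x = a y from (congrArg Subtype.val hy).symm, MulAut.inv_apply_self]
      exact y.2
  have hle : (⊤ : Subgroup (closure s)) ≤ Cfsg.pCore p (closure s) := by
    rw [← closure_closure_coe_preimage, closure_le]
    intro c hc
    obtain ⟨k, hk⟩ := hpel c hc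
    exact EssentialShape.mem_pCore_of_series hQ _ C n h0 hn hmono hinv hstep (α := c)
      (Subtype.ext (by simpa using hk))
  intro a
  have hP : IsPGroup p (Cfsg.pCore p (closure s)) :=
    Sylow.sSup_of_normal _ (fun _ hN => hN.2) fun _ hN => hN.1
  obtain ⟨k, hk⟩ := hP ⟨a, hle (mem_top a)⟩
  exact ⟨k, congrArg Subtype.val hk⟩

/-- `c` fixes `D` and moves everything inside the line through `g ∈ D`. -/
def Trans (c : MulAut Q) (D : Subgroup Q) (g : Q) : Prop :=
  g ∈ D ∧ (∀ x ∈ D, c x = x) ∧ ∀ x, c x / x ∈ zpowers g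

theorem Trans.pow_eq {c : MulAut Q} {D : Subgroup Q} {g : Q} (he : ∀ q : Q, q ^ p = 1)
    (h : Trans c D g) : c ^ p ^ 1 = 1 := by
  have key : ∀ n : ℕ, ∀ x, (c ^ n) x = x * (c x / x) ^ n := by
    intro n
    induction n with
    | zero => intro x; simp
    | succ n ih =>
      intro x
      rw [pow_succ', MulAut.mul_apply, ih, map_mul, map_pow]
      obtain ⟨k, hk⟩ := mem_zpowers_iff.mp (h.2.2 x)
      rw [← hk, map_zpow, h.2.1 g h.1, hk, pow_succ', ← mul_assoc, mul_div_cancel]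
  refine MulEquiv.ext fun x => ?_
  rw [pow_one, key, he, mul_one, MulAut.one_apply]

theorem Trans.symm_conj {c g : MulAut Q} {D : Subgroup Q} {u : Q} (h : Trans c D u) :
    Trans (g * c * g⁻¹) (D.map g.toMonoidHom) (g u) := by
  refine ⟨⟨u, h.1, rfl⟩, ?_, fun x => ?_⟩
  · rintro _ ⟨y, hy, rfl⟩
    show g (c (g⁻¹ (g y))) = g y
    rw [MulAut.inv_apply_self, h.2.1 y hy]
  · obtain ⟨k, hk⟩ := mem_zpowers_iff.mp (h.2.2 (g⁻¹ x))
    refine mem_zpowers_iff.mpr ⟨k, ?_⟩
    rw [← map_zpow, hk, map_div, MulAut.apply_inv_self]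
    rfl

/-- Two transvections, the centre of the first fixed by the second, generate a `p`-group. -/
theorem isPGroup_pair (he : ∀ q : Q, q ^ p = 1) (hQ3 : Nat.card Q = p ^ 3) {c d : MulAut Q}
    {C D : Subgroup Q} {u v : Q} (hc : Trans c C u) (hd : Trans d D v) (hD : Nat.card D = p ^ 2)
    (hu : u ∈ D) : IsPGroup p (closure ({c, d} : Set (MulAut Q))) := by
  have hord : orderOf u ≤ p := Nat.le_of_dvd hp.out.pos (orderOf_dvd_of_pow_eq_one (he u))
  rcases eq_or_ne u 1 with rfl | hu1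
  · have hc1 : c = 1 := MulEquiv.ext fun x => by
      have := hc.2.2 x
      rw [zpowers_one_eq_bot, mem_bot, div_eq_one] at this
      exact this
    rw [hc1, Set.insert_eq, Subgroup.closure_union, closure_singleton_one, bot_sup_eq]
    intro a
    obtain ⟨j, hj⟩ := mem_closure_singleton.mp a.2
    refine ⟨1, Subtype.ext ?_⟩
    rw [SubgroupClass.coe_pow, ← hj, ← zpow_natCast, ← zpow_mul, mul_comm, zpow_mul, zpow_natCast,
      hd.pow_eq he, one_zpow]
    rfl
  let E : ℕ → Subgroup Q := fun i => if i = 0 then ⊥ else if i = 1 then zpowers u else if i = 2 then D else ⊤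
  refine isPGroup_closure (isPGroup_of_pow he) _ E 3 rfl rfl ?_ ?_ ?_ ?_
  · intro i hi; interval_cases i <;> simp [E, hu]
  · intro i hi
    interval_cases i
    · simp only [E, if_true, one_ne_zero, if_false, zero_add, relIndex_bot_left, Nat.card_zpowers]
      exact hord
    · simp only [E, if_true, one_ne_zero, if_false, show (1 + 1 : ℕ) ≠ 0 by omega, show (1 + 1 : ℕ) ≠ 1 by omega]
      have h := relIndex_mul_relIndex ⊥ (zpowers u) D bot_le (zpowers_le.mpr hu)
      rw [relIndex_bot_left, relIndex_bot_left, hD, Nat.card_zpowers,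
        orderOf_eq_prime (he u) hu1, pow_two] at h
      exact (Nat.eq_of_mul_eq_mul_left hp.out.pos h).le
    · simp only [E, show (2 : ℕ) ≠ 0 by omega, show (2 : ℕ) ≠ 1 by omega, if_false, if_true,
        show (2 + 1 : ℕ) ≠ 0 by omega, show (2 + 1 : ℕ) ≠ 1 by omega, show (2 + 1 : ℕ) ≠ 2 by omega,
        relIndex_top_right]
      have h := D.card_mul_index
      rw [hD, hQ3, pow_succ _ 2] at h
      exact (Nat.eq_of_mul_eq_mul_left (pow_pos hp.out.pos 2) h).le
  · rintro e (rfl | rfl)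
    · exact ⟨1, hc.pow_eq he⟩
    · exact ⟨1, hd.pow_eq he⟩
  · intro e he' i hi x hx
    interval_cases i
    · simp only [E, if_true, mem_bot] at hx ⊢; rw [hx, map_one]
    · simp only [E, one_ne_zero, if_false, if_true] at hx ⊢
      obtain ⟨k, rfl⟩ := mem_zpowers_iff.mp hx
      rcases he' with rfl | rfl
      · rw [map_zpow, hc.2.1 u hc.1]; exact zpow_mem (mem_zpowers u) k
      · rw [map_zpow, hd.2.1 u hu]; exact zpow_mem (mem_zpowers u) k
    · simp only [E, show (2 : ℕ) ≠ 0 by omega, show (2 : ℕ) ≠ 1 by omega, if_false, if_true] at hx ⊢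
      rcases he' with rfl | rfl
      · have := mul_mem hx (zpowers_le.mpr hu (hc.2.2 x))
        rwa [mul_div_cancel] at this
      · rwa [hd.2.1 x hx]
    · simp [E]

variable {X : Subgroup (MulAut Q)} {Y : Subgroup X} {P : Sylow p X}

theorem exists_conj_Y (hY : ∀ A : Subgroup X, A ≤ P → A ≠ ⊥ → normalizer (A : Set X) ≤ Y)
    (hPne : (P : Subgroup X) ≠ ⊥) {x : X} (hx : IsPGroup p (zpowers x)) (hxY : x ∈ Y) :
    ∃ y ∈ Y, y⁻¹ * x * y ∈ (P : Subgroup X) := by
  have hPY : (P : Subgroup X) ≤ Y := le_normalizer.trans (hY _ le_rfl hPne)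
  obtain ⟨c, hc⟩ := Saturation.exists_conj_le_sylow (P.subtype hPY)
    (A := zpowers (⟨x, hxY⟩ : Y)) (fun a => by
      obtain ⟨k, hk⟩ := hx ⟨((a : Y) : X), by
        obtain ⟨j, hj⟩ := mem_zpowers_iff.mp a.2
        exact mem_zpowers_iff.mpr ⟨j, by simpa using congrArg Subtype.val hj⟩⟩
      exact ⟨k, Subtype.ext (Subtype.ext (congrArg Subtype.val hk :))⟩)
  refine ⟨(c : X)⁻¹, Y.inv_mem c.2, ?_⟩
  have := hc _ (mem_zpowers _)
  simpa [Sylow.coe_subtype, mem_subgroupOf] using this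

/-- The Sylow subgroup has order `p`, and there is a torus normalizing it. -/
theorem main (he : ∀ q : Q, q ^ p = 1) (hQ3 : Nat.card Q = p ^ 3)
    (hY : ∀ A : Subgroup X, A ≤ P → A ≠ ⊥ → normalizer (A : Set X) ≤ Y) (hYtop : Y ≠ ⊤)
    {a : X} (haP : a ∈ (P : Subgroup X)) (ha1 : a ≠ 1) {W : Subgroup Q} (hW : Nat.card W = p ^ 2)
    (haW : ∀ x ∈ W, (a : MulAut Q) x = x) (haQ : ∀ x, (a : MulAut Q) x / x ∈ W) :
    (P : Subgroup X) = zpowers a ∧ ∃ u ∈ W, u ≠ 1 ∧ (∀ x, (a : MulAut Q) x / x ∈ zpowers u) ∧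
      ∀ t h : ℤ, (p : ℤ) ∣ t * h - 1 → ∃ δ ∈ X, δ u = u ^ t ∧ (∀ w ∈ W, δ w / w ∈ zpowers u) ∧
        ∀ x, δ x / x ^ h ∈ W := by
  have hpp := hp.out
  have hQp := isPGroup_of_pow he
  have hPne : (P : Subgroup X) ≠ ⊥ := fun h => ha1 (by rwa [h, mem_bot] at haP)
  have hPY : (P : Subgroup X) ≤ Y := le_normalizer.trans (hY _ le_rfl hPne)
  have hinvp : ∀ (q : Q) (k : ℤ), ¬ (p : ℤ) ∣ k → ∃ k' : ℤ, (q ^ k) ^ k' = q := fun q k hk => by
    obtain ⟨k', hk'⟩ := RankTwoResistant.exists_inverse hk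
    exact ⟨k', by rw [← zpow_mul, RankTwoResistant.zpow_eq_of_dvd (he q) (j := 1) hk', zpow_one]⟩
  have hsup : ∀ {C : Subgroup Q}, Nat.card C = p ^ 2 → ∀ {x : Q}, x ∉ C → ∀ y, ∃ w ∈ C, ∃ k : ℤ, y = w * x ^ k := by
    intro C hC x hx y
    have htop : C ⊔ zpowers x = ⊤ := by
      refine Subgroup.eq_top_of_le_card _ ?_
      obtain ⟨i, hi⟩ := IsPGroup.iff_card.mp (hQp.to_subgroup (C ⊔ zpowers x))
      have h1 : Nat.card C < Nat.card (C ⊔ zpowers x : Subgroup Q) := lt_of_not_ge fun hge =>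
        hx ((eq_of_le_of_card_ge le_sup_left hge).symm ▸ mem_sup_right (mem_zpowers x))
      rw [hC, hi, Nat.pow_lt_pow_iff_right hpp.one_lt] at h1
      rw [hQ3, hi]
      exact Nat.pow_le_pow_right hpp.pos h1
    obtain ⟨w, hw, z, hz, rfl⟩ := mem_sup.mp (htop.ge (mem_top y))
    obtain ⟨k, rfl⟩ := mem_zpowers_iff.mp hz
    exact ⟨w, hw, k, rfl⟩
  have hmeet : ∀ {C D : Subgroup Q}, Nat.card C = p ^ 2 → Nat.card D = p ^ 2 → ∃ q ∈ C, q ∈ D ∧ q ≠ 1 := by
    intro C D hC hD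
    by_contra h
    push Not at h
    have h' : C ⊓ D = ⊥ := (eq_bot_iff_forall _).mpr fun x hx => h x hx.1 hx.2
    have h1 : D.relIndex C ≤ D.index :=
      Nat.le_of_dvd (Nat.pos_of_ne_zero index_ne_zero_of_finite) (Subgroup.relIndex_dvd_index_of_normal _ _)
    rw [← inf_relIndex_right, inf_comm, h', relIndex_bot_left, hC] at h1
    have h2 := D.card_mul_index
    rw [hD, hQ3] at h2
    have h3 := Nat.eq_of_mul_eq_mul_left (pow_pos hpp.pos 2) (h2.trans (pow_succ p 2))
    rw [h3] at h1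
    exact absurd h1 (by
      rw [pow_two]; exact not_le.mpr (lt_mul_of_one_lt_right hpp.pos hpp.one_lt))
  -- a transvection outside the block of `a`
  obtain ⟨g, hg⟩ : ∃ g, g ∉ Y := by
    by_contra h; push Not at h; exact hYtop (eq_top_iff.mpr fun x _ => h x)
  obtain ⟨x0, hx0⟩ : ∃ x0, x0 ∉ W := by
    by_contra h
    push Not at h
    rw [(eq_top_iff.mpr fun x _ => h x : W = ⊤), card_top, hQ3] at hW
    exact absurd (Nat.pow_right_injective hpp.two_le hW) (by omega)
  set u0 := (a : MulAut Q) x0 / x0 with hu0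
  have hta : Trans (a : MulAut Q) W u0 := by
    refine ⟨haQ x0, haW, fun y => ?_⟩
    obtain ⟨w, hw, k, rfl⟩ := hsup hW hx0 y
    refine mem_zpowers_iff.mpr ⟨k, ?_⟩
    rw [map_mul, haW w hw, map_zpow, mul_div_mul_left_eq_div, ← div_zpow]
  -- `p`-groups connect blocks
  have hblock : ∀ {c d : X}, IsPGroup p (closure ({(c : MulAut Q), (d : MulAut Q)} : Set (MulAut Q))) →
      ∃ e : X, e⁻¹ * c * e ∈ (P : Subgroup X) ∧ e⁻¹ * d * e ∈ (P : Subgroup X) := by
    intro c d hcd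
    set H := (closure ({(c : MulAut Q), (d : MulAut Q)} : Set (MulAut Q))).subgroupOf X
    have hH : IsPGroup p H := hcd.comap_of_injective X.subtype X.subtype_injective
    obtain ⟨e, he'⟩ := Saturation.exists_conj_le_sylow P hH
    refine ⟨e⁻¹, ?_, ?_⟩
    · rw [inv_inv]; exact he' _ (mem_subgroupOf.mpr (subset_closure (Or.inl rfl)))
    · rw [inv_inv]; exact he' _ (mem_subgroupOf.mpr (subset_closure (Or.inr rfl)))
  have hab : ∀ e : X, e⁻¹ * a * e ∈ (P : Subgroup X) → e ∈ Y := fun e h => by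
    have := Embedded.mem_of_conj hY haP ha1 (a := e⁻¹) (by rwa [inv_inv])
    simpa using Y.inv_mem this
  set b0 : X := g * a * g⁻¹ with hb0
  have hb0a : ∀ e : X, e⁻¹ * b0 * e ∈ (P : Subgroup X) → e ∉ Y := by
    intro e h heY
    refine hg ?_
    have h1 : (g⁻¹ * e)⁻¹ * a * (g⁻¹ * e) ∈ (P : Subgroup X) := by
      rw [show (g⁻¹ * e)⁻¹ * a * (g⁻¹ * e) = e⁻¹ * b0 * e by rw [hb0]; group]; exact h
    have h2 := Y.mul_mem heY (Y.inv_mem (hab _ h1))
    rwa [mul_inv_rev, inv_inv, mul_inv_cancel_left] at h2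
  set W' := W.map (g : MulAut Q).toMonoidHom with hW'def
  have hW' : Nat.card W' = p ^ 2 := by
    rw [card_map_of_injective (g : MulAut Q).injective]; exact hW
  set v := (g : MulAut Q) u0
  have htb0 : Trans (b0 : MulAut Q) W' v := hta.symm_conj
  have hu0W' : u0 ∉ W' := fun h => by
    obtain ⟨e, h1, h2⟩ := hblock (isPGroup_pair he hQ3 hta htb0 hW' h)
    exact hb0a e h2 (hab e h1)
  have hvW : v ∉ W := fun h => by
    obtain ⟨e, h1, h2⟩ := hblock (isPGroup_pair he hQ3 htb0 hta hW h)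
    exact hb0a e h1 (hab e h2)
  -- the basis
  set u := (a : MulAut Q) v / v with hu
  have huW : u ∈ W := haQ v
  have hav : (a : MulAut Q) v = v * u := by rw [hu, mul_div_cancel]
  have hu1 : u ≠ 1 := fun h => by
    refine ha1 (Subtype.ext (MulEquiv.ext fun y => ?_))
    obtain ⟨w, hw, k, rfl⟩ := hsup hW hvW y
    rw [map_mul, haW w hw, map_zpow, hav, h, mul_one, Subgroup.coe_one, MulAut.one_apply]
  have htu : Trans (a : MulAut Q) W u := by
    refine ⟨huW, haW, fun y => ?_⟩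
    obtain ⟨w, hw, k, rfl⟩ := hsup hW hvW y
    refine mem_zpowers_iff.mpr ⟨k, ?_⟩
    rw [map_mul, haW w hw, map_zpow, mul_div_mul_left_eq_div, ← div_zpow]
  have huW' : u ∉ W' := fun h => by
    obtain ⟨e, h1, h2⟩ := hblock (isPGroup_pair he hQ3 htu htb0 hW' h)
    exact hb0a e h2 (hab e h1)
  have hvW' : v ∈ W' := htb0.1
  obtain ⟨k, hk⟩ := mem_zpowers_iff.mp (htb0.2.2 u)
  have hk0 : ¬ (p : ℤ) ∣ k := fun h => by
    have hfix : (b0 : MulAut Q) u = u := by
      rw [← div_eq_one, ← hk, RankTwoResistant.zpow_eq_of_dvd (he v) (j := 0) (by simpa using h), zpow_zero]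
    have hb1 : b0 = 1 := Subtype.ext (MulEquiv.ext fun y => by
      obtain ⟨w, hw, j, rfl⟩ := hsup hW' huW' y
      rw [map_mul, htb0.2.1 w hw, map_zpow, hfix, Subgroup.coe_one, MulAut.one_apply])
    rw [hb0] at hb1
    exact ha1 (conj_eq_one_iff.mp hb1)
  obtain ⟨k', hk'⟩ := RankTwoResistant.exists_inverse hk0
  set b : X := b0 ^ k' with hb
  have hbu : ∀ (i : ℤ), ((b0 : MulAut Q) ^ i) u = u * v ^ (k * i) := by
    intro i
    have := RankTwoResistant.transvection_zpow (y := v) (w := u) (r := k) (htb0.2.1 v hvW')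
      (by rw [hk, mul_div_cancel]) i 1 0
    simpa using this
  have hbu1 : (b : MulAut Q) u = u * v := by
    rw [hb, SubgroupClass.coe_zpow, hbu, RankTwoResistant.zpow_eq_of_dvd (he v) (j := 1) hk', zpow_one]
  have hbW' : ∀ x ∈ W', (b : MulAut Q) x = x := fun x hx => by
    rw [hb, SubgroupClass.coe_zpow]
    exact zpow_fix (htb0.2.1 x hx) k'
  have htb : Trans (b : MulAut Q) W' v := ⟨hvW', hbW', fun y => by
    obtain ⟨w, hw, j, rfl⟩ := hsup hW' huW' y
    refine mem_zpowers_iff.mpr ⟨j, ?_⟩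
    rw [map_mul, hbW' w hw, map_zpow, mul_div_mul_left_eq_div, ← div_zpow, hbu1, mul_div_cancel_left]⟩
  have hb0b : ∀ e : X, e⁻¹ * b * e ∈ (P : Subgroup X) → e⁻¹ * b0 * e ∈ (P : Subgroup X) := fun e h => by
    have h1 := (P : Subgroup X).zpow_mem h k
    rw [show e⁻¹ * b * e = e⁻¹ * b * (e⁻¹)⁻¹ by rw [inv_inv], conj_zpow, inv_inv] at h1
    have hbk : b ^ k = b0 := by
      rw [hb, ← zpow_mul]
      refine (RankTwoResistant.zpow_eq_of_dvd (p := p) ?_ (j := 1) ?_).trans (zpow_one _)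
      · exact Subtype.ext (by have := htb0.pow_eq he; rwa [pow_one] at this)
      · rwa [mul_comm]
    rwa [hbk] at h1
  -- powers of `a`
  have hai : ∀ (i : ℤ), ((a : MulAut Q) ^ i) v = v * u ^ i := by
    intro i
    have := RankTwoResistant.transvection_zpow (y := u) (w := v) (r := 1) (haW u huW)
      (by rw [zpow_one]; exact hav) i 1 0
    simpa using this
  have haiW : ∀ (i : ℤ), ∀ x ∈ W, ((a : MulAut Q) ^ i) x = x :=
    fun i x hx => zpow_fix (haW x hx) i
  obtain ⟨q, hqW, hqW', hq1⟩ := hmeet hW hW'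
  have hdec : ∀ x, ∃ A B C : ℤ, x = u ^ A * v ^ B * q ^ C := by
    intro x
    obtain ⟨w, hw, B, rfl⟩ := hsup hW hvW x
    obtain ⟨z, hz, A, hzA⟩ := hsup hW' huW' w
    have hzW : z ∈ W := by
      have := mul_mem hw (inv_mem (zpow_mem huW A)); rwa [hzA, mul_inv_cancel_right] at this
    have : z ∈ zpowers q := by
      by_contra hzq
      have hle : W ≤ W' := by
        have h2 : zpowers q ⊔ zpowers z = W := by
          refine eq_of_le_of_card_ge (sup_le (zpowers_le.mpr hqW) (zpowers_le.mpr hzW)) ?_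
          obtain ⟨i, hi⟩ := IsPGroup.iff_card.mp (hQp.to_subgroup (zpowers q ⊔ zpowers z))
          have h1 : Nat.card (zpowers q) < Nat.card (zpowers q ⊔ zpowers z : Subgroup Q) := lt_of_not_ge
            fun hge => hzq ((eq_of_le_of_card_ge le_sup_left hge).symm ▸ mem_sup_right (mem_zpowers z))
          rw [Nat.card_zpowers, orderOf_eq_prime (he q) hq1, hi] at h1
          rw [hW, hi]
          have h1' : p ^ 1 < p ^ i := by rwa [pow_one]
          exact Nat.pow_le_pow_right hpp.pos ((Nat.pow_lt_pow_iff_right hpp.one_lt).mp h1')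
        rw [← h2]
        exact sup_le (zpowers_le.mpr hqW') (zpowers_le.mpr hz)
      exact huW' (hle huW)
    obtain ⟨C, rfl⟩ := mem_zpowers_iff.mp this
    exact ⟨A, B, C, by rw [hzA]; ac_rfl⟩
  constructor
  · -- the Sylow subgroup is generated by `a`
    refine le_antisymm (fun t ht => ?_) (zpowers_le.mpr haP)
    set z : X := t * b * t⁻¹ with hz
    set W'' := W'.map (t : MulAut Q).toMonoidHom with hW''def
    have hW'' : Nat.card W'' = p ^ 2 := by
      rw [card_map_of_injective (t : MulAut Q).injective]; exact hW'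
    have htz : Trans (z : MulAut Q) W'' ((t : MulAut Q) v) := htb.symm_conj
    have hUcard : Nat.card (zpowers u ⊔ zpowers v : Subgroup Q) = p ^ 2 := by
      obtain ⟨i, hi⟩ := IsPGroup.iff_card.mp (hQp.to_subgroup (zpowers u ⊔ zpowers v))
      have h1 : Nat.card (zpowers u) < Nat.card (zpowers u ⊔ zpowers v : Subgroup Q) := lt_of_not_ge
        fun hge => hvW ((eq_of_le_of_card_ge le_sup_left hge).symm.le.trans
          (zpowers_le.mpr huW) (mem_sup_right (mem_zpowers v)))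
      rw [Nat.card_zpowers, orderOf_eq_prime (he u) hu1, hi] at h1
      have h1' : p ^ 1 < p ^ i := by rwa [pow_one]
      have hi2 := (Nat.pow_lt_pow_iff_right hpp.one_lt).mp h1'
      have hi3 : i < 3 := by
        by_contra hc
        have htop : zpowers u ⊔ zpowers v = ⊤ := Subgroup.eq_top_of_le_card _
          (by rw [hQ3, hi]; exact Nat.pow_le_pow_right hpp.pos (by omega))
        obtain ⟨x, hx, y, hy, hxy⟩ := mem_sup.mp (htop.ge (mem_top q))
        obtain ⟨A, rfl⟩ := mem_zpowers_iff.mp hx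
        obtain ⟨B, rfl⟩ := mem_zpowers_iff.mp hy
        by_cases hA : (p : ℤ) ∣ A
        · rw [RankTwoResistant.zpow_eq_of_dvd (he u) (j := 0) (by simpa using hA), zpow_zero, one_mul] at hxy
          by_cases hB : (p : ℤ) ∣ B
          · exact hq1 (by rw [← hxy, RankTwoResistant.zpow_eq_of_dvd (he v) (j := 0) (by simpa using hB), zpow_zero])
          · obtain ⟨B', hB'⟩ := hinvp v B hB
            exact hvW (hB' ▸ zpow_mem (hxy ▸ hqW) B')
        · obtain ⟨A', hA'⟩ := hinvp u A hA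
          have : u ^ A ∈ W' := by
            have := mul_mem hqW' (inv_mem (zpow_mem hvW' B))
            rwa [← hxy, mul_inv_cancel_right] at this
          exact huW' (hA' ▸ zpow_mem this A')
      rw [hi, show i = 2 by omega]
    obtain ⟨x, hxU, hxW'', hx1⟩ := hmeet hUcard hW''
    obtain ⟨xu, hxu, xv, hxv, rfl⟩ := mem_sup.mp hxU
    obtain ⟨A, rfl⟩ := mem_zpowers_iff.mp hxu
    obtain ⟨B, rfl⟩ := mem_zpowers_iff.mp hxv
    have hzb : ∀ e : X, e⁻¹ * z * e ∈ (P : Subgroup X) → (t⁻¹ * e)⁻¹ * b * (t⁻¹ * e) ∈ (P : Subgroup X) :=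
      fun e h => by rwa [show (t⁻¹ * e)⁻¹ * b * (t⁻¹ * e) = e⁻¹ * z * e by rw [hz]; group]
    by_cases hB : (p : ℤ) ∣ B
    · rw [RankTwoResistant.zpow_eq_of_dvd (he v) (j := 0) (by simpa using hB), zpow_zero, mul_one] at hxW'' hx1
      have hA : ¬ (p : ℤ) ∣ A := fun h =>
        hx1 (by rw [RankTwoResistant.zpow_eq_of_dvd (he u) (j := 0) (by simpa using h), zpow_zero])
      obtain ⟨A', hA'⟩ := hinvp u A hA
      obtain ⟨e, h1, h2⟩ := hblock (isPGroup_pair he hQ3 htu htz hW'' (hA' ▸ zpow_mem hxW'' A'))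
      exact absurd (Y.mul_mem (Y.inv_mem (hPY ht)) (hab e h1)) (hb0a _ (hb0b _ (hzb e h2)))
    · obtain ⟨B', hB'⟩ := RankTwoResistant.exists_inverse hB
      set i : ℤ := A * B' with hi
      have hg' : v * u ^ i ∈ W'' := by
        have := zpow_mem hxW'' B'
        rwa [mul_zpow, ← zpow_mul, ← zpow_mul, RankTwoResistant.zpow_eq_of_dvd (he v) (j := 1) hB',
          zpow_one, ← hi, mul_comm] at this
      set c : X := a ^ i * b * (a ^ i)⁻¹ with hc
      have htc : Trans (c : MulAut Q) (W'.map ((a ^ i : X) : MulAut Q).toMonoidHom) (v * u ^ i) := by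
        have h := (htb.symm_conj (g := ((a ^ i : X) : MulAut Q)))
        rwa [SubgroupClass.coe_zpow, hai] at h
      obtain ⟨e, h1, h2⟩ := hblock (isPGroup_pair he hQ3 htc htz hW'' hg')
      have e1 : (a ^ i)⁻¹ * e ∈ {e : X | e⁻¹ * b * e ∈ (P : Subgroup X)} := by
        show ((a ^ i)⁻¹ * e)⁻¹ * b * ((a ^ i)⁻¹ * e) ∈ (P : Subgroup X)
        rwa [show ((a ^ i)⁻¹ * e)⁻¹ * b * ((a ^ i)⁻¹ * e) = e⁻¹ * c * e by rw [hc]; group]
      have e2 := hzb e h2
      -- all conjugators of `b` differ by `Y` on the right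
      have key : ∀ e e' : X, e⁻¹ * b * e ∈ (P : Subgroup X) → e'⁻¹ * b * e' ∈ (P : Subgroup X) →
          e'⁻¹ * e ∈ Y := by
        intro e e' h h'
        refine Embedded.mem_of_conj hY h (fun hb1 => ?_) (a := e'⁻¹ * e) ?_
        · have hb' : b = 1 := by
            calc b = e * (e⁻¹ * b * e) * e⁻¹ := by group
              _ = 1 := by rw [hb1]; group
          rw [hb', Subgroup.coe_one, MulAut.one_apply, left_eq_mul] at hbu1
          exact hvW (hbu1 ▸ one_mem _)
        · rwa [show e'⁻¹ * e * (e⁻¹ * b * e) * (e'⁻¹ * e)⁻¹ = e'⁻¹ * b * e' by group]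
      have hx := key _ _ e2 e1
      rw [show ((a ^ i)⁻¹ * e)⁻¹ * (t⁻¹ * e) = e⁻¹ * (a ^ i * t⁻¹) * e by group] at hx
      by_contra hne
      have hne' : a ^ i * t⁻¹ ≠ 1 := fun h => hne (by
        rw [← mul_inv_eq_one.mp h]; exact zpow_mem (mem_zpowers a) i)
      have hmemP : a ^ i * t⁻¹ ∈ (P : Subgroup X) :=
        mul_mem (zpow_mem haP i) (inv_mem ht)
      obtain ⟨y, hy, hyP⟩ := exists_conj_Y hY hPne (x := e⁻¹ * (a ^ i * t⁻¹) * e) (fun z => by
        obtain ⟨j, hj⟩ := mem_zpowers_iff.mp z.2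
        obtain ⟨m, hm⟩ := P.2 ⟨_, hmemP⟩
        have hm' : (a ^ i * t⁻¹) ^ p ^ m = 1 := congrArg Subtype.val hm
        refine ⟨m, Subtype.ext ?_⟩
        rw [SubgroupClass.coe_pow, ← hj, ← zpow_natCast, ← zpow_mul, mul_comm, zpow_mul, zpow_natCast]
        conv_lhs => rw [show e⁻¹ * (a ^ i * t⁻¹) * e = e⁻¹ * (a ^ i * t⁻¹) * (e⁻¹)⁻¹ by rw [inv_inv],
          conj_pow, hm']
        simp) hx
      have hey := Embedded.mem_of_conj hY hmemP hne' (a := (e * y)⁻¹)
        (by rwa [show (e * y)⁻¹ * (a ^ i * t⁻¹) * (e * y)⁻¹⁻¹ = y⁻¹ * (e⁻¹ * (a ^ i * t⁻¹) * e) * y by group])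
      have heY : e ∈ Y := by
        have := Y.mul_mem (Y.inv_mem hey) (Y.inv_mem hy)
        rwa [inv_inv, mul_inv_cancel_right] at this
      exact hb0a _ (hb0b _ e2) (Y.mul_mem (Y.inv_mem (hPY ht)) heY)
  · refine ⟨u, huW, hu1, htu.2.2, fun t h hth => ?_⟩
    have eA : ∀ i A B C : ℤ, ((a : MulAut Q) ^ i) (u ^ A * v ^ B * q ^ C) = u ^ (A + i * B) * v ^ B * q ^ C := by
      intro i A B C
      rw [map_mul, map_mul, map_zpow, map_zpow, map_zpow, haiW i u huW, hai, haiW i q hqW, mul_zpow,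
        ← zpow_mul, zpow_add]
      ac_rfl
    have hbiu : ∀ i : ℤ, ((b : MulAut Q) ^ i) u = u * v ^ i := fun i => by
      have := RankTwoResistant.transvection_zpow (y := v) (w := u) (r := 1) (hbW' v hvW')
        (by rw [zpow_one]; exact hbu1) i 1 0
      simpa using this
    have hbiW : ∀ (i : ℤ), ∀ x ∈ W', ((b : MulAut Q) ^ i) x = x :=
      fun i x hx => zpow_fix (hbW' x hx) i
    have eB : ∀ i A B C : ℤ, ((b : MulAut Q) ^ i) (u ^ A * v ^ B * q ^ C) = u ^ A * v ^ (B + i * A) * q ^ C := by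
      intro i A B C
      rw [map_mul, map_mul, map_zpow, map_zpow, map_zpow, hbiu, hbiW i v hvW', hbiW i q hqW', mul_zpow,
        ← zpow_mul, zpow_add]
      ac_rfl
    let δ : MulAut Q := (a : MulAut Q) ^ t * (b : MulAut Q) ^ (-h) * (a : MulAut Q) ^ t *
      (a : MulAut Q) ^ (-1 : ℤ) * (b : MulAut Q) ^ (1 : ℤ) * (a : MulAut Q) ^ (-1 : ℤ)
    have eδ : ∀ A B C : ℤ, δ (u ^ A * v ^ B * q ^ C) = u ^ (t * A) * v ^ (h * B) * q ^ C := by
      intro A B C
      obtain ⟨s, hs⟩ := hth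
      simp only [δ, MulAut.mul_apply, eA, eB]
      congr 2
      · refine RankTwoResistant.zpow_eq_of_dvd (he u) ?_
        exact ⟨-(s * (-B + t * A)), by linear_combination (B - t * A) * hs⟩
      · refine RankTwoResistant.zpow_eq_of_dvd (he v) ?_
        exact ⟨-(s * A), by linear_combination (-A) * hs⟩
    refine ⟨δ, ?_, ?_, fun w hw => ?_, fun x => ?_⟩
    · have ha' := a.2
      have hb' := b.2
      exact mul_mem (mul_mem (mul_mem (mul_mem (mul_mem (zpow_mem ha' _) (zpow_mem hb' _)) (zpow_mem ha' _))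
        (zpow_mem ha' _)) (zpow_mem hb' _)) (zpow_mem ha' _)
    · have := eδ 1 0 0
      simpa using this
    · obtain ⟨A, B, C, rfl⟩ := hdec w
      have hB : (p : ℤ) ∣ B := by
        by_contra hB
        have : v ^ B ∈ W := by
          have := mul_mem (mul_mem (inv_mem (zpow_mem huW A)) hw) (inv_mem (zpow_mem hqW C))
          rwa [show (u ^ A)⁻¹ * (u ^ A * v ^ B * q ^ C) * (q ^ C)⁻¹ = v ^ B by group] at this
        obtain ⟨B', hB'⟩ := hinvp v B hB
        exact hvW (hB' ▸ zpow_mem this B')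
      rw [eδ, RankTwoResistant.zpow_eq_of_dvd (he v) (j := 0) (i := h * B) (by simpa using hB.mul_left h),
        RankTwoResistant.zpow_eq_of_dvd (he v) (j := 0) (i := B) (by simpa using hB), zpow_zero, mul_one,
        mul_one, mul_div_mul_right_eq_div, div_eq_mul_inv, ← zpow_sub]
      exact zpow_mem (mem_zpowers u) _
    · obtain ⟨A, B, C, rfl⟩ := hdec x
      rw [eδ, mul_zpow, mul_zpow, ← zpow_mul, ← zpow_mul, ← zpow_mul, mul_comm B h]
      rw [show u ^ (t * A) * v ^ (h * B) * q ^ C / (u ^ (A * h) * v ^ (h * B) * q ^ (C * h)) =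
        u ^ (t * A) * (u ^ (A * h))⁻¹ * (q ^ C * (q ^ (C * h))⁻¹) by
          rw [div_eq_mul_inv, mul_inv_rev, mul_inv_rev]
          calc _ = u ^ (t * A) * (u ^ (A * h))⁻¹ * (q ^ C * (q ^ (C * h))⁻¹) *
              (v ^ (h * B) * (v ^ (h * B))⁻¹) := by ac_rfl
            _ = _ := by rw [mul_inv_cancel, mul_one]]
      exact mul_mem (mul_mem (zpow_mem huW _) (inv_mem (zpow_mem huW _)))
        (mul_mem (zpow_mem hqW _) (inv_mem (zpow_mem hqW _)))

end Cfsg.Agent.LocalFlavell.MaxClass.Linear
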