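import Cfsg.Agent.LocalFlavell.MaxClass.Small

/-!
The case of a subgroup outside the first two-step centralizer: an involutory torus climbs up to the layer
where the pairing into the centre is visible.
-/

set_option autoImplicit false
set_option linter.unusedSectionVars false
set_option linter.style.haveILetI false

namespace Cfsg.Agent.LocalFlavell.MaxClass

open Cfsg Cfsg.FusionSystem
open Cfsg.Agent.Fusion Cfsg.Agent.Fusion.Basic Cfsg.Agent.Fusion.Saturation
open Subgroup (zpowers normalizer mem_zpowers mem_zpowers_iff)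
open scoped commutatorElement

universe v

variable {X : Type v} [Group X] [Finite X] {p n : ℕ} [hp : Fact p.Prime]

/-- The sign attached to a layer. -/
def sgn (n i : ℕ) : ℤ := (-1) ^ (n - 1 - i)

theorem sgn_succ {i : ℕ} (h : i + 2 ≤ n) : sgn n i = -sgn n (i + 1) := by
  rw [sgn, sgn, show n - 1 - i = (n - 1 - (i + 1)) + 1 by omega, pow_succ]
  ring

theorem sgn_mul {i : ℕ} (h : i + 2 ≤ n) : sgn n i * sgn n (i + 1) = -1 := by
  rw [sgn_succ h, sgn]
  rcases neg_one_pow_eq_or ℤ (n - 1 - (i + 1)) with e | e <;> rw [e] <;> norm_num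

/-- The data of the case. -/
structure Outer (F : FusionSystem (⊤ : Subgroup X)) (p n : ℕ) (E : Subgroup X) (e u : X) : Prop where
  mc : IsMC X p n
  hn : 5 ≤ n
  five : 5 ≤ p
  even : Even n
  setting : Setting F p E
  core : Core F p E (gam X (n - 2)) u
  he : e ∈ E
  e1 : e ∉ gam X 1
  uZ : u ∉ gam X (n - 1)

/-- The subgroup `⟨e⟩ G_j`. -/
def tower (e : X) (j : ℕ) : Subgroup X := gam X j ⊔ zpowers e

variable {F : FusionSystem (⊤ : Subgroup X)} {E : Subgroup X} {e u : X}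

theorem mem_tower {j : ℕ} {g : X} : g ∈ tower e j ↔ ∃ y ∈ gam X j, ∃ k : ℤ, g = y * e ^ k := by
  rw [tower, Subgroup.mem_sup_of_normal_left]
  constructor
  · rintro ⟨y, hy, z, ⟨k, rfl⟩, rfl⟩
    exact ⟨y, hy, k, rfl⟩
  · rintro ⟨y, hy, k, rfl⟩
    exact ⟨y, hy, _, ⟨k, rfl⟩, rfl⟩

theorem notMem_cen (hS : IsMC X p n) {a : X} (ha : a ∉ gam X 1) {i : ℕ} (hi : i + 3 ≤ n) :
    a ∉ cen X (max i 2) := by
  have := hS.hn
  rcases (show max i 2 = 2 ∨ max i 2 + 3 ≤ n by omega) with h2 | h3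
  · rwa [h2, ← gam_one]
  · rwa [upTo_three n X hS (max i 2) (le_max_right _ _) h3]

theorem comm_exact (hS : IsMC X p n) {a b : X} (ha : a ∉ gam X 1) {i : ℕ} (hi : 1 ≤ i) (hin : i + 3 ≤ n)
    (hb : Exact i b) : Exact (i + 1) ⁅b, a⁆ :=
  exact_comm hS hi (by omega) hb (notMem_cen hS ha hin)

theorem deep_of_commute (hS : IsMC X p n) {a b : X} (ha : a ∉ gam X 1) (hb : b ∈ gam X 1)
    (hc : Commute b a) : b ∈ gam X (n - 2) := by
  by_contra hne
  obtain ⟨j, hj, hbj⟩ := exists_exact_of_ne hS hb fun h1 => hne (h1 ▸ Subgroup.one_mem _)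
  have hj' : j + 3 ≤ n := by
    by_contra hcon
    exact hne (gam_anti (by omega) hbj.1)
  refine (comm_exact hS ha hj hj' hbj).2 ?_
  rw [commutatorElement_eq_one_iff_commute.2 hc]
  exact Subgroup.one_mem _

namespace Outer

variable (h : Outer F p n E e u)
include h

theorem six : 6 ≤ n := by
  obtain ⟨r, hr⟩ := h.even
  have := h.hn
  omega

theorem epow : e ^ p = 1 := h.setting.exp e h.he

theorem cardW : Nat.card (gam X (n - 2)) = p ^ 2 := by
  have := h.hn
  rw [card_gam h.mc (by omega)]; congr 1; omega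

theorem dvd_of_zpow_mem {k : ℤ} (hk : e ^ k ∈ gam X 1) : (p : ℤ) ∣ k := by
  by_contra hd
  obtain ⟨k', hk'⟩ := zpow_root h.epow hd
  exact h.e1 (hk' ▸ Subgroup.zpow_mem _ hk k')

theorem zpow_eq_one {k : ℤ} (hk : (p : ℤ) ∣ k) : e ^ k = 1 := by
  rw [Fusion.RankTwoResistant.zpow_eq_of_dvd h.epow (j := 0) (by simpa using hk), zpow_zero]

theorem decE {g : X} (hg : g ∈ E) : ∃ w ∈ gam X (n - 2), ∃ k : ℤ, g = w * e ^ k :=
  mem_mul_zpow h.setting.hX h.core.le h.cardW h.setting.card h.he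
    (fun hw => h.e1 (gam_anti (by have := h.hn; omega) hw))
    (Subgroup.normalizer_eq_top (H := gam X (n - 2)) ▸ le_top) hg

theorem le_tower {j : ℕ} (hj : j + 2 ≤ n) : E ≤ tower e j := fun g hg => by
  obtain ⟨w, hw, k, rfl⟩ := h.decE hg
  exact mem_tower.2 ⟨w, gam_anti (by omega) hw, k, rfl⟩

theorem inf_tower {j : ℕ} (hj : 1 ≤ j) {g : X} (hg : g ∈ tower e j) (hg1 : g ∈ gam X 1) : g ∈ gam X j := by
  obtain ⟨y, hy, k, rfl⟩ := mem_tower.1 hg
  rw [h.zpow_eq_one (h.dvd_of_zpow_mem ((Subgroup.mul_mem_cancel_left _ (gam_anti hj hy)).1 hg1)), mul_one]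
  exact hy

theorem commute_W {g : X} (hg : g ∈ gam X 2) {w : X} (hw : w ∈ gam X (n - 2)) : Commute g w := by
  have := h.hn
  have h1 := comm_gam_le le_rfl (show 2 ≤ n - 2 by omega) (Subgroup.commutator_mem_commutator hg hw)
  rw [gam_bot h.mc (by omega), Subgroup.mem_bot] at h1
  exact commutatorElement_eq_one_iff_commute.1 h1

theorem commute_EW {a : X} (ha : a ∈ E) {w : X} (hw : w ∈ gam X (n - 2)) : Commute a w :=
  h.setting.comm a ha w (h.core.le hw)

/-- Elements normalizing `tower e j`. -/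
theorem normalizer_tower {j : ℕ} (hj : 2 ≤ j) (hjn : j + 2 ≤ n) {g : X}
    (hg : g ∈ normalizer (tower e j : Set X)) : g ∈ tower e (j - 1) := by
  have hS := h.mc
  have htop : gam X 0 = gam X 1 ⊔ zpowers e := gam_eq_sup hS ⟨Subgroup.mem_top e, h.e1⟩
  obtain ⟨y, hy, z, hz, rfl⟩ := Subgroup.mem_sup_of_normal_left.1
    (htop.le (Subgroup.mem_top g : g ∈ gam X 0))
  obtain ⟨k, rfl⟩ := mem_zpowers_iff.1 hz
  have hek : e ^ k ∈ tower e j := Subgroup.zpow_mem _ (le_sup_right (a := gam X j) (mem_zpowers e)) k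
  have hyN : y ∈ normalizer (tower e j : Set X) :=
    (Subgroup.mul_mem_cancel_right _ (Subgroup.le_normalizer hek)).1 hg
  have het : e ∈ tower e j := le_sup_right (a := gam X j) (mem_zpowers e)
  have h1 : ⁅y, e⁆ ∈ gam X j := by
    refine h.inf_tower (by omega) ?_ (gam_succ_le 1 (comm_mem le_rfl hy e))
    rw [commutatorElement_def]
    exact Subgroup.mul_mem _ ((Subgroup.mem_normalizer_iff.1 hyN e).1 het) (Subgroup.inv_mem _ het)
  refine mem_tower.2 ⟨y, ?_, k, rfl⟩
  by_contra hyj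
  obtain ⟨i, hi, hyi⟩ := exists_exact_of_ne hS hy fun e1 => hyj (e1 ▸ Subgroup.one_mem _)
  have hij : i + 2 ≤ j := by
    by_contra hcon
    exact hyj (gam_anti (by omega) hyi.1)
  exact (comm_exact hS h.e1 hi (by omega) hyi).2 (gam_anti (by omega) h1)

theorem conj_e_mem {j : ℕ} (hj : 2 ≤ j) {g : X} (hg : g ∈ gam X (j - 1)) :
    ⁅g, e⁆ ∈ gam X j := by
  have := comm_mem (show 1 ≤ j - 1 by omega) hg e
  rwa [show j - 1 + 1 = j by omega] at this

theorem gam_le_normalizer {j : ℕ} (hj : 2 ≤ j) : gam X (j - 1) ≤ normalizer (tower e j : Set X) := by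
  intro g hg
  refine mem_normalizer_of_forall fun q hq => ?_
  obtain ⟨y, hy, k, rfl⟩ := mem_tower.1 hq
  rw [← MulAut.conj_apply, map_mul, map_zpow, MulAut.conj_apply, MulAut.conj_apply,
    show g * e * g⁻¹ = ⁅g, e⁆ * e by rw [commutatorElement_def]; group]
  exact Subgroup.mul_mem _ (le_sup_left (b := zpowers e) ((gam_normal j).conj_mem y hy g))
    (Subgroup.zpow_mem _ (Subgroup.mul_mem _ (le_sup_left (b := zpowers e) (h.conj_e_mem hj hg))
      (le_sup_right (a := gam X j) (mem_zpowers e))) k)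

/-- The commutators with an outer element fill the layers. -/
theorem orbit {a : X} (ha : a ∉ gam X 1) : ∀ d j, 2 ≤ j → j + 2 + d = n → ∀ v ∈ gam X j,
    ∃ g ∈ gam X (j - 1), ⁅g, a⁆⁻¹ * v ∈ gam X (n - 2) := by
  have hS := h.mc
  intro d
  induction d with
  | zero =>
    intro j hj hjn v hv
    exact ⟨1, Subgroup.one_mem _, by rw [commutatorElement_one_left, inv_one, one_mul, show n - 2 = j by omega]; exact hv⟩
  | succ d ih =>
    intro j hj hjn v hv
    obtain ⟨g₁, hg₁⟩ := exists_exact hS (i := j - 1) (by omega)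
    have hd := comm_exact hS ha (show 1 ≤ j - 1 by omega) (by omega) hg₁
    rw [show j - 1 + 1 = j by omega] at hd
    obtain ⟨z, hz, k, rfl⟩ := exact_gen hS hd hv
    set π := QuotientGroup.mk' (gam X (j + 1))
    have hcen : ∀ q : X, Commute (π ⁅g₁, a⁆) (π q) := fun q => by
      rw [← commutatorElement_eq_one_iff_commute, ← map_commutatorElement]
      exact (QuotientGroup.eq_one_iff _).2 (comm_mem (by omega) hd.1 q)
    have hdk : π ⁅g₁ ^ k, a⁆ = π (⁅g₁, a⁆ ^ k) := by
      have h1 := comm_zpow (a := π g₁) (b := π a) (map_commutatorElement π g₁ a).symm (hcen g₁) (hcen a) k 1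
      rwa [zpow_one, mul_one, ← map_zpow, ← map_commutatorElement, ← map_zpow] at h1
    have hv' : z * ⁅g₁, a⁆ ^ k * ⁅g₁ ^ k, a⁆⁻¹ ∈ gam X (j + 1) := by
      refine (QuotientGroup.eq_one_iff _).1 ?_
      show π _ = 1
      rw [map_mul, map_inv, hdk, map_mul, mul_inv_cancel_right]
      exact (QuotientGroup.eq_one_iff _).2 hz
    set v' := (g₁ ^ k)⁻¹ * (z * ⁅g₁, a⁆ ^ k * ⁅g₁ ^ k, a⁆⁻¹) * g₁ ^ k with hv'def
    obtain ⟨g₂, hg₂, hg₂'⟩ := ih (j + 1) (by omega) (by omega) v' (by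
      have := (gam_normal (j + 1)).conj_mem _ hv' (g₁ ^ k)⁻¹
      rwa [inv_inv] at this)
    rw [Nat.add_sub_cancel] at hg₂
    refine ⟨g₁ ^ k * g₂, Subgroup.mul_mem _ (Subgroup.zpow_mem _ hg₁.1 k) (gam_anti (by omega) hg₂), ?_⟩
    set q := g₁ ^ k
    rw [show ⁅q * g₂, a⁆⁻¹ * (z * ⁅g₁, a⁆ ^ k) = ⁅q, a⁆⁻¹ * (q * (⁅g₂, a⁆⁻¹ * v') * q⁻¹) * ⁅q, a⁆⁻¹⁻¹ by
      simp only [hv'def, commutatorElement_def]; group]
    exact (gam_normal (n - 2)).conj_mem _ ((gam_normal (n - 2)).conj_mem _ hg₂' q) _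

theorem exists_orbit {a : X} (ha : a ∉ gam X 1) {j : ℕ} (hj : 2 ≤ j) (hjn : j + 2 ≤ n) {v : X}
    (hv : v ∈ gam X j) : ∃ g ∈ gam X (j - 1), ⁅g, a⁆⁻¹ * v ∈ gam X (n - 2) :=
  h.orbit ha (n - 2 - j) j hj (by omega) v hv

/-- The image of a layer element, from the image of its commutator with `e`. -/
theorem weight {i : ℕ} (hi : 2 ≤ i) (hin : i + 3 ≤ n) {φ : X → X} (hφ : IsMap F (tower e i) φ)
    (hφe : φ e * e ∈ gam X (n - 2)) {x : X} (hx : x ∈ gam X i) {y : X} (hy : y ∈ gam X i) {k : ℤ}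
    (hφx : φ x = y * e ^ k) (hc : φ ⁅x, e⁆ * (⁅x, e⁆ ^ sgn n (i + 1))⁻¹ ∈ gam X (i + 2)) :
    y * (x ^ sgn n i)⁻¹ ∈ gam X (i + 1) := by
  have hS := h.mc
  set w := φ e * e
  have hfe : φ e = w * e⁻¹ := by simp [w]
  have hxt : x ∈ tower e i := le_sup_left (b := zpowers e) hx
  have het : e ∈ tower e i := le_sup_right (a := gam X i) (mem_zpowers e)
  have h1 : φ ⁅x, e⁆ = ⁅y, e⁻¹⁆ := by
    have h2 : φ ⁅x, e⁆ = ⁅φ x, φ e⁆ := map_commutatorElement hφ.hom ⟨x, hxt⟩ ⟨e, het⟩
    have hw1 : Commute y w := h.commute_W (gam_anti (by omega) hy) hφe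
    have hw2 : Commute e w := h.commute_EW h.he hφe
    rw [h2, hφx, hfe, commutatorElement_def, commutatorElement_def]
    calc y * e ^ k * (w * e⁻¹) * (y * e ^ k)⁻¹ * (w * e⁻¹)⁻¹
        = y * (e ^ k * w * (e ^ k)⁻¹) * e⁻¹ * y⁻¹ * (w * e⁻¹)⁻¹ := by group
      _ = (y * w) * e⁻¹ * y⁻¹ * (w * e⁻¹)⁻¹ := by rw [(hw2.zpow_left k).eq, mul_inv_cancel_right]
      _ = w * (y * e⁻¹ * y⁻¹ * e⁻¹⁻¹) * w⁻¹ := by rw [hw1.eq]; group
      _ = y * e⁻¹ * y⁻¹ * e⁻¹⁻¹ := by
          have hcw : Commute w (y * e⁻¹ * y⁻¹ * e⁻¹⁻¹) :=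
            ((hw1.symm.mul_right hw2.symm.inv_right).mul_right hw1.symm.inv_right).mul_right
              hw2.symm.inv_right.inv_right
          rw [hcw.eq, mul_inv_cancel_right]
  set π := QuotientGroup.mk' (gam X (i + 2))
  have hcen : ∀ q ∈ gam X i, ∀ r r' : X, Commute (π ⁅q, r⁆) (π r') := fun q hq r r' => by
    rw [← commutatorElement_eq_one_iff_commute, ← map_commutatorElement]
    exact (QuotientGroup.eq_one_iff _).2 (comm_mem (by omega) (comm_mem (by omega) hq r) r')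
  have h3 : π ⁅y, e⁆⁻¹ = π ⁅x, e⁆ ^ sgn n (i + 1) := by
    have h4 := comm_zpow (a := π y) (b := π e) (map_commutatorElement π y e).symm (hcen y hy e y)
      (hcen y hy e e) 1 (-1)
    rw [zpow_one, one_mul, zpow_neg_one, zpow_neg_one, ← map_inv, ← map_commutatorElement, ← h1] at h4
    rw [map_inv, ← h4, ← map_zpow, ← mul_inv_eq_one, ← map_inv, ← map_mul]
    exact (QuotientGroup.eq_one_iff _).2 hc
  by_contra hd
  set d := y * (x ^ sgn n i)⁻¹
  have hdm : d ∈ gam X i := Subgroup.mul_mem _ hy (Subgroup.inv_mem _ (Subgroup.zpow_mem _ hx _))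
  refine (comm_exact hS h.e1 (by omega) hin ⟨hdm, hd⟩).2 ((QuotientGroup.eq_one_iff _).1 ?_)
  show π ⁅d, e⁆ = 1
  have hxe : π ⁅(x ^ sgn n i)⁻¹, e⁆ = π ⁅x, e⁆ ^ (sgn n (i + 1)) := by
    have h4 := comm_zpow (a := π x) (b := π e) (map_commutatorElement π x e).symm (hcen x hx e x)
      (hcen x hx e e) (sgn n (i + 1)) 1
    rw [zpow_one, mul_one, ← map_zpow, ← map_commutatorElement] at h4
    rw [← h4, sgn_succ (by omega : i + 2 ≤ n), zpow_neg, inv_inv]
  rw [show ⁅d, e⁆ = y * ⁅(x ^ sgn n i)⁻¹, e⁆ * y⁻¹ * ⁅y, e⁆ by simp only [d, commutatorElement_def]; group,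
    map_mul, map_mul, map_mul, hxe, ← h3, map_inv, map_inv, ((hcen y hy e y).symm.inv_right).eq,
    mul_inv_cancel_right, inv_mul_cancel]

end Outer

/-- The state while climbing. -/
structure Climb (F : FusionSystem (⊤ : Subgroup X)) (n : ℕ) (E : Subgroup X) (e u : X) (j : ℕ)
    (φ : X → X) : Prop where
  map : IsMap F (tower e j) φ
  mem : ∀ z ∈ tower e j, φ z ∈ tower e j
  memE : ∀ z ∈ E, φ z ∈ E
  onE : φ e * e ∈ gam X (n - 2)
  onW : ∀ w ∈ gam X (n - 2), φ w * w⁻¹ ∈ zpowers u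
  wt : ∀ m, j ≤ m → m + 3 ≤ n → ∀ x ∈ gam X m, φ x * (x ^ sgn n m)⁻¹ ∈ gam X (m + 1)

namespace Outer

variable (h : Outer F p n E e u)
include h

theorem zu_le : zpowers u ≤ gam X (n - 2) := Subgroup.zpowers_le.2 h.core.u_mem

theorem Climb.memW {j : ℕ} {φ : X → X} (hφ : Climb F n E e u j φ) {w : X} (hw : w ∈ gam X (n - 2)) :
    φ w ∈ gam X (n - 2) := by
  have := Subgroup.mul_mem _ (h.zu_le (hφ.onW w hw)) hw
  rwa [inv_mul_cancel_right] at this

theorem Climb.memG {j : ℕ} {φ : X → X} (hφ : Climb F n E e u j φ) {m : ℕ} (hjm : j ≤ m) (hm : m + 2 ≤ n)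
    {x : X} (hx : x ∈ gam X m) : φ x ∈ gam X m := by
  rcases (show m + 3 ≤ n ∨ m = n - 2 by omega) with h3 | rfl
  · have := Subgroup.mul_mem _ (gam_succ_le m (hφ.wt m hjm h3 x hx)) (Subgroup.zpow_mem _ hx (sgn n m))
    rwa [inv_mul_cancel_right] at this
  · exact Climb.memW h hφ hx

/-- The bottom of the tower. -/
theorem base : ∃ φ, Climb F n E e u (n - 3) φ := by
  have hS := h.mc
  have hn := h.hn
  have hW := h.cardW
  have hpp := hp.out
  have hN : tower e (n - 3) = normalizer (E : Set X) := by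
    have hle : tower e (n - 3) ≤ normalizer (E : Set X) := by
      refine sup_le (fun g hg => h.setting.mem_normalizer fun q hq => ?_)
        (Subgroup.zpowers_le.2 (Subgroup.le_normalizer h.he))
      rw [show g * q * g⁻¹ = ⁅g, q⁆ * q by rw [commutatorElement_def]; group]
      refine E.mul_mem (h.core.le ?_) hq
      have := comm_mem (show 1 ≤ n - 3 by omega) hg q
      rwa [show n - 3 + 1 = n - 2 by omega] at this
    have hlt : E < tower e (n - 3) := by
      refine lt_of_le_of_ne (h.le_tower (by omega)) fun heq => ?_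
      obtain ⟨g, hg⟩ := exists_exact hS (i := n - 3) (by omega)
      have hgE : g ∈ E := heq.ge (le_sup_left (b := zpowers e) hg.1)
      refine (comm_exact hS h.e1 (show 1 ≤ n - 3 by omega) (by omega) hg).2 ?_
      rw [commutatorElement_eq_one_iff_mul_comm.2 (h.setting.comm g hgE e h.he)]
      exact Subgroup.one_mem _
    refine Subgroup.eq_of_le_of_card_ge hle ?_
    obtain ⟨i, hi⟩ := IsPGroup.iff_card.1 (h.setting.hX.to_subgroup (tower e (n - 3)))
    have h1 := card_lt_card hlt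
    rw [h.setting.card, hi, Nat.pow_lt_pow_iff_right hpp.one_lt] at h1
    rw [h.core.card_N, hi]
    exact Nat.pow_le_pow_right hpp.pos h1
  obtain ⟨f, hf, hfN, hfE, hfu, hfW, hfQ⟩ := h.core.torus (-1) (-1) ⟨0, by ring⟩
  rw [← hN] at hf hfN
  have hfe : f e * e ∈ gam X (n - 2) := by
    have := hfQ e h.he
    rwa [zpow_neg_one, inv_inv] at this
  have hfWW : ∀ w ∈ gam X (n - 2), f w ∈ gam X (n - 2) := fun w hw => by
    have := Subgroup.mul_mem _ (h.zu_le (hfW w hw)) hw
    rwa [inv_mul_cancel_right] at this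
  refine ⟨f, hf, hfN, hfE, hfe, hfW, fun m hm hm3 x hx => ?_⟩
  obtain rfl : m = n - 3 := by omega
  obtain ⟨y, hy, k, hk⟩ := mem_tower.1 (hfN x (le_sup_left (b := zpowers e) hx))
  -- the image of the layer is the layer
  have hk0 : (p : ℤ) ∣ k := by
    by_contra hd
    obtain ⟨k', hk'⟩ := zpow_root h.epow hd
    set T := img f (gam X (n - 3))
    have hft := hf.restrict (le_sup_left (b := zpowers e) : gam X (n - 3) ≤ tower e (n - 3))
    have hgT : (y * e ^ k) ^ k' ∈ T := Subgroup.zpow_mem _ (hk ▸ mem_img_self f hx) k'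
    have hWT : gam X (n - 2) ≤ T := by
      have hle : gam X (n - 2) ≤ gam X (n - 3) := gam_anti (by omega)
      have heq : img f (gam X (n - 2)) = gam X (n - 2) :=
        eq_of_le_card (img_le hfWW) (hft.restrict hle).card_img.ge
      exact fun w hw => img_mono f hle (heq.ge hw)
    obtain ⟨y', hy', k₁, hyk⟩ := mem_tower.1
      (Subgroup.zpow_mem (tower e (n - 3)) (mem_tower.2 ⟨y, hy, k, rfl⟩) k')
    have hk1 : e ^ k₁ = e := by
      have h1 : ((y * e ^ k) ^ k' : X) * (e ^ (k * k'))⁻¹ ∈ gam X (n - 3) := by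
        refine (QuotientGroup.eq_one_iff _).1 ?_
        show QuotientGroup.mk' (gam X (n - 3)) _ = 1
        have hy1 : QuotientGroup.mk' (gam X (n - 3)) y = 1 := (QuotientGroup.eq_one_iff _).2 hy
        rw [map_mul, map_inv, map_zpow, map_mul, hy1, one_mul, map_zpow, map_zpow, ← zpow_mul, mul_inv_cancel]
      rw [hyk, zpow_mul, hk', mul_assoc, Subgroup.mul_mem_cancel_left _ hy'] at h1
      have h2 : e ^ (k₁ - 1) = 1 := h.zpow_eq_one (h.dvd_of_zpow_mem (by
        rw [zpow_sub, zpow_one]; exact gam_anti (by omega) h1))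
      rw [zpow_sub, zpow_one, mul_inv_eq_one] at h2
      exact h2
    rw [hk1] at hyk
    obtain ⟨g, hg, hgw⟩ := h.exists_orbit h.e1 (j := n - 3) (by omega) (by omega) hy'
    have hgT' : g * e * g⁻¹ ∈ T := by
      rw [show g * e * g⁻¹ = (⁅g, e⁆ * (⁅g, e⁆⁻¹ * y')⁻¹ * ⁅g, e⁆⁻¹) * (y' * e) by
        simp only [commutatorElement_def]; group, ← hyk]
      exact T.mul_mem (hWT ((gam_normal (n - 2)).conj_mem _ (Subgroup.inv_mem _ hgw) _)) hgT
    have hTcard : Nat.card T = p ^ 3 := by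
      rw [hft.card_img, card_gam hS (by omega)]
      congr 1; omega
    have hT : img (cj g) E = T := by
      refine eq_of_le_card (img_le fun q hq => ?_)
        (by rw [(isMap_cj (F := F) le_top (Subgroup.mem_top g)).card_img, h.setting.card, hTcard])
      obtain ⟨w, hw, l, rfl⟩ := h.decE hq
      rw [cj_apply, ← MulAut.conj_apply, map_mul, map_zpow, MulAut.conj_apply, MulAut.conj_apply]
      exact T.mul_mem (hWT ((gam_normal (n - 2)).conj_mem w hw g)) (T.zpow_mem hgT' l)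
    obtain ⟨f', hf', hf'img, hf'f, -⟩ := hft.exists_inv
    have hm : IsMap F E (fun q => f' (cj g q)) :=
      hf'.comp (isMap_cj le_top (Subgroup.mem_top g)) fun q hq => hT.le (mem_img_self _ hq)
    have himg : img (fun q => f' (cj g q)) E = gam X (n - 3) := by
      refine eq_of_le_card (img_le fun q hq => hf'img.le (mem_img_self f' (hT.le (mem_img_self _ hq)))) ?_
      rw [hm.card_img, h.setting.card, ← hTcard, hft.card_img]
    have h1 := h.setting.fullyNormalized hm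
    rw [himg, h.core.card_N] at h1
    exact absurd h1 (not_le.2 (card_normalizer_normal hS hn _))
  rw [hk, h.zpow_eq_one hk0, mul_one]
  refine h.weight (by omega) (by omega) hf hfe hx hy hk ?_
  have hxe : ⁅x, e⁆ ∈ zpowers u :=
    h.core.disp x (hN ▸ le_sup_left (b := zpowers e) hx) e h.he
  obtain ⟨r, hr⟩ := mem_zpowers_iff.1 hxe
  have hu : u ∈ tower e (n - 3) := h.le_tower (by omega) (h.core.le h.core.u_mem)
  have h2 : f ⁅x, e⁆ = ⁅x, e⁆⁻¹ := by
    rw [← hr]
    calc f (u ^ r) = f u ^ r := map_zpow hf.hom ⟨u, hu⟩ r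
      _ = (u ^ r)⁻¹ := by rw [hfu, zpow_neg_one, inv_zpow]
  have h3 : sgn n (n - 3 + 1) = -1 := by
    rw [sgn, show n - 1 - (n - 3 + 1) = 1 by omega, pow_one]
  rw [h2, h3, zpow_neg_one, inv_inv, inv_mul_cancel]
  exact Subgroup.one_mem _

/-- One step up. -/
theorem climb {j : ℕ} (hj : 3 ≤ j) (hjn : j + 3 ≤ n) {φ : X → X} (hφ : Climb F n E e u j φ) :
    ∃ ψ, IsMap F (tower e (j - 1)) ψ ∧ (∀ z ∈ tower e (j - 1), ψ z ∈ tower e (j - 1)) ∧
      (∀ z ∈ tower e j, ψ z = φ z) ∧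
      ∀ x ∈ gam X (j - 1), ∃ y ∈ gam X (j - 1), ∃ k : ℤ, ψ x = y * e ^ k ∧
        y * (x ^ sgn n (j - 1))⁻¹ ∈ gam X j := by
  have hS := h.mc
  have hE := h.setting
  set R := tower e j
  have het : e ∈ R := le_sup_right (a := gam X j) (mem_zpowers e)
  have hER : E ≤ R := h.le_tower (by omega)
  set a := φ e
  have haE : a ∈ E := hφ.memE e h.he
  have hae : a = φ e * e * e⁻¹ := (mul_inv_cancel_right _ _).symm
  have ha1 : a ∉ gam X 1 := fun ha => h.e1 (by
    have h1 := Subgroup.mul_mem _ (Subgroup.inv_mem _ (gam_anti (show 1 ≤ n - 2 by omega) hφ.onE)) ha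
    rw [hae, inv_mul_cancel_left] at h1
    exact inv_mem_iff.1 h1)
  have hφE := hφ.map.restrict hER
  have himgE : img φ E = E := eq_of_le_card (img_le hφ.memE) hφE.card_img.ge
  have himgW : img φ (gam X (n - 2)) = gam X (n - 2) :=
    eq_of_le_card (img_le fun w hw => Climb.memW h hφ hw) (hφE.restrict h.core.le).card_img.ge
  have himgR : img φ R = R := eq_of_le_card (img_le hφ.mem) hφ.map.card_img.ge
  obtain ⟨ι, hι, hιimg, hιφ, hφι⟩ := hφE.exists_inv
  rw [himgE] at hι hιimg hφι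
  have hιE : ∀ q ∈ E, ι q ∈ E := fun q hq => hιimg.le (mem_img_self ι hq)
  have hsub : gam X (j - 1) ≤ nSub (⊤ : Subgroup X) R φ := by
    intro g hg
    have hg2 : g ∈ gam X 2 := gam_anti (by omega) hg
    have hgN := h.gam_le_normalizer (show 2 ≤ j by omega) hg
    have hgR : ∀ q ∈ R, g * q * g⁻¹ ∈ R := fun q hq => (Subgroup.mem_normalizer_iff.1 hgN q).1 hq
    set v := φ ⁅g, e⁆
    have hge : ⁅g, e⁆ ∈ gam X j := h.conj_e_mem (by omega) hg
    have hv : v ∈ gam X j := Climb.memG h hφ le_rfl (by omega) hge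
    obtain ⟨g', hg', hgw⟩ := h.exists_orbit ha1 (show 2 ≤ j by omega) (by omega) hv
    have hg'2 : g' ∈ gam X 2 := gam_anti (by omega) hg'
    set β : X → X := fun q => cj g'⁻¹ (φ (cj g (ι q)))
    have hβ : IsMap F E β := (isMap_cj (F := F) (P := img φ R) le_top (Subgroup.mem_top _)).comp
      (hφ.map.comp ((isMap_cj (F := F) le_top (Subgroup.mem_top g)).comp hι hιE)
        fun q hq => hgR _ (hER (hιE q hq))) fun q hq => mem_img_self φ (hgR _ (hER (hιE q hq)))
    have hβW : ∀ w ∈ gam X (n - 2), β w = w := by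
      intro w hw
      have hιw : ι w ∈ gam X (n - 2) := by
        obtain ⟨r, hr, rfl⟩ := (hφE.restrict h.core.le).mem_img.1 (himgW.ge hw)
        rwa [hιφ r (h.core.le hr)]
      show cj g'⁻¹ (φ (cj g (ι w))) = w
      rw [cj_apply g, (h.commute_W hg2 hιw).eq, mul_inv_cancel_right, hφι w (h.core.le hw), cj_apply,
        ((h.commute_W hg'2 hw).inv_left).eq, mul_inv_cancel_right]
    have hβa : β a * a⁻¹ ∈ gam X (n - 2) := by
      have hιa : ι a = e := hιφ e h.he
      show cj g'⁻¹ (φ (cj g (ι a))) * a⁻¹ ∈ _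
      rw [hιa, cj_apply g, show g * e * g⁻¹ = ⁅g, e⁆ * e by rw [commutatorElement_def]; group,
        hφ.map.map_mul (le_sup_left (b := zpowers e) hge) het, cj_apply, inv_inv]
      show g'⁻¹ * (v * a) * g' * a⁻¹ ∈ _
      set c := ⁅g', a⁆⁻¹ * v with hc
      have hca : Commute a c := h.commute_EW haE hgw
      rw [show v = ⁅g', a⁆ * c by rw [hc]; group,
        show g'⁻¹ * (⁅g', a⁆ * c * a) * g' * a⁻¹ = a * g'⁻¹ * (a⁻¹ * (c * a)) * g' * a⁻¹ by
          rw [commutatorElement_def]; group, ← hca.eq, inv_mul_cancel_left,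
        show a * g'⁻¹ * c * g' * a⁻¹ = a * (g'⁻¹ * c * g'⁻¹⁻¹) * a⁻¹ by group]
      exact (gam_normal (n - 2)).conj_mem _ ((gam_normal (n - 2)).conj_mem _ hgw _) _
    obtain ⟨c, hc, hce⟩ := h.core.key β hβ (hβW u h.core.u_mem)
      (fun w hw => by rw [hβW w hw, mul_inv_cancel]; exact Subgroup.one_mem _) (fun q hq => by
        obtain ⟨w, hw, l, rfl⟩ := mem_mul_zpow hE.hX h.core.le h.cardW hE.card haE
          (fun hw => ha1 (gam_anti (by omega) hw)) (Subgroup.normalizer_eq_top (H := gam X (n - 2)) ▸ le_top) hq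
        have hpl : β (a ^ l) = β a ^ l := map_zpow hβ.hom ⟨a, haE⟩ l
        rw [hβ.map_mul (h.core.le hw) (E.zpow_mem haE l), hβW w hw, hpl,
          show β a = β a * a⁻¹ * a by group, ((h.commute_EW haE hβa).symm).mul_zpow,
          show w * ((β a * a⁻¹) ^ l * a ^ l) * (w * a ^ l)⁻¹ = w * (β a * a⁻¹) ^ l * w⁻¹ by group]
        exact (gam_normal (n - 2)).conj_mem _ (Subgroup.zpow_mem _ hβa l) w)
    refine hE.mem_nSub hφ.map hER hgN (a := g' * c) fun q hq => ?_
    have h2 := hce (φ q) (hφ.memE q hq)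
    change cj g'⁻¹ (φ (cj g (ι (φ q)))) = c * φ q * c⁻¹ at h2
    rw [hιφ q hq, cj_apply g] at h2
    have h3 := congrArg (cj g') h2
    rw [cj_cj_inv, cj_apply] at h3
    rw [h3]
    group
  have hle : tower e (j - 1) ≤ nSub (⊤ : Subgroup X) R φ :=
    sup_le hsub (Subgroup.zpowers_le.2 (le_nSub hφ.map het))
  obtain ⟨ψ, hψ, hψe⟩ := hE.extend hφ.map hER hle
  have hRle : R ≤ tower e (j - 1) := sup_le_sup_right (gam_anti (show j - 1 ≤ j by omega)) _
  have hmem : ∀ z ∈ tower e (j - 1), ψ z ∈ tower e (j - 1) := by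
    intro z hz
    refine h.normalizer_tower (by omega) (by omega) (mem_normalizer_of_forall fun q hq => ?_)
    obtain ⟨q₀, hq₀, rfl⟩ := hφ.map.mem_img.1 (himgR.ge hq)
    have hn' := (Subgroup.mem_normalizer_iff.1 (hle hz).2.1 q₀).1 hq₀
    rw [← hψe q₀ hq₀, ← hψ.map_conj hz (hRle hq₀), hψe _ hn']
    exact hφ.mem _ hn'
  refine ⟨ψ, hψ, hmem, hψe, fun x hx => ?_⟩
  obtain ⟨y, hy, k, hk⟩ := mem_tower.1 (hmem x (le_sup_left (b := zpowers e) hx))
  refine ⟨y, hy, k, hk, ?_⟩
  have hxe : ⁅x, e⁆ ∈ gam X j := h.conj_e_mem (by omega) hx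
  have := h.weight (show 2 ≤ j - 1 by omega) (by omega) hψ (by rw [hψe e het]; exact hφ.onE) hx hy hk (by
    rw [hψe _ (le_sup_left (b := zpowers e) hxe), show j - 1 + 1 = j by omega,
      show j - 1 + 2 = j + 1 by omega]
    exact hφ.wt j le_rfl hjn _ hxe)
  rwa [show j - 1 + 1 = j by omega] at this

/-- The whole tower. -/
theorem exists_climb : ∀ d j, j + 3 + d = n → n + 1 ≤ 2 * j + 1 → ∃ φ, Climb F n E e u j φ := by
  have hS := h.mc
  intro d
  induction d with
  | zero =>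
    intro j hj _
    obtain rfl : j = n - 3 := by omega
    exact h.base
  | succ d ih =>
    intro i hi hi2
    obtain ⟨φ, hφ⟩ := ih (i + 1) (by omega) (by omega)
    obtain ⟨ψ, hψ, hmem, hψe, hψw⟩ := h.climb (j := i + 1) (by omega) (by omega) hφ
    rw [Nat.add_sub_cancel] at hψ hmem hψw
    have hER : E ≤ tower e (i + 1) := h.le_tower (by omega)
    refine ⟨ψ, hψ, hmem, fun z hz => by rw [hψe z (hER hz)]; exact hφ.memE z hz,
      by rw [hψe e (hER h.he)]; exact hφ.onE,
      fun w hw => by rw [hψe w (hER (h.core.le hw))]; exact hφ.onW w hw, fun m hm hm3 x hx => ?_⟩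
    rcases eq_or_lt_of_le hm with rfl | hlt
    swap
    · rw [hψe x (le_sup_left (b := zpowers e) (gam_anti (show i + 1 ≤ m by omega) hx))]
      exact hφ.wt m hlt hm3 x hx
    obtain ⟨y, hy, k, hk, hyx⟩ := hψw x hx
    suffices hk0 : (p : ℤ) ∣ k by rwa [hk, h.zpow_eq_one hk0, mul_one]
    by_contra hd
    obtain ⟨b, hb⟩ := exists_exact hS (i := i + 1) (by omega)
    have hb' : Exact (i + 1) (φ b) := by
      have hwt := hφ.wt (i + 1) le_rfl (by omega) b hb.1
      refine ⟨Climb.memG h hφ le_rfl (by omega) hb.1, fun hd' => hb.2 ?_⟩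
      have h1 := Subgroup.mul_mem _ (Subgroup.inv_mem _ hwt) hd'
      rw [mul_inv_rev, inv_inv, inv_mul_cancel_right] at h1
      rcases neg_one_pow_eq_or ℤ (n - 1 - (i + 1)) with e1 | e1 <;> rw [sgn, e1] at h1
      · rwa [zpow_one] at h1
      · rw [zpow_neg_one] at h1; exact inv_mem_iff.1 h1
    have hzero : ∀ q ∈ gam X i, ∀ r ∈ gam X (i + 1), Commute q r := fun q hq r hr => by
      have h1 := comm_sum (show 1 ≤ i by omega) (show 1 ≤ i + 1 by omega) hq hr
      rw [gam_bot hS (by omega), Subgroup.mem_bot] at h1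
      exact commutatorElement_eq_one_iff_commute.1 h1
    have hbt : b ∈ tower e i := le_sup_left (b := zpowers e) (gam_succ_le i hb.1)
    have hxt : x ∈ tower e i := le_sup_left (b := zpowers e) hx
    have h1 : Commute (ψ x) (ψ b) := by
      show ψ x * ψ b = ψ b * ψ x
      rw [← hψ.map_mul hxt hbt, (hzero x hx b hb.1).eq, hψ.map_mul hbt hxt]
    rw [hk, hψe b (le_sup_left (b := zpowers e) hb.1)] at h1
    have h2 : Commute (φ b) (e ^ k) := by
      have := ((hzero y hy _ hb'.1).inv_left.mul_left h1).symm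
      rwa [inv_mul_cancel_left] at this
    have hek : e ^ k ∉ gam X 1 := fun hmem1 => hd (h.dvd_of_zpow_mem hmem1)
    refine (comm_exact hS hek (show 1 ≤ i + 1 by omega) (by omega) hb').2 ?_
    rw [commutatorElement_eq_one_iff_commute.2 h2]
    exact Subgroup.one_mem _

/-- The contradiction at the middle layer. -/
theorem false : False := by
  have hS := h.mc
  have hn := h.six
  have hpp := hp.out
  obtain ⟨i, hi⟩ : ∃ i, n = 2 * i + 2 := by
    obtain ⟨r, hr⟩ := h.even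
    exact ⟨r - 1, by omega⟩
  obtain ⟨φ, hφ⟩ := h.exists_climb (i - 2) (i + 1) (by omega) (by omega)
  obtain ⟨ψ, hψ, -, hψe, hψw⟩ := h.climb (j := i + 1) (by omega) (by omega) hφ
  rw [Nat.add_sub_cancel] at hψ hψw
  have hU := upTo_three n X hS
  have hex : cen X (n - 2) ≠ gam X 1 := fun hc => h.e1 (by
    rw [← hc, mem_cen]
    intro w hw
    rw [← gam_eq (by omega)] at hw
    rw [commutatorElement_eq_one_iff_commute.2 (h.commute_EW h.he hw).symm]
    exact Subgroup.one_mem _)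
  obtain ⟨s, hs⟩ := exists_good hS hU
  obtain ⟨c, hc⟩ := exists_exact hS (i := 1) (by omega)
  have hx := chain_exact hS hs hc (i := i) (by omega) (by omega)
  have hx' := chain_exact hS hs hc (i := i + 1) (by omega) (by omega)
  have hne := pair_ne hS hU hex hs hc (i := i) (by omega) (by omega)
  rw [show n - 1 - i = i + 1 by omega] at hne
  set x := chain s c i
  set x' := chain s c (i + 1)
  set z := ⁅x, x'⁆
  have hz : z ∈ gam X (n - 1) := gam_anti (by omega) (comm_sum (by omega) (by omega) hx.1 hx'.1)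
  have hzW : z ∈ gam X (n - 2) := gam_anti (by omega) hz
  obtain ⟨y, hy, k, hk, hyx⟩ := hψw x hx.1
  have hwt := hφ.wt (i + 1) le_rfl (by omega) x' hx'.1
  set d := y * (x ^ sgn n i)⁻¹
  set d' := φ x' * (x' ^ sgn n (i + 1))⁻¹
  have hyd : y = d * x ^ sgn n i := (inv_mul_cancel_right _ _).symm
  have hxd : φ x' = d' * x' ^ sgn n (i + 1) := (inv_mul_cancel_right _ _).symm
  have hX' : φ x' ∈ gam X (i + 1) := Climb.memG h hφ le_rfl (by omega) hx'.1
  have hzero : ∀ a b, 1 ≤ a → 1 ≤ b → n ≤ a + b → ∀ q ∈ gam X a, ∀ r ∈ gam X b, Commute q r := by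
    intro a b ha hb hab q hq r hr
    have h1 := comm_sum ha hb hq hr
    rw [gam_bot hS hab, Subgroup.mem_bot] at h1
    exact commutatorElement_eq_one_iff_commute.1 h1
  have hyX : ⁅y, φ x'⁆ = z⁻¹ := by
    have h1 : ⁅x ^ sgn n i, x' ^ sgn n (i + 1)⁆ = z⁻¹ := by
      rw [comm_zpow rfl (central hS hz x) (central hS hz x'), sgn_mul (show i + 2 ≤ n by omega), zpow_neg_one]
    have h2 : ⁅x ^ sgn n i, φ x'⁆ = z⁻¹ := by
      rw [hxd, show ⁅x ^ sgn n i, d' * x' ^ sgn n (i + 1)⁆ =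
        (x ^ sgn n i * d' * (x ^ sgn n i)⁻¹) * ⁅x ^ sgn n i, x' ^ sgn n (i + 1)⁆ * d'⁻¹ by
        simp only [commutatorElement_def]; group, h1,
        (hzero i (i + 2) (by omega) (by omega) (by omega) _ (Subgroup.zpow_mem _ hx.1 _) _ hwt).eq,
        mul_inv_cancel_right, ((central hS hz d').inv_left).symm.eq, mul_inv_cancel_right]
    have h3 := hzero (i + 1) (i + 1) (by omega) (by omega) (by omega) d hyx _ hX'
    rw [hyd, show ⁅d * x ^ sgn n i, φ x'⁆ = d * ⁅x ^ sgn n i, φ x'⁆ * d⁻¹ * ⁅d, φ x'⁆ by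
      simp only [commutatorElement_def]; group, h2, commutatorElement_eq_one_iff_commute.2 h3, mul_one,
      ← ((central hS hz d).inv_left).eq, mul_inv_cancel_right]
  set v := ⁅e ^ k, φ x'⁆
  have hv2 : v ∈ gam X (i + 2) := comm_mem' (by omega) hX' _
  have hψz : φ z = v * z⁻¹ := by
    have hxt : x ∈ tower e i := le_sup_left (b := zpowers e) hx.1
    have hx't : x' ∈ tower e i := le_sup_left (b := zpowers e) (gam_succ_le i hx'.1)
    have h1 : ψ z = ⁅ψ x, ψ x'⁆ := map_commutatorElement hψ.hom ⟨x, hxt⟩ ⟨x', hx't⟩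
    rw [hψe z (le_sup_left (b := zpowers e) (gam_anti (by omega) hz)), hk,
      hψe x' (le_sup_left (b := zpowers e) hx'.1)] at h1
    rw [h1, show ⁅y * e ^ k, φ x'⁆ = y * v * y⁻¹ * ⁅y, φ x'⁆ by simp only [v, commutatorElement_def]; group,
      hyX, (hzero i (i + 2) (by omega) (by omega) (by omega) y hy v hv2).eq, mul_inv_cancel_right]
  have hvW : v ∈ gam X (n - 2) := by
    have := Subgroup.mul_mem _ (Climb.memW h hφ hzW) hzW
    rwa [hψz, inv_mul_cancel_right] at this
  have hvu : v ∈ zpowers u := by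
    rcases (show i + 4 ≤ n - 0 ∨ i + 4 > n by omega) with hlt | hge
    · rcases (show i + 1 + 3 = n ∨ i + 2 + 3 ≤ n by omega) with heq | hlt'
      · have hN : φ x' ∈ normalizer (E : Set X) := h.setting.mem_normalizer fun q hq => by
          rw [show φ x' * q * (φ x')⁻¹ = ⁅φ x', q⁆ * q by rw [commutatorElement_def]; group]
          refine E.mul_mem (h.core.le ?_) hq
          have := comm_mem (show 1 ≤ i + 1 by omega) hX' q
          rwa [show i + 1 + 1 = n - 2 by omega] at this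
        rw [show v = ⁅e ^ k, φ x'⁆ from rfl, ← commutatorElement_inv]
        exact Subgroup.inv_mem _ (h.core.disp _ hN _ (E.zpow_mem h.he k))
      · by_cases hd : (p : ℤ) ∣ k
        · rw [show v = ⁅e ^ k, φ x'⁆ from rfl, h.zpow_eq_one hd, commutatorElement_one_left]
          exact Subgroup.one_mem _
        have hX'e : Exact (i + 1) (φ x') := by
          refine ⟨hX', fun hd' => hx'.2 ?_⟩
          have h1 := Subgroup.mul_mem _ (Subgroup.inv_mem _ hwt) hd'
          rw [mul_inv_rev, inv_inv, inv_mul_cancel_right] at h1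
          rcases neg_one_pow_eq_or ℤ (n - 1 - (i + 1)) with e1 | e1 <;> rw [sgn, e1] at h1
          · rwa [zpow_one] at h1
          · rw [zpow_neg_one] at h1; exact inv_mem_iff.1 h1
        have h1 := comm_exact hS (fun hm => hd (h.dvd_of_zpow_mem hm)) (show 1 ≤ i + 1 by omega) (by omega) hX'e
        refine absurd (gam_anti (show i + 1 + 1 + 1 ≤ n - 2 by omega) ?_) h1.2
        rw [← commutatorElement_inv]
        exact Subgroup.inv_mem _ hvW
    · omega
  -- the centre is inverted, yet fixed modulo `u`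
  have h2 : z ^ 2 ∈ zpowers u := by
    have h3 := Subgroup.mul_mem _ (Subgroup.inv_mem _ (hφ.onW z hzW)) hvu
    rw [hψz, mul_inv_rev, inv_inv, mul_inv_rev, inv_inv] at h3
    rwa [show z * (z * v⁻¹) * v = z ^ 2 by rw [pow_two]; group] at h3
  refine hne ?_
  by_contra hz1
  have hz2 : z ^ 2 ≠ 1 := fun e2 => by
    have hd := Nat.le_of_dvd two_pos (orderOf_dvd_of_pow_eq_one e2)
    rw [orderOf_eq_prime (h.setting.exp z (h.core.le hzW)) hz1] at hd
    have := h.five
    omega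
  exact h.uZ (mem_of_ne_one (h.setting.exp u (h.core.le h.core.u_mem)) h2 hz2 (Subgroup.pow_mem _ hz 2))

end Outer

/-- The subgroup does not leave the first centralizer. -/
theorem Setting.not_outside (h : Setting F p E) (hS : IsMC X p n) (hn : 5 ≤ n) (hp5 : 5 ≤ p) {e : X}
    (he : e ∈ E) (he1 : e ∉ gam X 1) : False := by
  have hpp := hp.out
  have hU := upTo_three n X hS
  have heC : e ∈ cen X (n - 2) := by
    by_contra hne
    have hg : Good n e := fun i hi hin => by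
      rcases (show i + 3 ≤ n ∨ i = n - 2 by omega) with h3 | rfl
      · rwa [hU i hi h3]
      · exact hne
    have h1 := (Subgroup.card_le_of_le (show E ≤ Subgroup.centralizer ({e} : Set X) from fun q hq =>
      Subgroup.mem_centralizer_singleton_iff.2 (h.comm q hq e he))).trans (card_centralizer_le hS hg)
    rw [h.card] at h1
    exact absurd h1 (not_le.2 (Nat.pow_lt_pow_right hpp.one_lt (by norm_num)))
  have hex : cen X (n - 2) ≠ gam X 1 := fun hc => he1 (hc ▸ heC)
  have hW : Nat.card (gam X (n - 2)) = p ^ 2 := by rw [card_gam hS (by omega)]; congr 1; omega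
  have hWE : gam X (n - 2) ≤ E := by
    have hle : E ⊓ gam X 1 ≤ gam X (n - 2) := fun q hq => deep_of_commute hS he1 hq.2 (h.comm q hq.1 e he)
    have h1 : (gam X 1).relIndex E ≤ p := by
      have h2 := Subgroup.relIndex_dvd_index_of_normal (gam X 1) E
      rw [index_gam hS (i := 1) (by omega), pow_one] at h2
      exact Nat.le_of_dvd hpp.pos h2
    have h4 := Subgroup.relIndex_mul_relIndex ⊥ (E ⊓ gam X 1) E bot_le inf_le_left
    rw [Subgroup.relIndex_bot_left, Subgroup.relIndex_bot_left, h.card, Subgroup.inf_relIndex_left] at h4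
    have h5 : p ^ 2 ≤ Nat.card (E ⊓ gam X 1 : Subgroup X) := by
      refine Nat.le_of_mul_le_mul_right ?_ hpp.pos
      rw [← pow_succ, ← h4]
      exact Nat.mul_le_mul_left _ h1
    exact (Subgroup.eq_of_le_of_card_ge hle (by rw [hW]; exact h5)).ge.trans inf_le_left
  obtain ⟨m, hm⟩ := exists_exact hS (i := n - 3) (by omega)
  have hme := comm_exact hS he1 (show 1 ≤ n - 3 by omega) (by omega) hm
  rw [show n - 3 + 1 = n - 2 by omega] at hme
  have hmW : ∀ x : X, ⁅m, x⁆ ∈ gam X (n - 2) := fun x => by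
    have := comm_mem (show 1 ≤ n - 3 by omega) hm.1 x
    rwa [show n - 3 + 1 = n - 2 by omega] at this
  have hne1 : ⁅m, e⁆ ≠ 1 := fun h0 => hme.2 (h0 ▸ Subgroup.one_mem _)
  obtain ⟨u, hc, hmu⟩ := h.core hWE hW (fun x _ => hmW x) (fun w hw => by
      have h1 := comm_gam_le (show 2 ≤ n - 3 by omega) (show 2 ≤ n - 2 by omega)
        (Subgroup.commutator_mem_commutator hm.1 hw)
      rw [gam_bot hS (by omega), Subgroup.mem_bot] at h1
      exact commutatorElement_eq_one_iff_mul_comm.1 h1)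
    (fun hmE => hne1 (commutatorElement_eq_one_iff_mul_comm.2 (h.comm m hmE e he)))
  refine (Outer.mk hS hn hp5 (even_of_exceptional hS hU hex) h hc he he1 fun huZ => hme.2 ?_).false
  rw [show n - 2 + 1 = n - 1 by omega]
  exact Subgroup.zpowers_le.2 huZ (hmu e he)

/-- No elementary abelian essential subgroup of order `p ^ 3`. -/
theorem Setting.false (h : Setting F p E) (hS : IsMC X p n) (hn : 5 ≤ n) (hp5 : 5 ≤ p) : False := by
  by_cases hE : E ≤ gam X 1
  · by_cases hZ : gam X (n - 2) ≤ E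
    · exact h.not_center_le hS hn hp5 hE hZ
    · exact h.not_inside hS hn hp5 hE hZ
  · obtain ⟨e, he, he1⟩ := SetLike.not_le_iff_exists.1 hE
    exact h.not_outside hS hn hp5 he he1

end Cfsg.Agent.LocalFlavell.MaxClass
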