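import Mathlib

/-!
Polynomial sequences in a filtered group, and the value at a prime of the product of the first
translates of an element under an automorphism lowering the filtration.
-/

set_option autoImplicit false

namespace Cfsg.Agent.LocalFlavell.MaxClass.PolySeq

open scoped commutatorElement

variable {R : Type*} [Group R]

/-- Forward difference. -/
def delta (f : ℕ → R) (m : ℕ) : R := (f m)⁻¹ * f (m + 1)

/-- `f` is polynomial of level `d` up to order `k`. -/
def Poly (F : ℕ → Subgroup R) (k d : ℕ) (f : ℕ → R) : Prop :=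
  ∀ i ≤ k, ∀ m, delta^[i] f m ∈ F (d + i)

/-- A filtration with commutators one step deeper than the sum of the levels. -/
structure Filt (F : ℕ → Subgroup R) : Prop where
  anti : Antitone F
  normal : ∀ k, (F k).Normal
  comm : ∀ a b, ∀ x ∈ F a, ∀ y ∈ F b, ⁅x, y⁆ ∈ F (a + b + 1)

variable {F : ℕ → Subgroup R}

theorem Poly.mono (hF : Filt F) {k d d' : ℕ} {f : ℕ → R} (h : Poly F k d f) (hd : d' ≤ d) :
    Poly F k d' f := fun i hi m => hF.anti (by omega) (h i hi m)

theorem Poly.le {k k' d : ℕ} {f : ℕ → R} (h : Poly F k d f) (hk : k' ≤ k) : Poly F k' d f :=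
  fun i hi m => h i (hi.trans hk) m

theorem Poly.delta {k d : ℕ} {f : ℕ → R} (h : Poly F (k + 1) d f) :
    Poly F k (d + 1) (PolySeq.delta f) := fun i hi m => by
  have := h (i + 1) (by omega) m
  rwa [Function.iterate_succ_apply, show d + (i + 1) = d + 1 + i by omega] at this

theorem delta_shift (f : ℕ → R) : ∀ i m,
    delta^[i] (fun m => f (m + 1)) m = delta^[i] f (m + 1) := by
  intro i
  induction i with
  | zero => intro m; rfl
  | succ i ih =>
    intro m
    rw [Function.iterate_succ_apply', Function.iterate_succ_apply', PolySeq.delta, PolySeq.delta, ih, ih]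

theorem Poly.shift {k d : ℕ} {f : ℕ → R} (h : Poly F k d f) : Poly F k d (fun m => f (m + 1)) :=
  fun i hi m => by rw [delta_shift]; exact h i hi (m + 1)

theorem delta_mul (f g : ℕ → R) :
    delta (f * g) = delta f * ⁅(delta f)⁻¹, g⁻¹⁆ * delta g := funext fun m => by
  simp only [delta, Pi.mul_apply, Pi.inv_apply, commutatorElement_def]; group

theorem delta_inv (f : ℕ → R) : delta f⁻¹ = f * (delta f)⁻¹ * f⁻¹ := funext fun m => by
  simp only [delta, Pi.mul_apply, Pi.inv_apply]; group

theorem delta_comm (f g : ℕ → R) : delta ⁅f, g⁆ =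
    ⁅f, g⁆⁻¹ * (f * ⁅delta f, fun m => g (m + 1)⁆ * f⁻¹) * ⁅f, g⁆ *
      (g * ⁅f, delta g⁆ * g⁻¹) := funext fun m => by
  simp only [delta, Pi.mul_apply, Pi.inv_apply, commutatorElement_def]; group

theorem poly_closed (hF : Filt F) : ∀ k,
    (∀ d f g, Poly F k d f → Poly F k d g → Poly F k d (f * g)) ∧
    (∀ d f, Poly F k d f → Poly F k d f⁻¹) ∧
    (∀ a b f g, Poly F k a f → Poly F k b g → Poly F k (a + b + 1) ⁅f, g⁆) := by
  intro k
  induction k with
  | zero =>
    refine ⟨fun d f g hf hg i hi m => ?_, fun d f hf i hi m => ?_, fun a b f g hf hg i hi m => ?_⟩ <;>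
      obtain rfl : i = 0 := by omega
    · exact mul_mem (hf 0 hi m) (hg 0 hi m)
    · exact inv_mem (hf 0 hi m)
    · exact hF.comm a b _ (hf 0 hi m) _ (hg 0 hi m)
  | succ k ih =>
    obtain ⟨hmul, hinv, hcomm⟩ := ih
    -- conjugates
    have hconj : ∀ c d u h, Poly F k c u → Poly F k d h → Poly F k c (h * u * h⁻¹) := by
      intro c d u h hu hh
      have e : h * u * h⁻¹ = ⁅h, u⁆ * u := by rw [commutatorElement_def]; group
      rw [e]
      exact hmul c _ _ ((hcomm d c h u hh hu).mono hF (by omega)) hu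
    have step : ∀ d f, (∀ m, f m ∈ F d) → Poly F k (d + 1) (PolySeq.delta f) → Poly F (k + 1) d f := by
      intro d f h0 h1 i hi m
      rcases i with _ | i
      · exact h0 m
      · rw [Function.iterate_succ_apply, show d + (i + 1) = d + 1 + i by omega]
        exact h1 i (by omega) m
    refine ⟨fun d f g hf hg => ?_, fun d f hf => ?_, fun a b f g hf hg => ?_⟩
    · refine step d _ (fun m => mul_mem (hf 0 (by omega) m) (hg 0 (by omega) m)) ?_
      rw [delta_mul]
      refine hmul _ _ _ (hmul _ _ _ hf.delta ?_) hg.delta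
      exact (hcomm (d + 1) d _ _ (hinv _ _ hf.delta) (hinv _ _ (hg.le (by omega)))).mono hF (by omega)
    · refine step d _ (fun m => inv_mem (hf 0 (by omega) m)) ?_
      rw [delta_inv]
      exact hconj _ d _ _ (hinv _ _ hf.delta) (hf.le (by omega))
    · refine step (a + b + 1) _ (fun m => hF.comm a b _ (hf 0 (by omega) m) _ (hg 0 (by omega) m)) ?_
      have hf' := hf.le (k' := k) (by omega)
      have hg' := hg.le (k' := k) (by omega)
      rw [delta_comm]
      refine hmul _ _ _ ?_ (hconj _ b _ _ ((hcomm a (b + 1) _ _ hf' hg.delta).mono hF (by omega)) hg')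
      have h1 := hconj (a + b + 1 + 1) (a + b + 1) _ ⁅f, g⁆⁻¹
        (hconj _ a _ _ ((hcomm (a + 1) b _ _ hf.delta hg'.shift).mono hF
          (show a + b + 1 + 1 ≤ a + 1 + b + 1 by omega)) hf')
        (hinv _ _ (hcomm a b _ _ hf' hg'))
      rwa [inv_inv] at h1

theorem Poly.mul (hF : Filt F) {k d : ℕ} {f g : ℕ → R} (hf : Poly F k d f) (hg : Poly F k d g) :
    Poly F k d (f * g) := (poly_closed hF k).1 d f g hf hg

/-- The leading difference is multiplicative. -/
theorem delta_mul_congr (hF : Filt F) : ∀ k d (f g : ℕ → R), Poly F k d f → Poly F k d g →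
    (delta^[k] f 0 * delta^[k] g 0)⁻¹ * delta^[k] (f * g) 0 ∈ F (d + k + 1) := by
  intro k
  induction k with
  | zero => intro d f g _ _; simp [one_mem]
  | succ k ih =>
    intro d f g hf hg
    haveI := hF.normal (d + (k + 1) + 1)
    set N := F (d + (k + 1) + 1)
    have hc : Poly F k (d + 2) ⁅(PolySeq.delta f)⁻¹, g⁻¹⁆ :=
      ((poly_closed hF k).2.2 (d + 1) d _ _ ((poly_closed hF k).2.1 _ _ hf.delta)
        ((poly_closed hF k).2.1 _ _ (hg.le (by omega)))).mono hF (by omega)
    have hfc := hf.delta.mul hF (hc.mono hF (by omega))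
    have h1 := ih (d + 1) _ _ hfc hg.delta
    have h2 := ih (d + 1) _ _ hf.delta (hc.mono hF (by omega))
    have h3 := hc k le_rfl 0
    simp only [Function.iterate_succ_apply, delta_mul, show d + 1 + k + 1 = d + (k + 1) + 1 by omega] at h1 h2 ⊢
    rw [show d + 2 + k = d + (k + 1) + 1 by omega] at h3
    rw [← QuotientGroup.eq_one_iff] at h1 h2 h3 ⊢
    simp only [QuotientGroup.mk_mul, QuotientGroup.mk_inv, inv_mul_eq_one] at h1 h2 h3 ⊢
    rw [← h1, ← h2, h3, mul_one]

/-- Vanishing at `0, …, k - 1` puts the next value deep. -/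
theorem eq_delta_of_vanish : ∀ k (f : ℕ → R), (∀ i < k, f i = 1) → f k = delta^[k] f 0 := by
  intro k
  induction k with
  | zero => intro f _; rfl
  | succ k ih =>
    intro f hf
    rw [Function.iterate_succ_apply, ← ih (PolySeq.delta f) fun i hi => by
      rw [PolySeq.delta, hf i (by omega), hf (i + 1) (by omega)]; simp]
    rw [PolySeq.delta, hf k (by omega)]; simp

/-- The binomial sequence of `c`. -/
def binom (c : R) (k m : ℕ) : R := c ^ m.choose k

theorem delta_binom (c : R) (k : ℕ) : delta (binom c (k + 1)) = binom c k := funext fun m => by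
  rw [PolySeq.delta, binom, binom, binom, Nat.choose_succ_succ', Nat.add_comm (m.choose k), pow_add, inv_mul_cancel_left]

theorem delta_binom_zero (c : R) : delta (binom c 0) = 1 := funext fun m => by
  simp [PolySeq.delta, binom]

theorem delta_one : delta (1 : ℕ → R) = 1 := funext fun m => by simp [PolySeq.delta]

theorem iterate_delta_binom (c : R) : ∀ i k, i ≤ k → delta^[i] (binom c k) = binom c (k - i) := by
  intro i
  induction i with
  | zero => intro k _; rfl
  | succ i ih =>
    intro k hk
    obtain ⟨k', rfl⟩ : ∃ k', k = k' + 1 := ⟨k - 1, by omega⟩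
    rw [Function.iterate_succ_apply, delta_binom, ih k' (by omega), Nat.succ_sub_succ]

theorem iterate_delta_binom_of_lt (c : R) {i k : ℕ} (h : k < i) : delta^[i] (binom c k) = 1 := by
  obtain ⟨j, rfl⟩ := Nat.exists_eq_add_of_le (Nat.succ_le_of_lt h)
  rw [Nat.add_comm, Function.iterate_add_apply, Function.iterate_succ_apply',
    iterate_delta_binom c k k le_rfl, Nat.sub_self, delta_binom_zero, Function.iterate_fixed delta_one]

theorem poly_binom (hF : Filt F) {c : R} {k n : ℕ} (hc : c ∈ F k) : Poly F n 0 (binom c k) := by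
  intro i _ m
  rw [Nat.zero_add]
  by_cases h : i ≤ k
  · rw [iterate_delta_binom c i k h]
    exact pow_mem (hF.anti h hc) _
  · rw [iterate_delta_binom_of_lt c (by omega)]
    exact one_mem _

/-- The product of the first `m` translates. -/
def prodSeq (φ : R →* R) (b : R) : ℕ → R
  | 0 => 1
  | m + 1 => prodSeq φ b m * φ^[m] b

theorem iterate_hom_mem {φ : R →* R} (hF : Filt F) (hD : ∀ k, ∀ x ∈ F k, x⁻¹ * φ x ∈ F (k + 1))
    {k : ℕ} : ∀ m {x : R}, x ∈ F k → φ^[m] x ∈ F k := by
  intro m
  induction m with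
  | zero => intro x hx; exact hx
  | succ m ih =>
    intro x hx
    rw [Function.iterate_succ_apply]
    refine ih ?_
    have := mul_mem hx (hF.anti (Nat.le_succ k) (hD k x hx))
    rwa [mul_inv_cancel_left] at this

theorem delta_prodSeq (φ : R →* R) (b : R) : delta (prodSeq φ b) = fun m => φ^[m] b := funext fun m => by
  rw [PolySeq.delta, prodSeq, inv_mul_cancel_left]

theorem iterate_delta_prodSeq (φ : R →* R) (b : R) : ∀ k m,
    delta^[k + 1] (prodSeq φ b) m = φ^[m] ((fun x => x⁻¹ * φ x)^[k] b) := by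
  intro k
  induction k with
  | zero => intro m; simp [delta_prodSeq]
  | succ k ih =>
    intro m
    rw [Function.iterate_succ_apply' (f := PolySeq.delta), PolySeq.delta, ih, ih,
      Function.iterate_succ_apply, Function.iterate_succ_apply' (f := fun x => x⁻¹ * φ x),
      iterate_map_mul, iterate_map_inv]

/-- The value at a prime `p`. -/
theorem prodSeq_prime (hF : Filt F) (φ : R →* R) (hD : ∀ k, ∀ x ∈ F k, x⁻¹ * φ x ∈ F (k + 1))
    {p : ℕ} (hp : p.Prime) (hexp : ∀ k, 2 ≤ k → ∀ x ∈ F k, x ^ p ∈ F (p + 1)) {b : R} (hb : b ∈ F 1) :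
    ((fun x => x⁻¹ * φ x)^[p - 1] b * b ^ p)⁻¹ * prodSeq φ b p ∈ F (p + 1) := by
  haveI := hF.normal (p + 1)
  set D : R → R := fun x => x⁻¹ * φ x
  have hDk : ∀ k, D^[k] b ∈ F (k + 1) := by
    intro k
    induction k with
    | zero => exact hb
    | succ k ih => rw [Function.iterate_succ_apply']; exact hD _ _ ih
  have hPseq : ∀ n, Poly F n 0 (prodSeq φ b) := by
    intro n i _ m
    rw [Nat.zero_add]
    rcases i with _ | i
    · induction m with
      | zero => exact one_mem _
      | succ m ih =>
        exact mul_mem ih (hF.anti (Nat.zero_le 1) (iterate_hom_mem hF hD m hb))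
    · rw [iterate_delta_prodSeq]
      exact iterate_hom_mem hF hD m (hDk i)
  -- remove the low binomial parts one after the other
  have key : ∀ k, 2 ≤ k → k ≤ p → ∃ g : ℕ → R, Poly F p 0 g ∧ (∀ i < k, g i = 1) ∧
      QuotientGroup.mk' (F (p + 1)) (g p * b ^ p) = QuotientGroup.mk' (F (p + 1)) (prodSeq φ b p) ∧
      QuotientGroup.mk' (F (p + 1)) (PolySeq.delta^[p] g 0) =
        QuotientGroup.mk' (F (p + 1)) (PolySeq.delta^[p] (prodSeq φ b) 0) := by
    intro k hk
    induction k, hk using Nat.le_induction with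
    | base =>
      intro _
      have hb' : b⁻¹ ∈ F 1 := inv_mem hb
      refine ⟨prodSeq φ b * binom b⁻¹ 1, (hPseq p).mul hF (poly_binom hF hb'), fun i hi => ?_, ?_, ?_⟩
      · interval_cases i <;> simp [prodSeq, binom]
      · congr 1
        simp [binom, mul_assoc, inv_pow]
      · have h := delta_mul_congr hF p 0 _ _ (hPseq p) (poly_binom hF hb')
        rw [Nat.zero_add, iterate_delta_binom_of_lt _ hp.one_lt, Pi.one_apply, mul_one,
          ← QuotientGroup.eq] at h
        exact h.symm
    | succ k hk ih =>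
      intro hkp
      obtain ⟨g, hg, hg0, hgp, hgd⟩ := ih (by omega)
      have hc : g k ∈ F k := by
        rw [eq_delta_of_vanish k g hg0]
        simpa using hg k (by omega) 0
      have hc' : (g k)⁻¹ ∈ F k := inv_mem hc
      refine ⟨g * binom (g k)⁻¹ k, hg.mul hF (poly_binom hF hc'), fun i hi => ?_, ?_, ?_⟩
      · rcases (show i < k ∨ i = k by omega) with h | rfl
        · simp [binom, hg0 i h, Nat.choose_eq_zero_of_lt h]
        · simp [binom]
      · obtain ⟨e, he⟩ := hp.dvd_choose_self (by omega : k ≠ 0) (by omega)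
        have h1 : QuotientGroup.mk' (F (p + 1)) ((g k)⁻¹ ^ p.choose k) = 1 := by
          refine (QuotientGroup.eq_one_iff _).mpr ?_
          rw [he, mul_comm, pow_mul]
          exact hexp k hk _ (pow_mem hc' e)
        rw [← hgp]
        simp only [binom, Pi.mul_apply, map_mul, h1, mul_one]
      · have h := delta_mul_congr hF p 0 _ _ hg (poly_binom hF hc')
        rw [Nat.zero_add, iterate_delta_binom_of_lt _ (show k < p by omega), Pi.one_apply, mul_one,
          ← QuotientGroup.eq] at h
        exact h.symm.trans hgd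
  obtain ⟨g, hg, hg0, hgp, hgd⟩ := key p hp.two_le le_rfl
  rw [← QuotientGroup.eq]
  refine Eq.trans ?_ hgp
  rw [map_mul, eq_delta_of_vanish p g hg0, hgd]
  obtain ⟨q, rfl⟩ : ∃ q, p = q + 1 := ⟨p - 1, by have := hp.two_le; omega⟩
  rw [iterate_delta_prodSeq]
  rfl

end Cfsg.Agent.LocalFlavell.MaxClass.PolySeq
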