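import Cfsg.Agent.LocalFlavell.MaxClass.Basic
import Cfsg.Agent.LocalFlavell.MaxClass.PolySeq

/-!
`p`-th powers in the layers of a group of maximal class: `x ^ p` lies `p - 1` layers below `x`, exactly so
when an element avoiding all two-step centralizers exists.
-/

set_option autoImplicit false
set_option linter.unusedSectionVars false

namespace Cfsg.Agent.LocalFlavell.MaxClass

open Subgroup
open Cfsg.Agent.PGroups.MaximalClass
open scoped commutatorElement

variable {S : Type*} [Group S] [Finite S] {p n : ℕ} [hp : Fact p.Prime]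

/-- Commutators of layers add the levels. -/
theorem comm_sum {a b : ℕ} (ha : 1 ≤ a) (hb : 1 ≤ b) {x y : S} (hx : x ∈ gam S a) (hy : y ∈ gam S b) :
    ⁅x, y⁆ ∈ gam S (a + b) := by
  rcases (show a = 1 ∨ b = 1 ∨ (2 ≤ a ∧ 2 ≤ b) by omega) with rfl | rfl | ⟨ha, hb⟩
  · rw [Nat.add_comm]; exact comm_mem' hb hy x
  · exact comm_mem ha hx y
  · exact comm_gam_le ha hb (commutator_mem_commutator hx hy)

/-- The descending step of an element by `t`. -/
def step (t x : S) : S := x⁻¹ * (t * x * t⁻¹)

theorem step_eq (t x : S) : step t x = ⁅x⁻¹, t⁆ := by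
  simp [step, commutatorElement_def, mul_assoc]

theorem step_mem {i : ℕ} (hi : 1 ≤ i) (t : S) {x : S} (hx : x ∈ gam S i) :
    step t x ∈ gam S (i + 1) := by rw [step_eq]; exact comm_mem hi (inv_mem hx) t

theorem iterate_step_mem {i : ℕ} (hi : 1 ≤ i) (t : S) {x : S} (hx : x ∈ gam S i) :
    ∀ k, (step t)^[k] x ∈ gam S (i + k) := by
  intro k
  induction k with
  | zero => exact hx
  | succ k ih => rw [Function.iterate_succ_apply', ← Nat.add_assoc]; exact step_mem (by omega) t ih

theorem step_exact (hS : IsMC S p n) {s x : S} {i : ℕ} (hi : 1 ≤ i) (hin : i + 2 ≤ n)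
    (hs : s ∉ cen S (max i 2)) (hx : Exact i x) : Exact (i + 1) (step s x) := by
  rw [step_eq]; exact exact_comm hS hi hin hx.inv hs

theorem iterate_step_exact (hS : IsMC S p n) {s x : S} {i : ℕ} (hi : 1 ≤ i) (hx : Exact i x) :
    ∀ k, i + k + 1 ≤ n → (∀ j, i ≤ j → j < i + k → s ∉ cen S (max j 2)) → Exact (i + k) ((step s)^[k] x) := by
  intro k
  induction k with
  | zero => intros; exact hx
  | succ k ih =>
    intro hk hs
    rw [Function.iterate_succ_apply', ← Nat.add_assoc]
    exact step_exact hS (by omega) (by omega) (hs _ (by omega) (by omega))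
      (ih (by omega) fun j h1 h2 => hs j h1 (by omega))

theorem Good.notMem (hS : IsMC S p n) {s : S} (hs : Good n s) {j : ℕ} (hj : j + 2 ≤ n) :
    s ∉ cen S (max j 2) :=
  hs _ (le_max_right _ _) (by have := hS.hn; omega)

theorem card_last (hS : IsMC S p n) : Nat.card (gam S (n - 1)) = p := by
  have := hS.hn
  have h := (gam S (n - 1)).card_mul_index
  rw [index_gam hS (i := n - 1) (by omega), hS.card, show n = n - 1 + 1 by omega, pow_succ',
    show n - 1 + 1 - 1 = n - 1 by omega] at h
  exact Nat.eq_of_mul_eq_mul_right (pow_pos hp.out.pos _) h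

theorem centralizer_good (hS : IsMC S p n) {s : S} (hs : Good n s) :
    centralizer ({s} : Set S) ⊓ gam S 1 ≤ gam S (n - 1) := by
  rintro b ⟨hb, hb1⟩
  by_contra hc
  have hne : b ≠ 1 := fun h => hc (h ▸ one_mem _)
  obtain ⟨j, hj1, hj⟩ := exists_exact_of_ne hS hb1 hne
  have hjn : j + 2 ≤ n := by
    by_contra hcon
    exact hc (gam_anti (by omega : n - 1 ≤ j) hj.1)
  refine (exact_comm hS hj1 hjn hj (hs.notMem hS hjn)).2 ?_
  rw [commutatorElement_eq_one_iff_mul_comm.mpr (mem_centralizer_singleton_iff.mp hb)]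
  exact one_mem _

theorem card_centralizer_le (hS : IsMC S p n) {s : S} (hs : Good n s) :
    Nat.card (centralizer ({s} : Set S)) ≤ p ^ 2 := by
  have := hS.hn
  set C := centralizer ({s} : Set S)
  have h := relIndex_mul_relIndex ⊥ (C ⊓ gam S 1) C bot_le inf_le_left
  rw [relIndex_bot_left, relIndex_bot_left, inf_relIndex_left] at h
  rw [← h, pow_two]
  refine Nat.mul_le_mul ((Subgroup.card_le_of_le (centralizer_good hS hs)).trans (card_last hS).le) ?_
  refine (Nat.le_of_dvd (Nat.pos_of_ne_zero index_ne_zero_of_finite) (Subgroup.relIndex_dvd_index_of_normal (gam S 1) C)).trans ?_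
  rw [index_gam hS (i := 1) (by omega), pow_one]

/-- The conjugates of a good element fill its coset of `gam 2`. -/
theorem exists_conj (hS : IsMC S p n) {s : S} (hs : Good n s) {a : S} (ha : a ∈ gam S 2) :
    ∃ g : S, g * s * g⁻¹ = a * s := by
  have := hS.hn
  let f : S ⧸ centralizer ({s} : Set S) → gam S 2 := fun q => ⟨⁅q.out, s⁆, by
    rw [gam_eq le_rfl]
    show _ ∈ lcs S 1
    rw [lcs_succ 0, lcs_zero]
    exact commutator_mem_commutator (mem_top _) (mem_top s)⟩
  have hf : Function.Injective f := fun u v huv => by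
    have h : ⁅u.out, s⁆ = ⁅v.out, s⁆ := congrArg Subtype.val huv
    rw [← QuotientGroup.out_eq' u, ← QuotientGroup.out_eq' v, QuotientGroup.eq, mem_centralizer_singleton_iff]
    rw [commutatorElement_def, commutatorElement_def, mul_left_inj] at h
    calc u.out⁻¹ * v.out * s = u.out⁻¹ * (v.out * s * v.out⁻¹) * v.out := by group
      _ = u.out⁻¹ * (u.out * s * u.out⁻¹) * v.out := by rw [h]
      _ = s * (u.out⁻¹ * v.out) := by group
  have hcard : Nat.card (gam S 2) ≤ Nat.card (S ⧸ centralizer ({s} : Set S)) := by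
    refine Nat.le_of_mul_le_mul_right ?_ (pow_pos hp.out.pos 2)
    rw [← index_gam hS (i := 2) (by omega), card_mul_index, ← card_mul_index (centralizer ({s} : Set S)),
      ← index_eq_card, index_gam hS (i := 2) (by omega), mul_comm]
    exact Nat.mul_le_mul_left _ (card_centralizer_le hS hs)
  obtain ⟨q, hq⟩ := (hf.bijective_of_nat_card_le hcard).2 ⟨a, ha⟩
  refine ⟨q.out, ?_⟩
  have h := congrArg Subtype.val hq
  change ⁅q.out, s⁆ = a at h
  rw [← h, commutatorElement_def, inv_mul_cancel_right]

theorem pow_good_mem (hS : IsMC S p n) {s : S} (hs : Good n s) : s ^ p ∈ gam S (n - 1) := by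
  have := hS.hn
  refine centralizer_good hS hs ⟨mem_centralizer_singleton_iff.mpr (Commute.pow_self s p).eq, ?_⟩
  have h := Subgroup.pow_index_mem (gam S 1) s
  rwa [index_gam hS (i := 1) (by omega), pow_one] at h

/-- A good element and its translates by `gam 2` have the same `p`-th power. -/
theorem pow_mul_good (hS : IsMC S p n) {s : S} (hs : Good n s) {a : S} (ha : a ∈ gam S 2) :
    (a * s) ^ p = s ^ p := by
  obtain ⟨g, hg⟩ := exists_conj hS hs ha
  rw [← hg, conj_pow, ← (central hS (pow_good_mem hS hs) g).eq, mul_inv_cancel_right]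

theorem prodSeq_conj (t b : S) : ∀ m,
    PolySeq.prodSeq (MulAut.conj t).toMonoidHom b m = (b * t) ^ m * (t ^ m)⁻¹ := by
  have hit : ∀ m, (⇑(MulAut.conj t).toMonoidHom)^[m] b = t ^ m * b * (t ^ m)⁻¹ := by
    intro m
    induction m with
    | zero => simp
    | succ m ih =>
      rw [Function.iterate_succ_apply', ih, MulEquiv.coe_toMonoidHom, MulAut.conj_apply, pow_succ' t m]
      group
  intro m
  induction m with
  | zero => simp [PolySeq.prodSeq]
  | succ m ih =>
    rw [PolySeq.prodSeq, ih, hit, pow_succ (b * t), pow_succ t]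
    group

/-- The power formula below layer `j`. -/
theorem power_core {j : ℕ} (hj : 2 ≤ j) (t : S)
    (hexp : ∀ x ∈ gam S (j + 1), x ^ p ∈ gam S (j + p)) {b : S} (hb : b ∈ gam S j) :
    ((step t)^[p - 1] b * b ^ p)⁻¹ * ((b * t) ^ p * (t ^ p)⁻¹) ∈ gam S (j + p) := by
  let F : ℕ → Subgroup S := fun k => gam S (j + (k - 1))
  have hF : PolySeq.Filt F := by
    refine ⟨fun a b hab => gam_anti (by omega), fun k => gam_normal _, fun a b x hx y hy => ?_⟩
    exact gam_anti (by omega) (comm_sum (by omega) (by omega) hx hy)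
  have hD : ∀ k, ∀ x ∈ F k, x⁻¹ * (MulAut.conj t).toMonoidHom x ∈ F (k + 1) := fun k x hx =>
    gam_anti (by omega) (step_mem (i := j + (k - 1)) (by omega) t hx)
  have h := PolySeq.prodSeq_prime hF (MulAut.conj t).toMonoidHom hD hp.out
    (fun k hk x hx => gam_anti (by omega) (hexp x (gam_anti (by omega) hx))) (b := b) hb
  rw [prodSeq_conj] at h
  exact h

/-- With a good element: `x ^ p` is the inverse of the `(p - 1)`-fold step of `x` modulo the next layer. -/
theorem pow_step (hS : IsMC S p n) {s : S} (hs : Good n s) : ∀ d j, 2 ≤ j → n ≤ j + d → ∀ x ∈ gam S j,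
    x ^ p ∈ gam S (j + p - 1) ∧ (step s)^[p - 1] x * x ^ p ∈ gam S (j + p) := by
  intro d
  induction d with
  | zero =>
    intro j hj hd x hx
    rw [gam_bot hS (by omega), mem_bot] at hx
    subst hx
    have h1 : (step s)^[p - 1] (1 : S) = 1 := Function.iterate_fixed (by simp [step]) _
    rw [one_pow, h1, mul_one]
    exact ⟨one_mem _, one_mem _⟩
  | succ d ih =>
    intro j hj hd x hx
    have h := power_core hj s (fun y hy => by
      have := (ih (j + 1) (by omega) (by omega) y hy).1
      rwa [show j + 1 + p - 1 = j + p by omega] at this) hx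
    rw [pow_mul_good hS hs (gam_anti hj hx), mul_inv_cancel, mul_one, inv_mem_iff] at h
    refine ⟨?_, h⟩
    have h1 := iterate_step_mem (i := j) (by omega) s hx (p - 1)
    rw [show j + (p - 1) = j + p - 1 by have := hp.out.two_le; omega] at h1
    have h2 := mul_mem (inv_mem h1) (gam_anti (show j + p - 1 ≤ j + p by omega) h)
    rwa [inv_mul_cancel_left] at h2

theorem pow_exact (hS : IsMC S p n) {s : S} (hs : Good n s) {j : ℕ} (hj : 2 ≤ j) (hjn : j + p ≤ n)
    {x : S} (hx : Exact j x) : Exact (j + p - 1) (x ^ p) := by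
  obtain ⟨h1, h2⟩ := pow_step hS hs n j hj (by omega) x hx.1
  have hp2 := hp.out.two_le
  refine ⟨h1, fun h3 => ?_⟩
  rw [show j + p - 1 + 1 = j + p by omega] at h3
  have h4 := iterate_step_exact hS (s := s) (by omega) hx (p - 1) (by omega)
    fun i _ _ => hs.notMem hS (by omega)
  refine h4.2 ?_
  rw [show j + (p - 1) + 1 = j + p by omega]
  exact (Subgroup.mul_mem_cancel_right _ h3).mp h2

end Cfsg.Agent.LocalFlavell.MaxClass
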