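import Cfsg.Agent.LocalFlavell.MaxClass.Exceptional
import Cfsg.Agent.LocalFlavell.MaxClass.Flag

/-!
In a group of maximal class of order at least `p ^ 5` an elementary abelian subgroup of order `p ^ 3` is not
essential: the cases of a subgroup inside the first two-step centralizer.
-/

set_option autoImplicit false
set_option linter.unusedSectionVars false
set_option linter.style.haveILetI false

namespace Cfsg.Agent.LocalFlavell.MaxClass

open Cfsg Cfsg.FusionSystem
open Cfsg.Agent.Fusion Cfsg.Agent.Fusion.Basic Cfsg.Agent.Fusion.Saturation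
open Subgroup (zpowers normalizer mem_zpowers mem_zpowers_iff)
open scoped commutatorElement

universe v

variable {X : Type v} [Group X] [Finite X] {p n : ℕ} [hp : Fact p.Prime]

theorem card_gam (hS : IsMC X p n) {i : ℕ} (hi : i ≤ n) : Nat.card (gam X i) = p ^ (n - i) := by
  have h := (gam X i).card_mul_index
  rw [index_gam hS hi, hS.card, show p ^ n = p ^ (n - i) * p ^ i by rw [← pow_add]; congr 1; omega] at h
  exact Nat.eq_of_mul_eq_mul_right (pow_pos hp.out.pos _) h

/-- A nontrivial element of a subgroup of prime order generates it. -/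
theorem mem_of_ne_one {u z : X} (hu : u ^ p = 1) (hz : z ∈ zpowers u) (hz1 : z ≠ 1) {A : Subgroup X} (hzA : z ∈ A) :
    u ∈ A := by
  obtain ⟨k, rfl⟩ := mem_zpowers_iff.1 hz
  have hk : ¬ (p : ℤ) ∣ k := fun hd =>
    hz1 (by rw [Fusion.RankTwoResistant.zpow_eq_of_dvd hu (j := 0) (by simpa using hd), zpow_zero])
  obtain ⟨k', hk'⟩ := zpow_root hu hk
  exact hk' ▸ A.zpow_mem hzA k'

variable {F : FusionSystem (⊤ : Subgroup X)} {E W : Subgroup X} {u : X}

theorem Setting.mem_moved (h : Setting F p E) {g : X} (hg : g ∉ E) : ∃ x ∈ E, ⁅g, x⁆ ≠ 1 := by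
  by_contra hc
  push Not at hc
  exact hg (h.centralizer_le fun x hx => commutatorElement_eq_one_iff_mul_comm.1 (hc x hx))

theorem Setting.exists_notMem (h : Setting F p E) {A : Subgroup X} (hA : p ^ 4 ≤ Nat.card A) : ∃ m ∈ A, m ∉ E := by
  by_contra hc
  push Not at hc
  have h1 := Subgroup.card_le_of_le (show A ≤ E from hc)
  rw [h.card] at h1
  exact absurd (hA.trans h1) (not_le.2 (Nat.pow_lt_pow_right hp.out.one_lt (by norm_num)))

theorem card_normalizer_normal (hS : IsMC X p n) (hn : 5 ≤ n) (A : Subgroup X) [A.Normal] :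
    p ^ 4 < Nat.card (normalizer (A : Set X)) := by
  rw [Subgroup.normalizer_eq_top, Subgroup.card_top, hS.card]
  exact Nat.pow_lt_pow_right hp.out.one_lt hn

/-- The subgroup lies in the first centralizer and contains the second centre. -/
theorem Setting.not_center_le (h : Setting F p E) (hS : IsMC X p n) (hn : 5 ≤ n) (hp5 : 5 ≤ p)
    (hE1 : E ≤ gam X 1) (hZ : gam X (n - 2) ≤ E) : False := by
  have hU := upTo_three n X hS
  set W := gam X (n - 2)
  have hW : Nat.card W = p ^ 2 := by rw [card_gam hS (by omega)]; congr 1; omega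
  have hdeg : ∀ g ∈ gam X (n - 4), ∀ x ∈ gam X 1, ⁅g, x⁆ ∈ W := fun g hg x hx => by
    have := comm_deg hS hU (n - 4) 1 (by omega) le_rfl (by omega) (Subgroup.commutator_mem_commutator hg hx)
    rwa [show n - 4 + 1 + 1 = n - 2 by omega] at this
  have hcen : ∀ g ∈ gam X (n - 4), ∀ w ∈ W, g * w = w * g := by
    intro g hg w hw
    rcases (show n = 5 ∨ 6 ≤ n by omega) with rfl | h6
    · have hc : cen X (5 - 2) = gam X 1 := by
        by_contra hex
        obtain ⟨r, hr⟩ := even_of_exceptional hS hU hex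
        omega
      have hg' : g ∈ cen X (5 - 2) := hc ▸ hg
      rw [mem_cen] at hg'
      have h1 := hg' w (by rw [← gam_eq (show 2 ≤ 5 - 2 by omega)]; exact hw)
      rw [← gam_eq (show 2 ≤ 5 by omega), gam_bot hS le_rfl, Subgroup.mem_bot] at h1
      exact (commutatorElement_eq_one_iff_mul_comm.1 h1).symm
    · have h1 := comm_gam_le (show 2 ≤ n - 4 by omega) (show 2 ≤ n - 2 by omega)
        (Subgroup.commutator_mem_commutator hg hw)
      rw [gam_bot hS (by omega), Subgroup.mem_bot] at h1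
      exact commutatorElement_eq_one_iff_mul_comm.1 h1
  have h4 : Nat.card (gam X (n - 4)) = p ^ 4 := by rw [card_gam hS (by omega)]; congr 1; omega
  obtain ⟨m, hm, hmE⟩ := h.exists_notMem h4.ge
  obtain ⟨u, hc, -⟩ := h.core hZ hW (fun x hx => hdeg m hm x (hE1 hx)) (hcen m hm) hmE
  have hle : gam X (n - 4) ≤ normalizer (E : Set X) := fun g hg => h.mem_normalizer fun x hx => by
    rw [show g * x * g⁻¹ = ⁅g, x⁆ * x by rw [commutatorElement_def]; group]
    exact E.mul_mem (hZ (hdeg g hg x (hE1 hx))) hx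
  have hN : gam X (n - 4) = normalizer (E : Set X) :=
    Subgroup.eq_of_le_of_card_ge hle (by rw [hc.card_N, h4])
  have hEg : E ≤ gam X (n - 4) := hN ▸ Subgroup.le_normalizer
  rcases (show n = 5 ∨ 6 ≤ n by omega) with rfl | h6
  swap
  · have h1 : gam X 1 ≤ normalizer (E : Set X) := fun g hg => h.mem_normalizer fun x hx => by
      rw [show g * x * g⁻¹ = ⁅g, x⁆ * x by rw [commutatorElement_def]; group, ← commutatorElement_inv]
      exact E.mul_mem (E.inv_mem (hZ (hdeg x (hEg hx) g hg))) hx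
    have h2 := Subgroup.card_le_of_le h1
    rw [hc.card_N, card_gam hS (by omega)] at h2
    have := (Nat.pow_le_pow_iff_right hp.out.one_lt).1 h2
    omega
  -- `n = 5`
  have hL3 : Nat.card (gam X 2) = p ^ 3 := card_gam hS (by omega)
  have hLN : gam X 2 ≤ normalizer (E : Set X) := (gam_succ_le 1).trans hle
  have hLE : gam X 2 ≠ E := fun e => by
    have h1 := card_normalizer_normal hS le_rfl (gam X 2)
    rw [show (gam X 2 : Set X) = (E : Set X) by rw [e], hc.card_N] at h1
    exact lt_irrefl _ h1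
  have hup : u ^ p = 1 := h.exp u (hc.le hc.u_mem)
  have huZ : u ∈ gam X 4 := by
    obtain ⟨m', hm', hm'E⟩ : ∃ m' ∈ gam X 2, m' ∉ E := by
      by_contra hcon
      push Not at hcon
      exact hLE (Subgroup.eq_of_le_of_card_ge hcon (by rw [hL3, h.card]))
    obtain ⟨q, hq, hne⟩ := h.mem_moved hm'E
    exact mem_of_ne_one hup (hc.disp m' (hLN hm') q hq) hne
      (comm_deg hS hU 2 1 (by omega) le_rfl (by omega) (Subgroup.commutator_mem_commutator hm' (hE1 hq)))
  have hZu : gam X 4 = zpowers u := (Subgroup.eq_of_le_of_card_ge (Subgroup.zpowers_le.2 huZ) (by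
    rw [Nat.card_zpowers, orderOf_eq_prime hup hc.u_ne, card_gam hS (by omega)]; norm_num)).symm
  obtain ⟨e, heE, he2⟩ : ∃ e ∈ E, e ∉ gam X 2 := by
    by_contra hcon
    push Not at hcon
    exact hLE (Subgroup.eq_of_le_of_card_ge hcon (by rw [hL3, h.card])).symm
  obtain ⟨s, hs⟩ := exists_exact hS (i := 0) (by omega)
  have hy := exact_comm hS le_rfl (by omega) ⟨hE1 heE, he2⟩ (x := s) hs.2
  have hy' : Exact 2 ⁅s, e⁆ := commutatorElement_inv e s ▸ hy.inv
  have hflag := h.flag hc hW hp5 (L := gam X 2) (gam_succ_le 2) hLN hL3 hLE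
    (card_normalizer_normal hS le_rfl _) (x := s) heE (fun hw => he2 (gam_succ_le 2 hw)) hy'.1 hy'.2
    (comm_mem' (by omega) hy'.1 s) (fun w hw => hZu ▸ comm_mem' (by omega) hw s)
    (central hS huZ s).symm
  obtain ⟨w, hw⟩ := exists_exact hS (i := 3) (by omega)
  have hc3 : cen X (max 3 2) = gam X 1 := by
    by_contra hex
    obtain ⟨r, hr⟩ := even_of_exceptional hS hU hex
    omega
  refine (exact_comm hS (show 1 ≤ 3 by omega) (by omega) hw (x := s) (hc3 ▸ hs.2)).2 ?_
  rw [commutatorElement_eq_one_iff_commute.2 (hflag w hw.1).symm]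
  exact Subgroup.one_mem _

/-- The subgroup lies in the first centralizer and avoids the second centre. -/
theorem Setting.not_inside (h : Setting F p E) (hS : IsMC X p n) (hn : 5 ≤ n) (hp5 : 5 ≤ p)
    (hE1 : E ≤ gam X 1) (hZ : ¬ gam X (n - 2) ≤ E) : False := by
  have hU := upTo_three n X hS
  have hpp := hp.out
  obtain ⟨m, hm, hmE⟩ := SetLike.not_le_iff_exists.1 hZ
  set C := cen X (n - 2)
  have hC : ∀ g ∈ gam X (n - 2), ∀ w ∈ C, g * w = w * g := fun g hg w hw => by
    have h1 := mem_cen.1 hw g (by rw [← gam_eq (by omega)]; exact hg)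
    rw [show n - 2 + 1 = n - 1 by omega] at h1
    have h2 : ⁅g, w⁆ ∈ gam X n := by rw [gam_eq (by omega)]; exact h1
    rw [gam_bot hS le_rfl, Subgroup.mem_bot] at h2
    exact commutatorElement_eq_one_iff_mul_comm.1 h2
  have hEC : ¬ E ≤ C := fun hle => hmE (h.centralizer_le fun x hx => hC m hm x (hle hx))
  have hex : C ≠ gam X 1 := fun e => hEC (hE1.trans e.ge)
  obtain ⟨r, hr⟩ := even_of_exceptional hS hU hex
  set W := E ⊓ C
  have hWc : Nat.card W = p ^ 2 := by
    have h1 : C.relIndex E = p := ((Nat.dvd_prime hpp).1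
      ((index_cen hS (i := n - 2) (by omega) (by omega)) ▸ Subgroup.relIndex_dvd_index_of_normal C E)).resolve_left
      fun e => hEC (Subgroup.relIndex_eq_one.1 e)
    have h2 := Subgroup.relIndex_mul_relIndex ⊥ W E bot_le inf_le_left
    rw [Subgroup.relIndex_bot_left, Subgroup.relIndex_bot_left, h.card, Subgroup.inf_relIndex_left, h1,
      pow_succ] at h2
    exact Nat.eq_of_mul_eq_mul_right hpp.pos h2
  have hlast : ∀ z ∈ gam X (n - 1), z ∈ W := fun z hz =>
    ⟨h.centralizer_le fun x _ => (central hS hz x).eq,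
      gam_two_le_cen hS (by omega) (gam_anti (by omega) hz)⟩
  obtain ⟨u, hc, hmu⟩ := h.core (W := W) inf_le_left hWc
    (fun x _ => hlast _ (show _ ∈ gam X (n - 1) by
      have := comm_mem (show 1 ≤ n - 2 by omega) hm x
      rwa [show n - 2 + 1 = n - 1 by omega] at this))
    (fun w hw => hC m hm w hw.2) hmE
  have hup : u ^ p = 1 := h.exp u (hc.le hc.u_mem)
  have huZ : u ∈ gam X (n - 1) := by
    obtain ⟨q, hq, hne⟩ := h.mem_moved hmE
    refine mem_of_ne_one hup (hmu q hq) hne ?_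
    have := comm_mem (show 1 ≤ n - 2 by omega) hm q
    rwa [show n - 2 + 1 = n - 1 by omega] at this
  have hZu : gam X (n - 1) = zpowers u := (Subgroup.eq_of_le_of_card_ge (Subgroup.zpowers_le.2 huZ) (by
    rw [Nat.card_zpowers, orderOf_eq_prime hup hc.u_ne, card_gam hS (by omega),
      show n - (n - 1) = 1 by omega, pow_one])).symm
  have hL3 : Nat.card (gam X (n - 3)) = p ^ 3 := by rw [card_gam hS (by omega)]; congr 1; omega
  have hLN : gam X (n - 3) ≤ normalizer (E : Set X) := fun g hg => h.mem_normalizer fun x hx => by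
    rw [show g * x * g⁻¹ = ⁅g, x⁆ * x by rw [commutatorElement_def]; group]
    refine E.mul_mem (hlast _ ?_).1 hx
    have := comm_deg hS hU (n - 3) 1 (by omega) le_rfl (by omega)
      (Subgroup.commutator_mem_commutator hg (hE1 hx))
    rwa [show n - 3 + 1 + 1 = n - 1 by omega] at this
  obtain ⟨e, heE, heC⟩ := SetLike.not_le_iff_exists.1 hEC
  have heW : e ∉ W := fun hw => heC hw.2
  have he1 : Exact 1 e := ⟨hE1 heE, fun h2 => heC (gam_two_le_cen hS (by omega) h2)⟩
  have hLE : gam X (n - 3) ≠ E := fun heq =>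
    he1.2 (gam_anti (show 2 ≤ n - 3 by omega) (heq.ge heE))
  have hWL : W ≤ gam X (n - 3) := by
    have hle : E ⊓ gam X (n - 3) ≤ W := inf_le_inf_left E
      ((gam_anti (show 2 ≤ n - 3 by omega)).trans (gam_two_le_cen hS (by omega)))
    have h1 : E.relIndex (gam X (n - 3)) ≤ p := by
      have h2 := Subgroup.relIndex_mul_relIndex ⊥ E (normalizer (E : Set X)) bot_le Subgroup.le_normalizer
      rw [Subgroup.relIndex_bot_left, Subgroup.relIndex_bot_left, h.card, hc.card_N, pow_succ p 3] at h2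
      have h3 := Nat.eq_of_mul_eq_mul_left (pow_pos hpp.pos 3) h2
      rw [← h3]
      exact Subgroup.relIndex_le_of_le_right hLN (by rw [h3]; exact hpp.ne_zero)
    have h4 := Subgroup.relIndex_mul_relIndex ⊥ (E ⊓ gam X (n - 3)) (gam X (n - 3)) bot_le inf_le_right
    rw [Subgroup.relIndex_bot_left, Subgroup.relIndex_bot_left, hL3, Subgroup.inf_relIndex_right] at h4
    have h5 : p ^ 2 ≤ Nat.card (E ⊓ gam X (n - 3) : Subgroup X) := by
      refine Nat.le_of_mul_le_mul_right ?_ hpp.pos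
      rw [← pow_succ, ← h4]
      exact Nat.mul_le_mul_left _ h1
    exact (Subgroup.eq_of_le_of_card_ge hle (by rw [hWc]; exact h5)).ge.trans inf_le_right
  have hWnE : gam X (n - 3) ≤ normalizer (W : Set X) := fun b hb => mem_normalizer_of_forall fun w hw => by
    rw [hc.cent b (hLN hb) w hw, mul_inv_cancel_right]; exact hw
  -- elements of layer at least two normalizing `E`
  have hin : ∀ g ∈ gam X 2, g ∈ normalizer (E : Set X) → g ∈ gam X (n - 3) := by
    intro g hg hgN
    obtain ⟨g₀, hg₀, hg₀E⟩ : ∃ g₀ ∈ gam X (n - 3), g₀ ∉ E := by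
      by_contra hcon
      push Not at hcon
      exact hLE (Subgroup.eq_of_le_of_card_ge hcon (by rw [hL3, h.card]))
    obtain ⟨a, ha, k, rfl⟩ := mem_mul_zpow h.hX Subgroup.le_normalizer h.card hc.card_N (hLN hg₀) hg₀E
      le_rfl hgN
    have hk : g₀ ^ k ∈ gam X (n - 3) := Subgroup.zpow_mem _ hg₀ k
    have ha2 : a ∈ gam X 2 := (Subgroup.mul_mem_cancel_right _ (gam_anti (by omega) hk)).1 hg
    exact Subgroup.mul_mem _ (hWL ⟨ha, gam_two_le_cen hS (by omega) ha2⟩) hk
  rcases (show n = 6 ∨ 8 ≤ n by omega) with rfl | h8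
  swap
  · -- the normalizer of the normalizer would be too large
    obtain ⟨g₁, hg₁⟩ := exists_exact hS (i := n - 5) (by omega)
    obtain ⟨g₂, hg₂⟩ := exists_exact hS (i := n - 4) (by omega)
    have hcomm : ∀ {i : ℕ}, n - 5 ≤ i → ∀ g ∈ gam X i, ∀ q ∈ gam X (n - 3), Commute g q := by
      intro i hi g hg q hq
      have h1 := comm_gam_le (show 2 ≤ n - 5 by omega) (show 2 ≤ n - 3 by omega)
        (Subgroup.commutator_mem_commutator (gam_anti hi hg) hq)
      rw [gam_bot hS (by omega), Subgroup.mem_bot] at h1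
      exact commutatorElement_eq_one_iff_commute.1 h1
    have hnotN : ∀ g ∈ gam X (n - 5), g ∉ gam X (n - 3) → ⁅g, e⁆ ∉ W := by
      intro g hg hg3 hgW
      refine hg3 (hin g (gam_anti (by omega) hg) (h.mem_normalizer fun x hx => ?_))
      obtain ⟨w, hw, j, rfl⟩ := mem_mul_zpow h.hX hc.le hWc h.card heE heW (fun b hb =>
        mem_normalizer_of_forall fun w hw => by
          rw [hc.cent b (Subgroup.le_normalizer hb) w hw, mul_inv_cancel_right]; exact hw) hx
      rw [← MulAut.conj_apply, map_mul, map_zpow, MulAut.conj_apply, MulAut.conj_apply,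
        (hcomm le_rfl g hg w (hWL hw)).eq, mul_inv_cancel_right,
        show g * e * g⁻¹ = ⁅g, e⁆ * e by rw [commutatorElement_def]; group]
      exact E.mul_mem (hc.le hw) (E.zpow_mem (E.mul_mem (hc.le hgW) heE) j)
    set y := ⁅g₂, e⁆ with hy
    have hyL : y ∈ gam X (n - 3) := by
      have := comm_deg hS hU (n - 4) 1 (by omega) le_rfl (by omega)
        (Subgroup.commutator_mem_commutator hg₂.1 he1.1)
      exact gam_anti (by omega) this
    have hyW : y ∉ W := hnotN g₂ (gam_anti (by omega) hg₂.1) (by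
      have := hg₂.2
      rwa [show n - 4 + 1 = n - 3 by omega] at this)
    have h1L : ⁅g₁, e⁆ ∈ gam X (n - 3) := by
      have := comm_deg hS hU (n - 5) 1 (by omega) le_rfl (by omega)
        (Subgroup.commutator_mem_commutator hg₁.1 he1.1)
      rwa [show n - 5 + 1 + 1 = n - 3 by omega] at this
    obtain ⟨a, ha, k, hk⟩ := mem_mul_zpow h.hX hWL hWc hL3 hyL hyW hWnE h1L
    have hpow : ∀ j : ℤ, ⁅g₂ ^ j, e⁆ = y ^ j := by
      intro j
      have h1 : e * g₂ * e⁻¹ = y⁻¹ * g₂ := by rw [hy, commutatorElement_def]; group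
      have h2 : e * g₂ ^ j * e⁻¹ = y ^ (-j) * g₂ ^ j := by
        rw [← conj_zpow, h1, ((hcomm (by omega) g₂ hg₂.1 y hyL).symm.inv_left).mul_zpow, inv_zpow']
      rw [commutatorElement_def, show g₂ ^ j * e * (g₂ ^ j)⁻¹ * e⁻¹ = g₂ ^ j * (e * g₂ ^ j * e⁻¹)⁻¹ by group, h2]
      group
    set g := g₂ ^ (-k) * g₁
    have hgmem : g ∈ gam X (n - 5) :=
      Subgroup.mul_mem _ (Subgroup.zpow_mem _ (gam_anti (by omega) hg₂.1) _) hg₁.1
    refine hnotN g hgmem (fun h3 => hg₁.2 ?_) ?_
    · rw [show n - 5 + 1 = n - 4 by omega]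
      exact (Subgroup.mul_mem_cancel_left _ (Subgroup.zpow_mem _ hg₂.1 _)).1 (gam_anti (by omega) h3)
    · rw [show ⁅g, e⁆ = g₂ ^ (-k) * ⁅g₁, e⁆ * (g₂ ^ (-k))⁻¹ * ⁅g₂ ^ (-k), e⁆ by
          simp only [g, commutatorElement_def]; group,
        ((hcomm (by omega) g₂ hg₂.1 _ h1L).zpow_left (-k)).eq, mul_inv_cancel_right, hpow, hk]
      rw [mul_assoc, ← zpow_add, add_neg_cancel, zpow_zero, mul_one]
      exact ha
  -- `n = 6`
  obtain ⟨x, hx⟩ := exists_exact hS (i := 2) (by omega)
  have hy4 : ⁅x, e⁆ ∈ gam X 4 :=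
    comm_deg hS hU 2 1 (by omega) le_rfl (by omega) (Subgroup.commutator_mem_commutator hx.1 he1.1)
  have hG24 : ∀ g ∈ gam X 2, ∀ q ∈ gam X 4, Commute g q := fun g hg q hq => by
    have h1 := comm_gam_le le_rfl (show 2 ≤ 4 by omega) (Subgroup.commutator_mem_commutator hg hq)
    rw [gam_bot hS (by omega), Subgroup.mem_bot] at h1
    exact commutatorElement_eq_one_iff_commute.1 h1
  have hxW : ∀ w ∈ W, ⁅x, w⁆ ∈ gam X 5 := fun w hw =>
    comm_gam_le le_rfl (show 2 ≤ 3 by omega) (Subgroup.commutator_mem_commutator hx.1 (hWL hw))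
  have hyW : ⁅x, e⁆ ∉ W := fun hyW => hx.2 (hin x hx.1 (h.mem_normalizer fun q hq => by
    obtain ⟨w, hw, j, rfl⟩ := mem_mul_zpow h.hX hc.le hWc h.card heE heW (fun b hb =>
      mem_normalizer_of_forall fun w hw => by
        rw [hc.cent b (Subgroup.le_normalizer hb) w hw, mul_inv_cancel_right]; exact hw) hq
    rw [← MulAut.conj_apply, map_mul, map_zpow, MulAut.conj_apply, MulAut.conj_apply,
      show x * e * x⁻¹ = ⁅x, e⁆ * e by rw [commutatorElement_def]; group,
      show x * w * x⁻¹ = ⁅x, w⁆ * w by rw [commutatorElement_def]; group]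
    exact E.mul_mem (E.mul_mem (hlast _ (hxW w hw)).1 (hc.le hw)) (E.zpow_mem (E.mul_mem (hc.le hyW) heE) j)))
  have hflag := h.flag hc hWc hp5 (L := gam X 3) hWL hLN hL3 hLE (card_normalizer_normal hS hn _)
    (x := x) heE heW (gam_anti (by omega) hy4) hyW
    (by rw [commutatorElement_eq_one_iff_commute.2 (hG24 x hx.1 _ hy4)]; exact W.one_mem)
    (fun w hw => hZu ▸ hxW w hw) (central hS huZ x).symm
  obtain ⟨w, hw, hw4⟩ : ∃ w ∈ W, w ∉ gam X 4 := by
    by_contra hcon
    push Not at hcon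
    exact hZ ((Subgroup.eq_of_le_of_card_ge hcon (by rw [hWc, card_gam hS (by omega)])).ge.trans inf_le_left)
  obtain ⟨s, hs⟩ := exists_good hS hU
  obtain ⟨c, hc1⟩ := exists_exact hS (i := 1) (by omega)
  refine pair_ne hS hU hex hs hc1 (i := 2) (by omega) (by omega) ?_
  rw [commutatorElement_eq_one_iff_commute]
  obtain ⟨z, hz, k, hzk⟩ := exact_gen hS hx (chain_mem (s := s) hc1.1 (show 1 ≤ 2 by omega))
  obtain ⟨z', hz', l, hzl⟩ := exact_gen hS (i := 3) ⟨hWL hw, hw4⟩ (chain_mem (s := s) hc1.1 (show 1 ≤ 3 by omega))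
  rw [show 6 - 1 - 2 = 3 by rfl, hzk, hzl]
  have h33 : Commute z w := by
    have h1 := comm_gam_le (show 2 ≤ 3 by omega) (show 2 ≤ 3 by omega) (Subgroup.commutator_mem_commutator hz (hWL hw))
    rw [gam_bot hS (by omega), Subgroup.mem_bot] at h1
    exact commutatorElement_eq_one_iff_commute.1 h1
  exact ((hG24 z (gam_anti (by omega) hz) z' hz').mul_right (h33.zpow_right l)).mul_left
    ((hG24 x hx.1 z' hz').mul_right ((hflag w hw).zpow_right l) |>.zpow_left k)

end Cfsg.Agent.LocalFlavell.MaxClass
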