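import Cfsg.Agent.LocalFlavell.MaxClass.Linear
import Cfsg.Agent.Lib.Fusion.Alperin
import Cfsg.Agent.Lib.Fusion.CentricExt

/-!
An essential elementary abelian subgroup of order `p ^ 3` with an element of the normalizer centralizing
a hyperplane: the normalizer, the automorphisms stabilizing a flag, the torus.
-/

set_option autoImplicit false
set_option linter.unusedSectionVars false
set_option linter.style.haveILetI false

namespace Cfsg.Agent.LocalFlavell.MaxClass

open Cfsg Cfsg.FusionSystem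
open Cfsg.Agent.Fusion Cfsg.Agent.Fusion.Basic Cfsg.Agent.Fusion.Saturation
open Subgroup (zpowers normalizer mem_zpowers mem_zpowers_iff)
open scoped commutatorElement

variable {X : Type*} [Group X] [Finite X] {p : ℕ} [hp : Fact p.Prime] {F : FusionSystem (⊤ : Subgroup X)}
  {E W : Subgroup X} {u : X}

/-- The situation to be refuted. -/
structure Setting (F : FusionSystem (⊤ : Subgroup X)) (p : ℕ) (E : Subgroup X) : Prop where
  hX : IsPGroup p X
  hF : F.IsSaturated p
  hE : F.IsEssential p E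
  card : Nat.card E = p ^ 3
  comm : ∀ a ∈ E, ∀ b ∈ E, a * b = b * a
  exp : ∀ a ∈ E, a ^ p = 1

/-- Consequences of a transvection in `N(E)` with hyperplane `W` and centre `u`. -/
structure Core (F : FusionSystem (⊤ : Subgroup X)) (p : ℕ) (E W : Subgroup X) (u : X) : Prop where
  le : W ≤ E
  u_mem : u ∈ W
  u_ne : u ≠ 1
  card_N : Nat.card (normalizer (E : Set X)) = p ^ 4
  cent : ∀ g ∈ normalizer (E : Set X), ∀ w ∈ W, g * w = w * g
  disp : ∀ g ∈ normalizer (E : Set X), ∀ x ∈ E, ⁅g, x⁆ ∈ zpowers u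
  key : ∀ f, IsMap F E f → f u = u → (∀ w ∈ W, f w * w⁻¹ ∈ zpowers u) → (∀ x ∈ E, f x * x⁻¹ ∈ W) →
    ∃ g ∈ normalizer (E : Set X), ∀ x ∈ E, f x = g * x * g⁻¹
  torus : ∀ t h : ℤ, (p : ℤ) ∣ t * h - 1 → ∃ f, IsMap F (normalizer (E : Set X)) f ∧
    (∀ g ∈ normalizer (E : Set X), f g ∈ normalizer (E : Set X)) ∧ (∀ x ∈ E, f x ∈ E) ∧ f u = u ^ t ∧
    (∀ w ∈ W, f w * w⁻¹ ∈ zpowers u) ∧ ∀ x ∈ E, f x * (x ^ h)⁻¹ ∈ W

theorem Setting.centralizer_le (h : Setting F p E) {g : X} (hg : ∀ x ∈ E, g * x = x * g) : g ∈ E :=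
  centric_centralizerIn_le h.hE.1 ⟨Subgroup.mem_top g, fun x hx => (hg x hx).symm⟩

theorem Setting.top (h : Setting F p E) : IsPGroup p (⊤ : Subgroup X) := h.hX.to_subgroup ⊤

theorem normalizerIn_top (P : Subgroup X) : normalizerIn (⊤ : Subgroup X) P = normalizer (P : Set X) :=
  top_inf_eq _

theorem Setting.fullyNormalized (h : Setting F p E) {f : X → X} (hf : IsMap F E f) :
    Nat.card (normalizer (img f E : Set X)) ≤ Nat.card (normalizer (E : Set X)) := by
  have := h.hE.2.1.2 _ hf.isConj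
  rwa [normalizerIn_top, normalizerIn_top] at this

theorem Setting.mem_normalizer (h : Setting F p E) {g : X} (hg : ∀ x ∈ E, g * x * g⁻¹ ∈ E) :
    g ∈ normalizer (E : Set X) :=
  mem_normalizer_of_forall hg

/-- An extension step: it is enough to match the conjugations on `E`. -/
theorem Setting.mem_nSub (h : Setting F p E) {R : Subgroup X} {φ : X → X} (hφ : IsMap F R φ)
    (hER : E ≤ R) {g : X} (hg : g ∈ normalizer (R : Set X)) {a : X}
    (ha : ∀ x ∈ E, φ (g * x * g⁻¹) = a * φ x * a⁻¹) : g ∈ nSub (⊤ : Subgroup X) R φ := by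
  have hgR : ∀ x ∈ R, g * x * g⁻¹ ∈ R := fun x hx => (Subgroup.mem_normalizer_iff.1 hg x).1 hx
  have h1 : IsMap F R (fun x => φ (cj g x)) := hφ.comp (isMap_cj le_top (Subgroup.mem_top g)) hgR
  have h2 : IsMap F R (fun x => cj a (φ x)) :=
    (isMap_cj (F := F) (P := img φ R) le_top (Subgroup.mem_top a)).comp hφ fun x hx => mem_img_self φ hx
  obtain ⟨z, hz, -, hze⟩ := CentricExt.agree_on_centric h.top h.hF h.hE.1 hER h2 h1
    fun x hx => (ha x hx).symm
  refine Basic.mem_nSub.2 ⟨Subgroup.mem_top g, hg, a * φ z, Subgroup.mem_top _, fun x hx => ?_⟩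
  have h3 := hze x hx
  simp only [cj_apply] at h3
  rw [h3, hφ.map_mul (R.mul_mem (hER hz) hx) (R.inv_mem (hER hz)), hφ.map_mul (hER hz) hx,
    hφ.map_inv (hER hz)]
  group

/-- Extending a map to elements matched on `E`. -/
theorem Setting.extend (h : Setting F p E) {R R' : Subgroup X} {φ : X → X} (hφ : IsMap F R φ)
    (hER : E ≤ R) (hR : R' ≤ nSub (⊤ : Subgroup X) R φ) :
    ∃ ψ, IsMap F R' ψ ∧ ∀ x ∈ R, ψ x = φ x := by
  have hc : F.IsCentric (img φ R) :=
    centric_conj (CentricExt.centric_mono h.hE.1 hER le_top) hφ.isConj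
  obtain ⟨ψ, hψ, he⟩ := exists_extension h.top h.hF hφ (centric_fullyCentralized hc)
  exact ⟨ψ, hψ.restrict hR, he⟩

set_option maxHeartbeats 1000000 in
/-- The normalizer of `E`, the flag stabilizer and the torus. -/
theorem Setting.core (h : Setting F p E) (hWE : W ≤ E) (hW : Nat.card W = p ^ 2) {m : X}
    (hm : ∀ x ∈ E, ⁅m, x⁆ ∈ W) (hmW : ∀ w ∈ W, m * w = w * m) (hmE : m ∉ E) :
    ∃ u, Core F p E W u ∧ ∀ x ∈ E, ⁅m, x⁆ ∈ zpowers u := by
  have hpp := hp.out
  letI : CommGroup E :=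
    { (inferInstance : Group E) with mul_comm := fun a b => Subtype.ext (h.comm a a.2 b b.2) }
  have he : ∀ q : E, q ^ p = 1 := fun q => Subtype.ext (h.exp q q.2)
  have hEN : E ≤ normalizer (E : Set X) := Subgroup.le_normalizer
  set A := F.autGroup E with hA
  set NI := (Inn E).subgroupOf A with hNI
  haveI : NI.Normal := Alperin.inn_normal F E
  have hinn : ∀ α ∈ Inn E, α = 1 := fun α hα => by
    obtain ⟨g, hg, hge⟩ := mem_inn_iff.1 hα
    refine autFun_ext fun x hx => ?_
    rw [hge x hx, cj_apply, h.comm g hg x hx, autFun_one, id, mul_inv_cancel_right]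
  have hmk : Function.Injective (QuotientGroup.mk' NI) := by
    rw [← MonoidHom.ker_eq_bot_iff, QuotientGroup.ker_mk', Subgroup.eq_bot_iff_forall]
    exact fun α hα => Subtype.ext (hinn _ hα)
  obtain ⟨P, hP⟩ := (fullyNormalized_fullyAutomized h.top h.hF h.hE.2.1).2
  have hPmem : ∀ α : A, α ∈ (P : Subgroup A) ↔
      ∃ g ∈ normalizer (E : Set X), ∀ x ∈ E, autFun (α : MulAut E) x = cj g x := fun α => by
    rw [hP, Subgroup.mem_subgroupOf, mem_autInducedBy_iff', top_inf_eq]
  -- the subgroup controlling normalizers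
  set Y : Subgroup A := (Alperin.extGroup F E).subgroupOf A
  have hlt : E < (⊤ : Subgroup X) := Alperin.essential_lt h.top h.hF h.hE
  have hY : ∀ B : Subgroup A, B ≤ P → B ≠ ⊥ → normalizer (B : Set A) ≤ Y := by
    intro B hB hB1 a ha
    have hB' : B.map (QuotientGroup.mk' NI) ≤ Alperin.outS F E := Subgroup.map_mono (hP ▸ hB)
    have := Alperin.normalizer_le_map_extGroup h.top h.hF h.hE.2.1 hB'
      (fun e => hB1 (Subgroup.map_injective hmk (e.trans (Subgroup.map_bot _).symm)))
      (show QuotientGroup.mk' NI a ∈ normalizer (B.map (QuotientGroup.mk' NI) : Set (A ⧸ NI)) from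
        Subgroup.le_normalizer_map _ ⟨a, ha, rfl⟩)
    exact (Subgroup.mem_map_iff_mem hmk).1 this
  have hYtop : Y ≠ ⊤ := fun e => by
    rw [Subgroup.subgroupOf_eq_top] at e
    exact (Alperin.essential_iff h.top h.hF hlt h.hE.2.1).1 h.hE (le_antisymm (Alperin.extGroup_le le_top) e)
  -- the transvection
  have hmN : m ∈ normalizer (E : Set X) := h.mem_normalizer fun x hx => by
    rw [show m * x * m⁻¹ = ⁅m, x⁆ * x by rw [commutatorElement_def]; group]
    exact E.mul_mem (hWE (hm x hx)) hx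
  set aα : MulAut E := conjAut (⊤ : Subgroup X) E ⟨m, Subgroup.mem_top m, hmN⟩
  have haA : aα ∈ A := autInducedBy_le le_top (conjAut_range (⊤ : Subgroup X) E ▸ ⟨_, rfl⟩)
  set a : A := ⟨aα, haA⟩
  have haapp : ∀ x : E, ((aα x : E) : X) = m * x * m⁻¹ := fun _ => rfl
  have haP : a ∈ (P : Subgroup A) :=
    (hPmem a).2 ⟨m, hmN, fun x hx => conjAut_apply _ hx⟩
  have ha1 : a ≠ 1 := fun e => hmE (h.centralizer_le fun x hx => by
    have h1 := haapp ⟨x, hx⟩
    rw [show aα = 1 from congrArg Subtype.val e, MulAut.one_apply] at h1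
    exact (eq_mul_inv_iff_mul_eq.1 h1).symm)
  set W' : Subgroup E := W.subgroupOf E
  have hW'c : Nat.card W' = p ^ 2 := by rw [Nat.card_congr (Subgroup.subgroupOfEquivOfLe hWE).toEquiv, hW]
  have haW : ∀ x ∈ W', (a : MulAut E) x = x := fun x hx => Subtype.ext (by
    rw [haapp, hmW x (Subgroup.mem_subgroupOf.1 hx), mul_inv_cancel_right])
  have haQ : ∀ x, (a : MulAut E) x / x ∈ W' := fun x => by
    rw [Subgroup.mem_subgroupOf, Subgroup.coe_div, haapp, div_eq_mul_inv]
    exact hm x x.2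
  obtain ⟨hPa, u', hu'W, hu'1, hu', htor⟩ := Linear.main he
    (by rw [← h.card]) hY hYtop haP ha1 hW'c haW haQ
  set u : X := (u' : X)
  have hmu : ∀ x ∈ E, ⁅m, x⁆ ∈ zpowers u := fun x hx => by
    obtain ⟨k, hk⟩ := mem_zpowers_iff.1 (hu' ⟨x, hx⟩)
    refine mem_zpowers_iff.2 ⟨k, ?_⟩
    have := congrArg Subtype.val hk
    rw [Subgroup.coe_zpow, Subgroup.coe_div, haapp, div_eq_mul_inv] at this
    exact this
  have hap : orderOf a = p := by
    refine orderOf_eq_prime (Subtype.ext ?_) ha1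
    have ht : Linear.Trans (aα : MulAut E) W' u' := ⟨hu'W, haW, hu'⟩
    simpa using ht.pow_eq he
  have hind : autInducedBy (⊤ : Subgroup X) E = (zpowers a).map A.subtype := by
    rw [← hPa, hP, Subgroup.map_subgroupOf_eq_of_le (autInducedBy_le le_top)]
  have hN : Nat.card (normalizer (E : Set X)) = p ^ 4 := by
    have h1 := card_autInducedBy_mul' (S := (⊤ : Subgroup X)) (P := E)
    rw [normalizerIn_top, hind, Subgroup.card_map_of_injective A.subtype_injective, Nat.card_zpowers, hap,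
      show centralizerIn (⊤ : Subgroup X) E = E from le_antisymm (centric_centralizerIn_le h.hE.1)
        fun x hx => ⟨Subgroup.mem_top x, fun y hy => h.comm y hy x hx⟩, h.card] at h1
    rw [← h1]; ring
  -- elements of the normalizer act as powers of `a`
  have hnorm : ∀ g ∈ normalizer (E : Set X), ∃ k : ℤ, ∀ x : E, g * x * g⁻¹ = (((a : MulAut E) ^ k) x : E) := by
    intro g hg
    have hgA : conjAut (⊤ : Subgroup X) E ⟨g, Subgroup.mem_top g, hg⟩ ∈ autInducedBy (⊤ : Subgroup X) E :=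
      conjAut_range (⊤ : Subgroup X) E ▸ ⟨_, rfl⟩
    rw [hind] at hgA
    obtain ⟨c, hc, hce⟩ := hgA
    obtain ⟨k, rfl⟩ := mem_zpowers_iff.1 hc
    refine ⟨k, fun x => ?_⟩
    rw [show (a : MulAut E) ^ k = conjAut (⊤ : Subgroup X) E ⟨g, Subgroup.mem_top g, hg⟩ from hce]
    rfl
  have hcent : ∀ g ∈ normalizer (E : Set X), ∀ w ∈ W, g * w = w * g := fun g hg w hw => by
    obtain ⟨k, hk⟩ := hnorm g hg
    have h1 := hk ⟨w, hWE hw⟩
    rw [Linear.zpow_fix (haW _ (Subgroup.mem_subgroupOf.2 hw)) k] at h1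
    exact mul_inv_eq_iff_eq_mul.1 h1
  have hdisp : ∀ g ∈ normalizer (E : Set X), ∀ x ∈ E, ⁅g, x⁆ ∈ zpowers u := fun g hg x hx => by
    obtain ⟨k, hk⟩ := hnorm g hg
    have h2 : ((a : MulAut E) ^ k) ⟨x, hx⟩ / (⟨x, hx⟩ : E) ∈ zpowers u' := by
      obtain ⟨r, hr⟩ := mem_zpowers_iff.1 (hu' ⟨x, hx⟩)
      have := Fusion.RankTwoResistant.transvection_zpow (σ := (a : MulAut E)) (y := u') (w := (⟨x, hx⟩ : E)) (r := r)
        (haW u' hu'W) (by rw [hr, mul_div_cancel]) k 1 0
      simp only [zpow_one, zpow_zero, mul_one] at this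
      rw [this]
      simp only [mul_div_cancel_left]
      exact zpow_mem (mem_zpowers u') _
    obtain ⟨r, hr⟩ := mem_zpowers_iff.1 h2
    refine mem_zpowers_iff.2 ⟨r, ?_⟩
    have := congrArg Subtype.val hr
    rw [Subgroup.coe_zpow, Subgroup.coe_div, ← hk ⟨x, hx⟩, div_eq_mul_inv] at this
    exact this
  -- the stabilizer of the flag
  have huord : orderOf u' = p := orderOf_eq_prime (he u') hu'1
  let D : ℕ → Subgroup E := fun i => if i = 0 then ⊥ else if i = 1 then zpowers u' else if i = 2 then W' else ⊤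
  have hDmono : ∀ i < 3, D i ≤ D (i + 1) := by
    intro i hi
    interval_cases i <;> simp [D, hu'W]
  have hkey : ∀ β : A, (β : MulAut E) u' = u' → (∀ w ∈ W', (β : MulAut E) w / w ∈ zpowers u') →
      (∀ x, (β : MulAut E) x / x ∈ W') → β ∈ (P : Subgroup A) := by
    intro β hβu hβW hβQ
    have hpres : ∀ c : MulAut E, c u' = u' → (∀ w ∈ W', c w / w ∈ zpowers u') →
        ∀ i ≤ 3, ∀ x ∈ D i, c x ∈ D i := by
      intro c hcu hcW i hi x hx
      interval_cases i
      · simp only [D, if_true, Subgroup.mem_bot] at hx ⊢; rw [hx, map_one]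
      · simp only [D, one_ne_zero, if_false, if_true] at hx ⊢
        obtain ⟨k, rfl⟩ := mem_zpowers_iff.1 hx
        rw [map_zpow, hcu]; exact zpow_mem (mem_zpowers u') k
      · simp only [D, show (2 : ℕ) ≠ 0 by omega, show (2 : ℕ) ≠ 1 by omega, if_false, if_true] at hx ⊢
        have := W'.mul_mem (Subgroup.zpowers_le.2 hu'W (hcW x hx)) hx
        rwa [div_mul_cancel] at this
      · simp [D]
    have hstab : ∀ c : MulAut E, c u' = u' → (∀ w ∈ W', c w / w ∈ zpowers u') →
        (∀ x, c x / x ∈ W') → ∃ k : ℕ, c ^ p ^ k = 1 := by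
      intro c hcu hcW hcQ
      refine Normal.exists_pow_eq_one_of_stabilizes (p := p) (Linear.isPGroup_of_pow he) D 3 rfl rfl hDmono c
        fun i hi x hx => ?_
      rw [← div_eq_inv_mul]
      interval_cases i
      · simp only [D, zero_add, one_ne_zero, if_false, if_true, Subgroup.mem_bot] at hx ⊢
        obtain ⟨k, rfl⟩ := mem_zpowers_iff.1 hx
        rw [map_zpow, hcu, div_self']
      · simp only [D, one_ne_zero, if_false, if_true, show (1 + 1 : ℕ) ≠ 0 by omega,
          show (1 + 1 : ℕ) ≠ 1 by omega] at hx ⊢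
        exact hcW x hx
      · simp only [D, show (2 : ℕ) ≠ 0 by omega, show (2 : ℕ) ≠ 1 by omega, if_false, if_true]
        exact hcQ x
    have hau : (a : MulAut E) u' = u' := haW u' hu'W
    have haW' : ∀ w ∈ W', (a : MulAut E) w / w ∈ zpowers u' := fun w hw => by
      rw [haW w hw, div_self']; exact one_mem _
    have hp1 : IsPGroup p (Subgroup.closure ({(a : MulAut E), (β : MulAut E)} : Set (MulAut E))) := by
      refine Linear.isPGroup_closure (Linear.isPGroup_of_pow he) _ D 3 rfl rfl hDmono ?_ ?_ ?_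
      · intro i hi
        interval_cases i
        · simp only [D, if_true, one_ne_zero, if_false, zero_add, Subgroup.relIndex_bot_left,
            Nat.card_zpowers, huord, le_refl]
        · simp only [D, if_true, one_ne_zero, if_false, show (1 + 1 : ℕ) ≠ 0 by omega,
            show (1 + 1 : ℕ) ≠ 1 by omega]
          have h1 := Subgroup.relIndex_mul_relIndex ⊥ (zpowers u') W' bot_le (Subgroup.zpowers_le.2 hu'W)
          rw [Subgroup.relIndex_bot_left, Subgroup.relIndex_bot_left, hW'c, Nat.card_zpowers, huord, pow_two] at h1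
          exact (Nat.eq_of_mul_eq_mul_left hpp.pos h1).le
        · simp only [D, show (2 : ℕ) ≠ 0 by omega, show (2 : ℕ) ≠ 1 by omega, if_false, if_true,
            show (2 + 1 : ℕ) ≠ 0 by omega, show (2 + 1 : ℕ) ≠ 1 by omega, show (2 + 1 : ℕ) ≠ 2 by omega,
            Subgroup.relIndex_top_right]
          have h1 := W'.card_mul_index
          rw [hW'c, h.card, pow_succ _ 2] at h1
          exact (Nat.eq_of_mul_eq_mul_left (pow_pos hpp.pos 2) h1).le
      · rintro c (rfl | rfl)
        · exact hstab _ hau haW' haQ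
        · exact hstab _ hβu hβW hβQ
      · rintro c (rfl | rfl)
        · exact hpres _ hau haW'
        · exact hpres _ hβu hβW
    set H := (Subgroup.closure ({(a : MulAut E), (β : MulAut E)} : Set (MulAut E))).subgroupOf A
    have hH : IsPGroup p H := hp1.comap_of_injective A.subtype A.subtype_injective
    have hPH : (P : Subgroup A) ≤ H := by
      rw [hPa, Subgroup.zpowers_le]
      exact Subgroup.mem_subgroupOf.2 (Subgroup.subset_closure (Or.inl rfl))
    rw [← P.3 hH hPH]
    exact Subgroup.mem_subgroupOf.2 (Subgroup.subset_closure (Or.inr rfl))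
  refine ⟨u, ⟨hWE, hu'W, fun e => hu'1 (Subtype.ext e), hN, hcent, hdisp, ?_, ?_⟩, hmu⟩
  · -- `key`
    intro f hf hfu hfW hfQ
    have himg : img f E = E := by
      refine eq_of_le_card (img_le fun x hx => ?_) hf.card_img.ge
      have := E.mul_mem (hWE (hfQ x hx)) hx
      rwa [inv_mul_cancel_right] at this
    obtain ⟨α, hα, hαe⟩ := hf.exists_aut himg
    have happ : ∀ x : E, ((α x : E) : X) = f x := fun x => by rw [← autFun_apply]; exact hαe x x.2
    obtain ⟨g, hg, hge⟩ := (hPmem ⟨α, hα⟩).1 (hkey ⟨α, hα⟩ (Subtype.ext (by rw [happ]; exact hfu))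
      (fun w hw => by
        obtain ⟨k, hk⟩ := mem_zpowers_iff.1 (hfW w hw)
        refine mem_zpowers_iff.2 ⟨k, Subtype.ext ?_⟩
        rw [Subgroup.coe_zpow, Subgroup.coe_div, happ, div_eq_mul_inv]
        exact hk)
      fun x => by
        rw [Subgroup.mem_subgroupOf, Subgroup.coe_div, happ, div_eq_mul_inv]
        exact hfQ x x.2)
    exact ⟨g, hg, fun x hx => by rw [← hαe x hx]; exact hge x hx⟩
  · -- the torus
    intro t s hts
    obtain ⟨δ, hδA, hδu, hδW, hδQ⟩ := htor t s hts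
    have hδ : IsMap F E (autFun δ) := isMap_of_mem_autGroup le_top hδA
    have happ : ∀ x : E, autFun δ (x : X) = (δ x : E) := fun x => autFun_apply δ x
    have hδQ' : ∀ x, δ x / x ^ s ∈ W' := hδQ
    have hsub : normalizer (E : Set X) ≤ nSub (⊤ : Subgroup X) E (autFun δ) := by
      intro g hg
      obtain ⟨k, hk⟩ := hnorm g hg
      have hβ : δ * (a : MulAut E) ^ k * δ⁻¹ ∈ A := mul_mem (mul_mem hδA (zpow_mem haA k)) (inv_mem hδA)
      have hfix : ∀ w ∈ W', (δ * (a : MulAut E) ^ k * δ⁻¹) w = w := by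
        intro w hw
        have hmap : W'.map δ.toMonoidHom = W' := by
          refine Subgroup.eq_of_le_of_card_ge ?_ (by
            rw [Subgroup.card_map_of_injective δ.injective])
          rintro _ ⟨y, hy, rfl⟩
          have := W'.mul_mem (Subgroup.zpowers_le.2 hu'W (hδW y hy)) hy
          rwa [div_mul_cancel] at this
        obtain ⟨y, hy, rfl⟩ := hmap.ge hw
        show δ (((a : MulAut E) ^ k) (δ⁻¹ (δ y))) = δ y
        rw [MulAut.inv_apply_self, Linear.zpow_fix (haW y hy)]
      obtain ⟨g', hg', hge⟩ := (hPmem ⟨_, hβ⟩).1 (hkey ⟨_, hβ⟩ (hfix u' hu'W)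
        (fun w hw => by rw [hfix w hw, div_self']; exact one_mem _) fun x => by
          obtain ⟨y, rfl⟩ := δ.surjective x
          show δ (((a : MulAut E) ^ k) (δ⁻¹ (δ y))) / δ y ∈ W'
          rw [MulAut.inv_apply_self, ← map_div]
          have hd : ((a : MulAut E) ^ k) y / y ∈ W' := by
            rw [Subgroup.mem_subgroupOf, Subgroup.coe_div, ← hk, div_eq_mul_inv]
            exact Subgroup.zpowers_le.2 (show u ∈ W from hu'W) (hdisp g hg y y.2)
          have := W'.mul_mem (Subgroup.zpowers_le.2 hu'W (hδW _ hd)) hd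
          rwa [div_mul_cancel] at this)
      refine Basic.mem_nSub.2 ⟨Subgroup.mem_top g, hg, g', Subgroup.mem_top g', fun x hx => ?_⟩
      have h1 := hge (δ ⟨x, hx⟩) (δ ⟨x, hx⟩).2
      rw [autFun_apply, MulAut.mul_apply, MulAut.mul_apply, MulAut.inv_apply_self, cj_apply] at h1
      rw [autFun_of_mem δ ((Subgroup.mem_normalizer_iff.1 hg x).1 hx), autFun_of_mem δ hx, ← h1]
      congr 2
      exact Subtype.ext (hk ⟨x, hx⟩)
    obtain ⟨f, hf, hfe⟩ := h.extend hδ le_rfl hsub
    have hfE : ∀ x ∈ E, f x ∈ E := fun x hx => by rw [hfe x hx]; exact autFun_mem δ hx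
    refine ⟨f, hf, fun g hg => h.mem_normalizer fun y hy => ?_, hfE, ?_, fun w hw => ?_, fun x hx => ?_⟩
    · obtain ⟨z, hz⟩ := δ.surjective ⟨y, hy⟩
      have h1 : f z = y := by rw [hfe z z.2, happ, hz]
      rw [← h1, ← hf.map_conj hg (hEN z.2)]
      exact hfE _ ((Subgroup.mem_normalizer_iff.1 hg z).1 z.2)
    · rw [hfe u (hWE hu'W), happ, hδu, Subgroup.coe_zpow]
    · obtain ⟨k, hk⟩ := mem_zpowers_iff.1 (hδW ⟨w, hWE hw⟩ hw)
      refine mem_zpowers_iff.2 ⟨k, ?_⟩
      have := congrArg Subtype.val hk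
      rw [Subgroup.coe_zpow, Subgroup.coe_div, ← happ, div_eq_mul_inv] at this
      rw [hfe w (hWE hw)]
      exact this
    · have := hδQ' ⟨x, hx⟩
      rw [Subgroup.mem_subgroupOf, Subgroup.coe_div, Subgroup.coe_zpow, ← happ, div_eq_mul_inv] at this
      rw [hfe x hx]
      exact this

end Cfsg.Agent.LocalFlavell.MaxClass
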